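import Cfsg.Agent.H29.J4S2
import Cfsg.Agent.H29.J4S3
import Cfsg.Agent.H29.J4S11
import Cfsg.Agent.H7.J4p

/-! The faithful model of `J4` by `112 × 112` matrices, and its Schur multiplier. -/

set_option autoImplicit false
set_option maxRecDepth 100000
set_option maxHeartbeats 400000

namespace H29
open Cfsg Cfsg.Spor H7.J4 J4m

theorem j4_card : Nat.card J4 = 86775571046077562880 := H7.JD.j_main.2.1.2

theorem j4_model : ∃ (ρ : J4 →* Matrix (Fin 112) (Fin 112) (ZMod 2)) (h : Function.Injective ρ),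
    List.Forall₂ (ar.model ρ h).R L1 [jx, jy, jy⁻¹, jt, je] := by
  obtain ⟨φ, h0⟩ := ex_phi
  have s : Std ar.gM := ⟨rfl, rfl, rfl⟩
  have h := f1 s h0
  have := H7.JD.j_main.2.1.1
  have hi : Function.Injective φ := by
    rw [← MonoidHom.ker_eq_bot_iff]
    refine (φ.normal_ker.eq_bot_or_eq_top).resolve_right fun k => s.ne h (.v 0) (.v 9) (by decide +kernel) ?_
    exact (show jx ∈ φ.ker from k ▸ Subgroup.mem_top _)
  refine ⟨(Units.coeHom _).comp φ, Units.val_injective.comp hi, ?_⟩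
  rw [← map_inv] at h
  exact .cons (R_getD h 0) (.cons (R_getD h 1) (.cons (R_getD h 2) (.cons (R_getD h 3) (.cons (R_getD h 4) .nil))))

theorem j4_schur : Cfsg.HasCyclicSchurMultiplier J4 1 := by
  obtain ⟨ρ, hρ, h⟩ := j4_model
  have : Finite J4 := Nat.finite_of_card_ne_zero (by rw [j4_card]; norm_num)
  have s : Std (ar.model ρ hρ) := ⟨rfl, rfl, rfl⟩
  have v : ∀ c ∈ L1, (ar.model ρ hρ).In ⊤ c := fun c hc => by
    obtain ⟨i, -, rfl⟩ := exists_lgetD (ar.model ρ hρ).one hc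
    exact ⟨_, trivial, R_getD h i⟩
  have v2 : ∀ c ∈ j4h_g, (ar.model ρ hρ).In ⊤ c := s.map v [.v 0, .v 1, .v 4] (by decide +kernel)
  have v3 : ∀ c ∈ j4k_g, (ar.model ρ hρ).In ⊤ c := s.map v [.v 0, .v 1] (by decide +kernel)
  have v4 : ∀ c ∈ [ca, cb, ce], (ar.model ρ hρ).In ⊤ c := List.forall_mem_cons.2 ⟨s.slp v sa (by decide +kernel),
    List.forall_mem_cons.2 ⟨s.slp v sb (by decide +kernel), s.map v [.v 4] (by decide +kernel)⟩⟩
  have v11 : ∀ c ∈ j4q_g, (ar.model ρ hρ).In ⊤ c := s.map v4 [.v 0, .v 1, .v 2] (by decide +kernel)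
  obtain ⟨_, k2⟩ : ∃ St, Key (ar.model ρ hρ) St j4h1_key j4h1_fix := ar.keyP' _ _ _ _ (by decide +kernel)
  obtain ⟨_, k3⟩ : ∃ St, Key (ar.model ρ hρ) St j4k1_key j4k1_fix := ar.keyP' _ _ _ _ (by decide +kernel)
  obtain ⟨_, k11⟩ : ∃ St, Key (ar.model ρ hρ) St j4q1_key j4q1_fix := ar.keyP' _ _ _ _ (by decide +kernel)
  refine hasSchur_one_of_sbd j4_card (ps := [2, 3, 5, 7, 11, 23, 29, 31, 37, 43]) (l := [2, 3, 11])
    (by simp; norm_num) (by decide +kernel) ?_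
  simp only [List.forall_mem_cons]
  exact ⟨j4s2_sbd _ rfl rfl rfl v2 k2 j4_card, j4s3_sbd _ rfl rfl rfl v3 k3 j4_card,
    j4s11_sbd _ rfl rfl rfl v11 k11 j4_card, by simp⟩

end H29
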