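import Cfsg.Agent.H29.LeeG

set_option autoImplicit false
set_option maxRecDepth 100000
set_option linter.style.haveILetI false
set_option linter.unusedVariables false
set_option linter.style.longLine false
set_option linter.unusedTactic false
set_option linter.unreachableTactic false

namespace H29

noncomputable def cHSs3_gl : List ℕ := [nat_lit 0x986ce2006b3f200000056f1f5007bd48abdfb02f7d104f9d1a2bbfd4b0000a075f7b400000080053d1798003db01c27df3b15946f751c1f3a9314600e1819d6bea02f79159186ce3, nat_lit 0xc34e9e4159f920000013796fca5d75009be74617730785ef90adf7f9af7f5337e5beaffd10d480bf4c0ec1a3e1d5627d7a4c16d3b81459f206b4f42493d16bfe78c46f6c94434e9f]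
noncomputable def cHSs3_fg : List ℕ := [nat_lit 0xce52feb02f7d200000b1d000ca5d75104f9d080000e3a00090adf7028fc7056f1f0e1f27bdd581bf31193b2eba204fea2b290ddcb0545fe961f2f1c9d63dc7ebf6143fd58d4e52ff, nat_lit 0xc34e9e4805fb3da00013796f90adf7009be7081bf30785efca5d750040005337e50010003dd58065b2f1b65263d5627dc3bf69fe62297ff4595cf086e420e900000491cf69434e9f]
noncomputable def cHSs3_J : List Job := [.fu (nat_lit 0) [nat_lit 0, nat_lit 0, nat_lit 0] [] (nat_lit 0x40),
  .fu (nat_lit 0) [nat_lit 1, nat_lit 1, nat_lit 1] [] (nat_lit 0x84),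
  .fu (nat_lit 1) [nat_lit 2, nat_lit 3] [nat_lit 3, nat_lit 2] (nat_lit 0x20)]
noncomputable def cHSs3_l1 : List ℕ := [nat_lit 0x0, nat_lit 0x14, nat_lit 0x80, nat_lit 0x4]
noncomputable def cHSs3 : SchD where
  P := ⟨nat_lit 3, nat_lit 2, nat_lit 2, nat_lit 10, nat_lit 2, nat_lit 3, (pget (nat_lit 0x1c801) (nat_lit 5) (nat_lit 0x1f))⟩
  m1 := nat_lit 4
  nf := nat_lit 4
  rv := (pget (nat_lit 0xe0) (nat_lit 2) (nat_lit 0x3))
  dk := (pget (nat_lit 0x24) (nat_lit 3) (nat_lit 0x7))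
  gl := cHSs3_gl
  fg := cHSs3_fg
  fa := (pget (nat_lit 0xc) (nat_lit 1) (nat_lit 0x1))
  fr := (pget (nat_lit 0x321) (nat_lit 3) (nat_lit 0x7))
  fs := (pget (nat_lit 0x98a9) (nat_lit 4) (nat_lit 0xf))
  a := nat_lit 0
  es := []
  F := nat_lit 39
  c := nat_lit 2
  J := cHSs3_J
  l1 := lget cHSs3_l1
  l2 := fun _ => nat_lit 0

noncomputable def cHSs3L1_g : List ℕ := [nat_lit 0x986ce2006b3f200000056f1f5007bd48abdfb02f7d104f9d1a2bbfd4b0000a075f7b400000080053d1798003db01c27df3b15946f751c1f3a9314600e1819d6bea02f79159186ce3, nat_lit 0xc34e9e4159f920000013796fca5d75009be74617730785ef90adf7f9af7f5337e5beaffd10d480bf4c0ec1a3e1d5627d7a4c16d3b81459f206b4f42493d16bfe78c46f6c94434e9f]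
noncomputable def cHSs3L1_key : ℕ → ℕ := keyT a2_24.mul cHS1_key (nat_lit 0x47ecfe3da00064df39201f6b01d37d0e1f2777f38b081bf30010000100007b40000a075f74d445eff385ef96851c91a5c4fb91f792c36371d527f24afec8c19a1091300faec7ecff) (nat_lit 1929)
noncomputable def cHSs3L1_kt : ℕ → ℕ := pget (nat_lit 0x1da511000) (nat_lit 11) (nat_lit 0x7ff)
noncomputable def cHSs3L1_bt : ℕ → ℕ := pget (nat_lit 0x0) (nat_lit 1) (nat_lit 0x1)
noncomputable def cHSs3L1 : LvD where
  n := nat_lit 3
  g := cHSs3L1_g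
  T := [nat_lit 0x986ce2006b3f200000056f1f5007bd48abdfb02f7d104f9d1a2bbfd4b0000a075f7b400000080053d1798003db01c27df3b15946f751c1f3a9314600e1819d6bea02f79159186ce3, nat_lit 0xc34e9e4159f920000013796fca5d75009be74617730785ef90adf7f9af7f5337e5beaffd10d480bf4c0ec1a3e1d5627d7a4c16d3b81459f206b4f42493d16bfe78c46f6c94434e9f, nat_lit 0xc34e9eca5d75200000009be7461773201fe94159f95337e5081bf3beaffd201f6b01d37d0008005ed28493d16b7a927df9fa90fafe107dfa88324220e351a7630a00bb5610434e9f, nat_lit 0x986ce25007bd20000048abdfb02f7d084bdd006b3f0a075fffffff7b40001897df6e300001d4022f9135e1819ded127d8dbd15f7911b4bd52d6cf04aa6d3176ed0c8dfcd15186ce3]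
  ab := nat_lit 0x1001000000000000000000
  ia := nat_lit 0x3001002000
  ib := nat_lit 0x2002002002002002002002002002002002002002002002002002002002002002002002002002002002002002002002002002002002002002002002002002002002002002002002002002002002002002002002002002002002001003000002
  ent := pget (nat_lit 0xc18100) (nat_lit 8) (nat_lit 0xff)
  key := cHSs3L1_key
  ks := cHSs3L1_kt
  loc := locB cHSs3L1_key cHSs3L1_kt cHSs3L1_bt (nat_lit 11)

noncomputable def cHSs3L1_fix : ℕ → Bool := fixT a2_24.mul cHS1_fix (nat_lit 0x47ecfe3da00064df39201f6b01d37d0e1f2777f38b081bf30010000100007b40000a075f74d445eff385ef96851c91a5c4fb91f792c36371d527f24afec8c19a1091300faec7ecff) (nat_lit 0x8ffbde000eaf5f3ce36fc43f22076f550fb35337e5004000b6600041a6f9b1d000008000bf31194e7f050cdd31be0ffca38c017fb2a210d4803df8b1bc3039ac8141d08df60ffbdf)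

noncomputable def cHSs3L2_g : List ℕ := [nat_lit 0xc34e9eca5d75200000009be7461773201fe94159f95337e5081bf3beaffd201f6b01d37d0008005ed28493d16b7a927df9fa90fafe107dfa88324220e351a7630a00bb5610434e9f]
noncomputable def cHSs3L2_key : ℕ → ℕ := keyT a2_24.mul cHS1_key (nat_lit 0xdfc7de402dbb64df39201fe9100000008000b9eff7b66000000eaf081bf3e02e7f0069bfc4863a41f3a8c8090580b1f6a838a174e065c6f750800801e4d8717fe48aa018435fc7df) (nat_lit 818)
noncomputable def cHSs3L2_kt : ℕ → ℕ := pget (nat_lit 0x10f508000) (nat_lit 11) (nat_lit 0x7ff)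
noncomputable def cHSs3L2_bt : ℕ → ℕ := pget (nat_lit 0x0) (nat_lit 1) (nat_lit 0x1)
noncomputable def cHSs3L2 : LvD where
  n := nat_lit 3
  g := cHSs3L2_g
  T := [nat_lit 0xc34e9eca5d75200000009be7461773201fe94159f95337e5081bf3beaffd201f6b01d37d0008005ed28493d16b7a927df9fa90fafe107dfa88324220e351a7630a00bb5610434e9f, nat_lit 0x986ce2006b3f200000056f1f5007bd48abdfb02f7d104f9d1a2bbfd4b0000a075f7b400000080053d1798003db01c27df3b15946f751c1f3a9314600e1819d6bea02f79159186ce3]
  ab := nat_lit 0x0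
  ia := nat_lit 0x1000
  ib := nat_lit 0x1001001001001001001001001001001001001001001001001001001001001001001001001001001001001001001001001001001001001001001001001001001001001001001001001001001001001001001001001001001001001001000001
  ent := pget (nat_lit 0x6080) (nat_lit 7) (nat_lit 0x7f)
  key := cHSs3L2_key
  ks := cHSs3L2_kt
  loc := locB cHSs3L2_key cHSs3L2_kt cHSs3L2_bt (nat_lit 11)

noncomputable def cHSs3L2_fix : ℕ → Bool := fixT a2_24.mul cHS1_fix (nat_lit 0xdfc7de402dbb64df39201fe9100000008000b9eff7b66000000eaf081bf3e02e7f0069bfc4863a41f3a8c8090580b1f6a838a174e065c6f750800801e4d8717fe48aa018435fc7df) (nat_lit 0xc75eaeb02f7d2a2bfb080000a0ad7f48abdf3da0001897df04000001d37d90adf79b30008000115d6d4198c0d9bc0153b8cfb29dda2c39d451e84241032841ac81412cc1c5475eaf)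

noncomputable def cHSs3L3_g : List ℕ := []
noncomputable def cHSs3L3_ls : List Lv := []
noncomputable def cHSs3L2_ls : List Lv := cHSs3L2.lv a2_24.mul a2_24.one :: cHSs3L3_ls
noncomputable def cHSs3L1_ls : List Lv := cHSs3L1.lv a2_24.mul a2_24.one :: cHSs3L2_ls
noncomputable def cHSs3_aux : List ℕ := [nat_lit 0x986ce2006b3f200000056f1f5007bd48abdfb02f7d104f9d1a2bbfd4b0000a075f7b400000080053d1798003db01c27df3b15946f751c1f3a9314600e1819d6bea02f79159186ce3, nat_lit 0xc34e9e4159f920000013796fca5d75009be74617730785ef90adf7f9af7f5337e5beaffd10d480bf4c0ec1a3e1d5627d7a4c16d3b81459f206b4f42493d16bfe78c46f6c94434e9f, nat_lit 0xce52feb02f7d200000b1d000ca5d75104f9d080000e3a00090adf7028fc7056f1f0e1f27bdd581bf31193b2eba204fea2b290ddcb0545fe961f2f1c9d63dc7ebf6143fd58d4e52ff, nat_lit 0xc34e9e4805fb3da00013796f90adf7009be7081bf30785efca5d750040005337e50010003dd58065b2f1b65263d5627dc3bf69fe62297ff4595cf086e420e900000491cf69434e9f, nat_lit 0x47ecfe3da00064df39201f6b01d37d0e1f2777f38b081bf30010000100007b40000a075f74d445eff385ef96851c91a5c4fb91f792c36371d527f24afec8c19a1091300faec7ecff,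 nat_lit 0x8ffbde000eaf5f3ce36fc43f22076f550fb35337e5004000b6600041a6f9b1d000008000bf31194e7f050cdd31be0ffca38c017fb2a210d4803df8b1bc3039ac8141d08df60ffbdf, nat_lit 0xdfc7de402dbb64df39201fe9100000008000b9eff7b66000000eaf081bf3e02e7f0069bfc4863a41f3a8c8090580b1f6a838a174e065c6f750800801e4d8717fe48aa018435fc7df, nat_lit 0xc75eaeb02f7d2a2bfb080000a0ad7f48abdf3da0001897df04000001d37d90adf79b30008000115d6d4198c0d9bc0153b8cfb29dda2c39d451e84241032841ac81412cc1c5475eaf]
theorem cHSs3_sh : cHSs3.shapeOK = true := by decide +kernel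
theorem cHSs3_fin : cHSs3.finOK = true := by decide +kernel
theorem cHSs3_rel_0 : allR (cHSs3.relOK a2_24.mul Nat.beq a2_24.one) (nat_lit 0) (nat_lit 2) = true := by decide +kernel
theorem cHSs3_rel : ∀ j < nat_lit 2, (cHSs3.relOK a2_24.mul Nat.beq a2_24.one) j = true :=
  (allR_step (c := nat_lit 2) (fun _ h => absurd h (Nat.not_lt_zero _)) cHSs3_rel_0 (by decide))

theorem cHSs3_fus_0 : allR (cHSs3.fusOK a2_24.mul Nat.beq a2_24.one) (nat_lit 0) (nat_lit 4) = true := by decide +kernel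
theorem cHSs3_fus : ∀ j < nat_lit 4, (cHSs3.fusOK a2_24.mul Nat.beq a2_24.one) j = true :=
  (allR_step (c := nat_lit 4) (fun _ h => absurd h (Nat.not_lt_zero _)) cHSs3_fus_0 (by decide))

theorem cHSs3_job_0 : allR cHSs3.jobOK (nat_lit 0) (nat_lit 3) = true := by decide +kernel
theorem cHSs3_job : ∀ j < nat_lit 3, cHSs3.jobOK j = true :=
  (allR_step (c := nat_lit 3) (fun _ h => absurd h (Nat.not_lt_zero _)) cHSs3_job_0 (by decide))

theorem cHSs3L1_ok : cHSs3L1.ok a2_24.mul Nat.beq a2_24.one = true := by decide +kernel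
theorem cHSs3L1_next : cHSs3L1.nextOK a2_24.mul a2_24.one cHSs3L2_g (nat_lit 0x1000002000001) = true := by decide +kernel
theorem cHSs3L1_fx : allL cHSs3L1_fix cHSs3L2_g = true := by decide +kernel
theorem cHSs3L1_k_0 : allR (kchk cHSs3L1_key (cHSs3L1.lv a2_24.mul a2_24.one).U cHSs3L1_kt (nat_lit 3)) (nat_lit 0) (nat_lit 3) = true := by decide +kernel
theorem cHSs3L1_k : ∀ j < nat_lit 3, (kchk cHSs3L1_key (cHSs3L1.lv a2_24.mul a2_24.one).U cHSs3L1_kt (nat_lit 3)) j = true :=
  (allR_step (c := nat_lit 3) (fun _ h => absurd h (Nat.not_lt_zero _)) cHSs3L1_k_0 (by decide))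

theorem cHSs3L2_ok : cHSs3L2.ok a2_24.mul Nat.beq a2_24.one = true := by decide +kernel
theorem cHSs3L2_next : cHSs3L2.nextOK a2_24.mul a2_24.one cHSs3L3_g (nat_lit 0x0) = true := by decide +kernel
theorem cHSs3L2_fx : allL cHSs3L2_fix cHSs3L3_g = true := by decide +kernel
theorem cHSs3L2_k_0 : allR (kchk cHSs3L2_key (cHSs3L2.lv a2_24.mul a2_24.one).U cHSs3L2_kt (nat_lit 3)) (nat_lit 0) (nat_lit 3) = true := by decide +kernel
theorem cHSs3L2_k : ∀ j < nat_lit 3, (kchk cHSs3L2_key (cHSs3L2.lv a2_24.mul a2_24.one).U cHSs3L2_kt (nat_lit 3)) j = true :=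
  (allR_step (c := nat_lit 3) (fun _ h => absurd h (Nat.not_lt_zero _)) cHSs3L2_k_0 (by decide))

theorem cHSs3_auxok : slpR a2_24.mul a2_24.one (wdsOK a2_24.mul a2_24.one cHSs3_aux [nat_lit 0x100200f01a02003104d049, nat_lit 0x1002006010017016033033000001001055056, nat_lit 0x100200700c01701f035051040050, nat_lit 0x100200600f00d01f036001055056, nat_lit 0x100700c00f02301403301f03504a051, nat_lit 0x100200700c00f00c02001f01f04100104a055, nat_lit 0x100200702103302903c051051, nat_lit 0x100200700c00f02301a03101f041041040040]) (nat_lit 85) (nat_lit 0x1d03203a03400400000000300100000200000500500000400600000200000400000100400000001500000b00700000001200000200000300000f00500000e00d00100a00000000000100100000900300000200001600000b00700000800901100000000000000000000500000e00000300000c00000000100000000c00000f00000100000900f00800000000d00000a00900900000000000000100000500600000000000200000000000000700700100100000500f00000200000700000801600a00500f00000200001100000600300b00000400000800300c00d000002006000005001000004000002000000000000005005000002000000000000000000)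 cHS_g = true := by decide +kernel
theorem cHSs3_sbd {G : Type*} [Group G] (M : Model G) (h1 : M.mul = a2_24.mul) (h2 : M.eqb = Nat.beq)
    (h3 : M.one = a2_24.one) (vv : ∀ c ∈ cHS_g, M.In ⊤ c) {St : Subgroup G} (k1 : Key M St cHS1_key cHS1_fix) [Finite G]
    (hN : Nat.card G = 44352000) : SBd 3 0 G := by
  obtain ⟨R, one, mul, eqb, a1, a2, a3⟩ := M
  dsimp only at h1 h2 h3
  subst h1 h2 h3
  set M : Model G := ⟨R, a2_24.one, a2_24.mul, Nat.beq, a1, a2, a3⟩ with hM
  have va := in_of_slpW (M := M) _ vv cHSs3_auxok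
  obtain ⟨tcHSs3L1, hTcHSs3L1⟩ := exists_R va (c := (nat_lit 0x47ecfe3da00064df39201f6b01d37d0e1f2777f38b081bf30010000100007b40000a075f74d445eff385ef96851c91a5c4fb91f792c36371d527f24afec8c19a1091300faec7ecff)) (by (try dsimp only [M]); decide +kernel)
  have kcHSs3L1 : Key M (cjS St tcHSs3L1) cHSs3L1_key cHSs3L1_fix := k1.keyT hTcHSs3L1 (R_inv_of hTcHSs3L1 (exists_R va (c := (nat_lit 0x8ffbde000eaf5f3ce36fc43f22076f550fb35337e5004000b6600041a6f9b1d000008000bf31194e7f050cdd31be0ffca38c017fb2a210d4803df8b1bc3039ac8141d08df60ffbdf)) (by (try dsimp only [M]); decide +kernel)) (by (try dsimp only [M]); decide +kernel)) _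
  obtain ⟨tcHSs3L2, hTcHSs3L2⟩ := exists_R va (c := (nat_lit 0xdfc7de402dbb64df39201fe9100000008000b9eff7b66000000eaf081bf3e02e7f0069bfc4863a41f3a8c8090580b1f6a838a174e065c6f750800801e4d8717fe48aa018435fc7df)) (by (try dsimp only [M]); decide +kernel)
  have kcHSs3L2 : Key M (cjS St tcHSs3L2) cHSs3L2_key cHSs3L2_fix := k1.keyT hTcHSs3L2 (R_inv_of hTcHSs3L2 (exists_R va (c := (nat_lit 0xc75eaeb02f7d2a2bfb080000a0ad7f48abdf3da0001897df04000001d37d90adf79b30008000115d6d4198c0d9bc0153b8cfb29dda2c39d451e84241032841ac81412cc1c5475eaf)) (by (try dsimp only [M]); decide +kernel)) (by (try dsimp only [M]); decide +kernel)) _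
  have gcHSs3L1 : ∀ c ∈ cHSs3L1_g, M.In ⊤ c := valid_sub va (by (try dsimp only [M]); decide +kernel)
  have gcHSs3L2 := LvD.valid_next (D := cHSs3L1) gcHSs3L1 cHSs3L1_ok cHSs3L1_next
  have lcHSs3L1 := LvD.le_next (D := cHSs3L1) gcHSs3L1 cHSs3L1_ok cHSs3L1_next
  have gcHSs3L3 := LvD.valid_next (D := cHSs3L2) gcHSs3L2 cHSs3L2_ok cHSs3L2_next
  have lcHSs3L2 := LvD.le_next (D := cHSs3L2) gcHSs3L2 cHSs3L2_ok cHSs3L2_next
  have ccHSs3L3 : 1 ≤ Nat.card (M.cl cHSs3L3_g) := Nat.card_pos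
  have ccHSs3L2 : 3 ≤ Nat.card (M.cl cHSs3L2_g) := le_trans (by (try dsimp only [M]); decide +kernel) (LvD.lower (D := cHSs3L2) gcHSs3L2 cHSs3L2_ok ccHSs3L3 lcHSs3L2 kcHSs3L2 cHSs3L2_fx cHSs3L2_k)
  have ccHSs3L1 : 9 ≤ Nat.card (M.cl cHSs3L1_g) := le_trans (by (try dsimp only [M]); decide +kernel) (LvD.lower (D := cHSs3L1) gcHSs3L1 cHSs3L1_ok ccHSs3L2 lcHSs3L1 kcHSs3L1 cHSs3L1_fx cHSs3L1_k)
  exact SchD.sbd M cHSs3 (n := 2) (by norm_num) hN (valid_sub va (by (try dsimp only [M]); decide +kernel)) (valid_sub va (by (try dsimp only [M]); decide +kernel))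
    (le_trans (by norm_num) (ccHSs3L1.trans (Subgroup.card_le_of_le (Model.cl_mono (subL_spec (by (try dsimp only [M]); decide +kernel))))))
    (by decide +kernel) cHSs3_sh cHSs3_rel cHSs3_fus cHSs3_job cHSs3_fin

end H29
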