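import Cfsg.Agent.H29.Mat

set_option autoImplicit false
set_option maxRecDepth 100000
set_option linter.style.haveILetI false
set_option linter.unusedVariables false
set_option linter.style.longLine false
set_option linter.unusedTactic false
set_option linter.unreachableTactic false

namespace H29

noncomputable def a2_18_mul (A B : ℕ) : ℕ :=
  Nat.xor (Nat.xor (Nat.xor (Nat.xor (Nat.xor (Nat.xor (Nat.xor (Nat.xor (Nat.xor (Nat.xor (Nat.xor (Nat.xor (Nat.xor (Nat.xor (Nat.xor (Nat.xor (Nat.xor (Nat.xor (nat_lit 0)
    (Nat.mul (Nat.land (Nat.shiftRight B (nat_lit 0)) (nat_lit 0x40001000040001000040001000040001000040001000040001000040001000040001000040001)) (Nat.land (Nat.shiftRight A (nat_lit 0)) (nat_lit 0x3ffff))))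
    (Nat.mul (Nat.land (Nat.shiftRight B (nat_lit 1)) (nat_lit 0x40001000040001000040001000040001000040001000040001000040001000040001000040001)) (Nat.land (Nat.shiftRight A (nat_lit 18)) (nat_lit 0x3ffff))))
    (Nat.mul (Nat.land (Nat.shiftRight B (nat_lit 2)) (nat_lit 0x40001000040001000040001000040001000040001000040001000040001000040001000040001)) (Nat.land (Nat.shiftRight A (nat_lit 36)) (nat_lit 0x3ffff))))
    (Nat.mul (Nat.land (Nat.shiftRight B (nat_lit 3)) (nat_lit 0x40001000040001000040001000040001000040001000040001000040001000040001000040001)) (Nat.land (Nat.shiftRight A (nat_lit 54)) (nat_lit 0x3ffff))))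
    (Nat.mul (Nat.land (Nat.shiftRight B (nat_lit 4)) (nat_lit 0x40001000040001000040001000040001000040001000040001000040001000040001000040001)) (Nat.land (Nat.shiftRight A (nat_lit 72)) (nat_lit 0x3ffff))))
    (Nat.mul (Nat.land (Nat.shiftRight B (nat_lit 5)) (nat_lit 0x40001000040001000040001000040001000040001000040001000040001000040001000040001)) (Nat.land (Nat.shiftRight A (nat_lit 90)) (nat_lit 0x3ffff))))
    (Nat.mul (Nat.land (Nat.shiftRight B (nat_lit 6)) (nat_lit 0x40001000040001000040001000040001000040001000040001000040001000040001000040001)) (Nat.land (Nat.shiftRight A (nat_lit 108)) (nat_lit 0x3ffff))))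
    (Nat.mul (Nat.land (Nat.shiftRight B (nat_lit 7)) (nat_lit 0x40001000040001000040001000040001000040001000040001000040001000040001000040001)) (Nat.land (Nat.shiftRight A (nat_lit 126)) (nat_lit 0x3ffff))))
    (Nat.mul (Nat.land (Nat.shiftRight B (nat_lit 8)) (nat_lit 0x40001000040001000040001000040001000040001000040001000040001000040001000040001)) (Nat.land (Nat.shiftRight A (nat_lit 144)) (nat_lit 0x3ffff))))
    (Nat.mul (Nat.land (Nat.shiftRight B (nat_lit 9)) (nat_lit 0x40001000040001000040001000040001000040001000040001000040001000040001000040001)) (Nat.land (Nat.shiftRight A (nat_lit 162)) (nat_lit 0x3ffff))))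
    (Nat.mul (Nat.land (Nat.shiftRight B (nat_lit 10)) (nat_lit 0x40001000040001000040001000040001000040001000040001000040001000040001000040001)) (Nat.land (Nat.shiftRight A (nat_lit 180)) (nat_lit 0x3ffff))))
    (Nat.mul (Nat.land (Nat.shiftRight B (nat_lit 11)) (nat_lit 0x40001000040001000040001000040001000040001000040001000040001000040001000040001)) (Nat.land (Nat.shiftRight A (nat_lit 198)) (nat_lit 0x3ffff))))
    (Nat.mul (Nat.land (Nat.shiftRight B (nat_lit 12)) (nat_lit 0x40001000040001000040001000040001000040001000040001000040001000040001000040001)) (Nat.land (Nat.shiftRight A (nat_lit 216)) (nat_lit 0x3ffff))))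
    (Nat.mul (Nat.land (Nat.shiftRight B (nat_lit 13)) (nat_lit 0x40001000040001000040001000040001000040001000040001000040001000040001000040001)) (Nat.land (Nat.shiftRight A (nat_lit 234)) (nat_lit 0x3ffff))))
    (Nat.mul (Nat.land (Nat.shiftRight B (nat_lit 14)) (nat_lit 0x40001000040001000040001000040001000040001000040001000040001000040001000040001)) (Nat.land (Nat.shiftRight A (nat_lit 252)) (nat_lit 0x3ffff))))
    (Nat.mul (Nat.land (Nat.shiftRight B (nat_lit 15)) (nat_lit 0x40001000040001000040001000040001000040001000040001000040001000040001000040001)) (Nat.land (Nat.shiftRight A (nat_lit 270)) (nat_lit 0x3ffff))))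
    (Nat.mul (Nat.land (Nat.shiftRight B (nat_lit 16)) (nat_lit 0x40001000040001000040001000040001000040001000040001000040001000040001000040001)) (Nat.land (Nat.shiftRight A (nat_lit 288)) (nat_lit 0x3ffff))))
    (Nat.mul (Nat.land (Nat.shiftRight B (nat_lit 17)) (nat_lit 0x40001000040001000040001000040001000040001000040001000040001000040001000040001)) (Nat.land (Nat.shiftRight A (nat_lit 306)) (nat_lit 0x3ffff)))

theorem a2_18_eq (A B : ℕ) : a2_18_mul A B = mul2a 18 (nat_lit 0x40001000040001000040001000040001000040001000040001000040001000040001000040001) (nat_lit 0x3ffff) A B 18 := by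
  rfl

noncomputable def a2_18 : Ar 2 18 :=
  Ar.two 18 (nat_lit 0x800010000200004000080001000020000400008000100002000040000800010000200004000080001) (nat_lit 0x40001000040001000040001000040001000040001000040001000040001000040001000040001) (nat_lit 0x3ffff) a2_18_mul (by decide +kernel) (by decide +kernel)
    (by decide +kernel) (by decide +kernel) a2_18_eq

end H29
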