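import Cfsg.Agent.H29.Mat

set_option autoImplicit false
set_option maxRecDepth 100000
set_option linter.style.haveILetI false
set_option linter.unusedVariables false
set_option linter.style.longLine false
set_option linter.unusedTactic false
set_option linter.unreachableTactic false

namespace H29

noncomputable def a3_7_mul (A B : ℕ) : ℕ :=
  redP (nat_lit 3) (nat_lit 11) (nat_lit 5) (nat_lit 0xf0783c1e0f0783c1e0f0783c1e0f0783c1e0f0783c1e0f0783c1e0f0783c1e0f0783c1e0f0783c1e0f0783c1e0f0783c1e0f0783c1e0f) (Nat.add (Nat.add (Nat.add (Nat.add (Nat.add (Nat.add (Nat.add (nat_lit 0)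
    (Nat.mul (Nat.land (Nat.shiftRight B (nat_lit 0)) (nat_lit 0x7fc0000000000000ff80000000000001ff00000000000003fe00000000000007fc0000000000000ff80000000000001ff)) (Nat.land (Nat.shiftRight A (nat_lit 0)) (nat_lit 0x7fffffffffffffff))))
    (Nat.mul (Nat.land (Nat.shiftRight B (nat_lit 9)) (nat_lit 0x7fc0000000000000ff80000000000001ff00000000000003fe00000000000007fc0000000000000ff80000000000001ff)) (Nat.land (Nat.shiftRight A (nat_lit 63)) (nat_lit 0x7fffffffffffffff))))
    (Nat.mul (Nat.land (Nat.shiftRight B (nat_lit 18)) (nat_lit 0x7fc0000000000000ff80000000000001ff00000000000003fe00000000000007fc0000000000000ff80000000000001ff)) (Nat.land (Nat.shiftRight A (nat_lit 126)) (nat_lit 0x7fffffffffffffff))))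
    (Nat.mul (Nat.land (Nat.shiftRight B (nat_lit 27)) (nat_lit 0x7fc0000000000000ff80000000000001ff00000000000003fe00000000000007fc0000000000000ff80000000000001ff)) (Nat.land (Nat.shiftRight A (nat_lit 189)) (nat_lit 0x7fffffffffffffff))))
    (Nat.mul (Nat.land (Nat.shiftRight B (nat_lit 36)) (nat_lit 0x7fc0000000000000ff80000000000001ff00000000000003fe00000000000007fc0000000000000ff80000000000001ff)) (Nat.land (Nat.shiftRight A (nat_lit 252)) (nat_lit 0x7fffffffffffffff))))
    (Nat.mul (Nat.land (Nat.shiftRight B (nat_lit 45)) (nat_lit 0x7fc0000000000000ff80000000000001ff00000000000003fe00000000000007fc0000000000000ff80000000000001ff)) (Nat.land (Nat.shiftRight A (nat_lit 315)) (nat_lit 0x7fffffffffffffff))))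
    (Nat.mul (Nat.land (Nat.shiftRight B (nat_lit 54)) (nat_lit 0x7fc0000000000000ff80000000000001ff00000000000003fe00000000000007fc0000000000000ff80000000000001ff)) (Nat.land (Nat.shiftRight A (nat_lit 378)) (nat_lit 0x7fffffffffffffff))))

theorem a3_7_eq (A B : ℕ) : a3_7_mul A B = redP 3 11 5 (nat_lit 0xf0783c1e0f0783c1e0f0783c1e0f0783c1e0f0783c1e0f0783c1e0f0783c1e0f0783c1e0f0783c1e0f0783c1e0f0783c1e0f0783c1e0f) (mulNa 9 63 (nat_lit 0x7fc0000000000000ff80000000000001ff00000000000003fe00000000000007fc0000000000000ff80000000000001ff) (nat_lit 0x7fffffffffffffff) A B 7) := by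
  rfl

noncomputable def a3_7 : Ar 3 7 :=
  Ar.gen 3 7 9 11 5 (nat_lit 0x1000000000000000001000000000000000001000000000000000001000000000000000001000000000000000001000000000000000001) 63 (nat_lit 0x7fc0000000000000ff80000000000001ff00000000000003fe00000000000007fc0000000000000ff80000000000001ff) (nat_lit 0x7fffffffffffffff) (nat_lit 0xf0783c1e0f0783c1e0f0783c1e0f0783c1e0f0783c1e0f0783c1e0f0783c1e0f0783c1e0f0783c1e0f0783c1e0f0783c1e0f0783c1e0f) a3_7_mul (by decide +kernel) (by decide +kernel)
    (by decide +kernel) (by decide +kernel) (by decide +kernel) (by decide +kernel) (by decide +kernel)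
    (by decide +kernel) (by decide +kernel) (by decide +kernel) a3_7_eq

end H29
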