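import Cfsg.Agent.H29.Mat

set_option autoImplicit false
set_option maxRecDepth 100000
set_option linter.style.haveILetI false
set_option linter.unusedVariables false
set_option linter.style.longLine false
set_option linter.unusedTactic false
set_option linter.unreachableTactic false

namespace H29

noncomputable def a7_3_mul (A B : ℕ) : ℕ :=
  redP (nat_lit 7) (nat_lit 147) (nat_lit 10) (nat_lit 0xf003c00f003c00f003c00f003c00f) (Nat.add (Nat.add (Nat.add (nat_lit 0)
    (Nat.mul (Nat.land (Nat.shiftRight B (nat_lit 0)) (nat_lit 0x3fff0000000fffc0000003fff)) (Nat.land (Nat.shiftRight A (nat_lit 0)) (nat_lit 0x3ffffffffff))))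
    (Nat.mul (Nat.land (Nat.shiftRight B (nat_lit 14)) (nat_lit 0x3fff0000000fffc0000003fff)) (Nat.land (Nat.shiftRight A (nat_lit 42)) (nat_lit 0x3ffffffffff))))
    (Nat.mul (Nat.land (Nat.shiftRight B (nat_lit 28)) (nat_lit 0x3fff0000000fffc0000003fff)) (Nat.land (Nat.shiftRight A (nat_lit 84)) (nat_lit 0x3ffffffffff))))

theorem a7_3_eq (A B : ℕ) : a7_3_mul A B = redP 7 147 10 (nat_lit 0xf003c00f003c00f003c00f003c00f) (mulNa 14 42 (nat_lit 0x3fff0000000fffc0000003fff) (nat_lit 0x3ffffffffff) A B 3) := by
  rfl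

noncomputable def a7_3 : Ar 7 3 :=
  Ar.gen 7 3 14 147 10 (nat_lit 0x10000000000000100000000000001) 42 (nat_lit 0x3fff0000000fffc0000003fff) (nat_lit 0x3ffffffffff) (nat_lit 0xf003c00f003c00f003c00f003c00f) a7_3_mul (by decide +kernel) (by decide +kernel)
    (by decide +kernel) (by decide +kernel) (by decide +kernel) (by decide +kernel) (by decide +kernel)
    (by decide +kernel) (by decide +kernel) (by decide +kernel) a7_3_eq

end H29
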