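import Cfsg.Agent.H29.C2zD

set_option autoImplicit false
set_option maxRecDepth 100000
set_option linter.style.haveILetI false
set_option linter.unusedVariables false
set_option linter.style.longLine false
set_option linter.unusedTactic false
set_option linter.unreachableTactic false

namespace H29

theorem c2zK_ok : c2zK.ok a2_24.mul Nat.beq a2_24.one = true := by decide +kernel
theorem c2zK_k_0 : allR (kchk c2zK_key (cjU a2_24.mul (c2zK.lv a2_24.mul a2_24.one) (nat_lit 0x2bb000d747be6cefaef75fae9f47be53edbadccf1e747f1ee7dfaefc1dba0020003ce7be002800e345ddc0a804daf06d922030fb87fe002020002010e361d51b2210df96616cc001)) c2zK_kt (nat_lit 56925)) (nat_lit 0) (nat_lit 4000) = true := by decide +kernel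
theorem c2zK_k_1 : allR (kchk c2zK_key (cjU a2_24.mul (c2zK.lv a2_24.mul a2_24.one) (nat_lit 0x2bb000d747be6cefaef75fae9f47be53edbadccf1e747f1ee7dfaefc1dba0020003ce7be002800e345ddc0a804daf06d922030fb87fe002020002010e361d51b2210df96616cc001)) c2zK_kt (nat_lit 56925)) (nat_lit 4000) (nat_lit 4000) = true := by decide +kernel
theorem c2zK_k_2 : allR (kchk c2zK_key (cjU a2_24.mul (c2zK.lv a2_24.mul a2_24.one) (nat_lit 0x2bb000d747be6cefaef75fae9f47be53edbadccf1e747f1ee7dfaefc1dba0020003ce7be002800e345ddc0a804daf06d922030fb87fe002020002010e361d51b2210df96616cc001)) c2zK_kt (nat_lit 56925)) (nat_lit 8000) (nat_lit 4000) = true := by decide +kernel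
theorem c2zK_k_3 : allR (kchk c2zK_key (cjU a2_24.mul (c2zK.lv a2_24.mul a2_24.one) (nat_lit 0x2bb000d747be6cefaef75fae9f47be53edbadccf1e747f1ee7dfaefc1dba0020003ce7be002800e345ddc0a804daf06d922030fb87fe002020002010e361d51b2210df96616cc001)) c2zK_kt (nat_lit 56925)) (nat_lit 12000) (nat_lit 4000) = true := by decide +kernel
theorem c2zK_k_4 : allR (kchk c2zK_key (cjU a2_24.mul (c2zK.lv a2_24.mul a2_24.one) (nat_lit 0x2bb000d747be6cefaef75fae9f47be53edbadccf1e747f1ee7dfaefc1dba0020003ce7be002800e345ddc0a804daf06d922030fb87fe002020002010e361d51b2210df96616cc001)) c2zK_kt (nat_lit 56925)) (nat_lit 16000) (nat_lit 4000) = true := by decide +kernel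
theorem c2zK_k_5 : allR (kchk c2zK_key (cjU a2_24.mul (c2zK.lv a2_24.mul a2_24.one) (nat_lit 0x2bb000d747be6cefaef75fae9f47be53edbadccf1e747f1ee7dfaefc1dba0020003ce7be002800e345ddc0a804daf06d922030fb87fe002020002010e361d51b2210df96616cc001)) c2zK_kt (nat_lit 56925)) (nat_lit 20000) (nat_lit 4000) = true := by decide +kernel
theorem c2zK_k_6 : allR (kchk c2zK_key (cjU a2_24.mul (c2zK.lv a2_24.mul a2_24.one) (nat_lit 0x2bb000d747be6cefaef75fae9f47be53edbadccf1e747f1ee7dfaefc1dba0020003ce7be002800e345ddc0a804daf06d922030fb87fe002020002010e361d51b2210df96616cc001)) c2zK_kt (nat_lit 56925)) (nat_lit 24000) (nat_lit 4000) = true := by decide +kernel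
theorem c2zK_k_7 : allR (kchk c2zK_key (cjU a2_24.mul (c2zK.lv a2_24.mul a2_24.one) (nat_lit 0x2bb000d747be6cefaef75fae9f47be53edbadccf1e747f1ee7dfaefc1dba0020003ce7be002800e345ddc0a804daf06d922030fb87fe002020002010e361d51b2210df96616cc001)) c2zK_kt (nat_lit 56925)) (nat_lit 28000) (nat_lit 4000) = true := by decide +kernel
theorem c2zK_k_8 : allR (kchk c2zK_key (cjU a2_24.mul (c2zK.lv a2_24.mul a2_24.one) (nat_lit 0x2bb000d747be6cefaef75fae9f47be53edbadccf1e747f1ee7dfaefc1dba0020003ce7be002800e345ddc0a804daf06d922030fb87fe002020002010e361d51b2210df96616cc001)) c2zK_kt (nat_lit 56925)) (nat_lit 32000) (nat_lit 4000) = true := by decide +kernel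
theorem c2zK_k_9 : allR (kchk c2zK_key (cjU a2_24.mul (c2zK.lv a2_24.mul a2_24.one) (nat_lit 0x2bb000d747be6cefaef75fae9f47be53edbadccf1e747f1ee7dfaefc1dba0020003ce7be002800e345ddc0a804daf06d922030fb87fe002020002010e361d51b2210df96616cc001)) c2zK_kt (nat_lit 56925)) (nat_lit 36000) (nat_lit 4000) = true := by decide +kernel
theorem c2zK_k_10 : allR (kchk c2zK_key (cjU a2_24.mul (c2zK.lv a2_24.mul a2_24.one) (nat_lit 0x2bb000d747be6cefaef75fae9f47be53edbadccf1e747f1ee7dfaefc1dba0020003ce7be002800e345ddc0a804daf06d922030fb87fe002020002010e361d51b2210df96616cc001)) c2zK_kt (nat_lit 56925)) (nat_lit 40000) (nat_lit 4000) = true := by decide +kernel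
theorem c2zK_k_11 : allR (kchk c2zK_key (cjU a2_24.mul (c2zK.lv a2_24.mul a2_24.one) (nat_lit 0x2bb000d747be6cefaef75fae9f47be53edbadccf1e747f1ee7dfaefc1dba0020003ce7be002800e345ddc0a804daf06d922030fb87fe002020002010e361d51b2210df96616cc001)) c2zK_kt (nat_lit 56925)) (nat_lit 44000) (nat_lit 4000) = true := by decide +kernel
theorem c2zK_k_12 : allR (kchk c2zK_key (cjU a2_24.mul (c2zK.lv a2_24.mul a2_24.one) (nat_lit 0x2bb000d747be6cefaef75fae9f47be53edbadccf1e747f1ee7dfaefc1dba0020003ce7be002800e345ddc0a804daf06d922030fb87fe002020002010e361d51b2210df96616cc001)) c2zK_kt (nat_lit 56925)) (nat_lit 48000) (nat_lit 4000) = true := by decide +kernel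
theorem c2zK_k_13 : allR (kchk c2zK_key (cjU a2_24.mul (c2zK.lv a2_24.mul a2_24.one) (nat_lit 0x2bb000d747be6cefaef75fae9f47be53edbadccf1e747f1ee7dfaefc1dba0020003ce7be002800e345ddc0a804daf06d922030fb87fe002020002010e361d51b2210df96616cc001)) c2zK_kt (nat_lit 56925)) (nat_lit 52000) (nat_lit 4000) = true := by decide +kernel
theorem c2zK_k_14 : allR (kchk c2zK_key (cjU a2_24.mul (c2zK.lv a2_24.mul a2_24.one) (nat_lit 0x2bb000d747be6cefaef75fae9f47be53edbadccf1e747f1ee7dfaefc1dba0020003ce7be002800e345ddc0a804daf06d922030fb87fe002020002010e361d51b2210df96616cc001)) c2zK_kt (nat_lit 56925)) (nat_lit 56000) (nat_lit 925) = true := by decide +kernel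
theorem c2zQ1_ok : c2zQ1.ok a2_24.mul Nat.beq a2_24.one = true := by decide +kernel
theorem c2zQ1_next : c2zQ1.nextOK a2_24.mul a2_24.one c2zQ2_g (nat_lit 0x1d00000c00001c00001000000200001c00000f00000200000300000600000100000c) = true := by decide +kernel
theorem c2zQ1_fx : allL c2zQ1_fix c2zQ2_g = true := by decide +kernel
theorem c2zQ1_s_0 : allR (schk a2_24.mul Nat.beq a2_24.one c2zQ1_g (c2zQ1.lv a2_24.mul a2_24.one) c2zQ2_ls) (nat_lit 0) (nat_lit 32) = true := by decide +kernel
theorem c2zQ1_k_0 : allR (kchk c2zQ1_key (c2zQ1.lv a2_24.mul a2_24.one).U c2zQ1_kt (nat_lit 32)) (nat_lit 0) (nat_lit 32) = true := by decide +kernel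
theorem c2zQ2_ok : c2zQ2.ok a2_24.mul Nat.beq a2_24.one = true := by decide +kernel
theorem c2zQ2_next : c2zQ2.nextOK a2_24.mul a2_24.one c2zQ3_g (nat_lit 0x1000002000000000001000004000000000001000003000000) = true := by decide +kernel
theorem c2zQ2_fx : allL c2zQ2_fix c2zQ3_g = true := by decide +kernel
theorem c2zQ2_s_0 : allR (schk a2_24.mul Nat.beq a2_24.one c2zQ2_g (c2zQ2.lv a2_24.mul a2_24.one) c2zQ3_ls) (nat_lit 0) (nat_lit 2) = true := by decide +kernel
theorem c2zQ2_k_0 : allR (kchk c2zQ2_key (c2zQ2.lv a2_24.mul a2_24.one).U c2zQ2_kt (nat_lit 2)) (nat_lit 0) (nat_lit 2) = true := by decide +kernel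
theorem c2zQ3_ok : c2zQ3.ok a2_24.mul Nat.beq a2_24.one = true := by decide +kernel
theorem c2zQ3_next : c2zQ3.nextOK a2_24.mul a2_24.one c2zQ4_g (nat_lit 0x1000000000001000001000004000000) = true := by decide +kernel
theorem c2zQ3_fx : allL c2zQ3_fix c2zQ4_g = true := by decide +kernel
theorem c2zQ3_s_0 : allR (schk a2_24.mul Nat.beq a2_24.one c2zQ3_g (c2zQ3.lv a2_24.mul a2_24.one) c2zQ4_ls) (nat_lit 0) (nat_lit 2) = true := by decide +kernel
theorem c2zQ3_k_0 : allR (kchk c2zQ3_key (c2zQ3.lv a2_24.mul a2_24.one).U c2zQ3_kt (nat_lit 2)) (nat_lit 0) (nat_lit 2) = true := by decide +kernel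
theorem c2zQ4_ok : c2zQ4.ok a2_24.mul Nat.beq a2_24.one = true := by decide +kernel
theorem c2zQ4_next : c2zQ4.nextOK a2_24.mul a2_24.one c2zQ5_g (nat_lit 0x1000001000000) = true := by decide +kernel
theorem c2zQ4_fx : allL c2zQ4_fix c2zQ5_g = true := by decide +kernel
theorem c2zQ4_s_0 : allR (schk a2_24.mul Nat.beq a2_24.one c2zQ4_g (c2zQ4.lv a2_24.mul a2_24.one) c2zQ5_ls) (nat_lit 0) (nat_lit 2) = true := by decide +kernel
theorem c2zQ4_k_0 : allR (kchk c2zQ4_key (c2zQ4.lv a2_24.mul a2_24.one).U c2zQ4_kt (nat_lit 2)) (nat_lit 0) (nat_lit 2) = true := by decide +kernel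
theorem c2zQ5_ok : c2zQ5.ok a2_24.mul Nat.beq a2_24.one = true := by decide +kernel
theorem c2zQ5_next : c2zQ5.nextOK a2_24.mul a2_24.one c2zQ6_g (nat_lit 0x0) = true := by decide +kernel
theorem c2zQ5_fx : allL c2zQ5_fix c2zQ6_g = true := by decide +kernel
theorem c2zQ5_s_0 : allR (schk a2_24.mul Nat.beq a2_24.one c2zQ5_g (c2zQ5.lv a2_24.mul a2_24.one) c2zQ6_ls) (nat_lit 0) (nat_lit 2) = true := by decide +kernel
theorem c2zQ5_k_0 : allR (kchk c2zQ5_key (c2zQ5.lv a2_24.mul a2_24.one).U c2zQ5_kt (nat_lit 2)) (nat_lit 0) (nat_lit 2) = true := by decide +kernel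
theorem c2zC1_ok : c2zC1.ok a2_24.mul Nat.beq a2_24.one = true := by decide +kernel
theorem c2zC1_next : c2zC1.nextOK a2_24.mul a2_24.one c2zC2_g (nat_lit 0x800000e00000800000300001100000c00000700000500003200002600000300001500001600000b00001600002400000600000200002a000006000019) = true := by decide +kernel
theorem c2zC1_fx : allL c2zC1_fix c2zC2_g = true := by decide +kernel
theorem c2zC1_k_0 : allR (kchk c2zC1_key (c2zC1.lv a2_24.mul a2_24.one).U c2zC1_kt (nat_lit 56)) (nat_lit 0) (nat_lit 56) = true := by decide +kernel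
theorem c2zC2_ok : c2zC2.ok a2_24.mul Nat.beq a2_24.one = true := by decide +kernel
theorem c2zC2_next : c2zC2.nextOK a2_24.mul a2_24.one c2zC3_g (nat_lit 0x900000300000900000100001100000100001300000200001300000d00000000001100000500000400000b00000c000000000006) = true := by decide +kernel
theorem c2zC2_fx : allL c2zC2_fix c2zC3_g = true := by decide +kernel
theorem c2zC2_k_0 : allR (kchk c2zC2_key (c2zC2.lv a2_24.mul a2_24.one).U c2zC2_kt (nat_lit 27)) (nat_lit 0) (nat_lit 27) = true := by decide +kernel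
theorem c2zC3_ok : c2zC3.ok a2_24.mul Nat.beq a2_24.one = true := by decide +kernel
theorem c2zC3_next : c2zC3.nextOK a2_24.mul a2_24.one c2zC4_g (nat_lit 0x700000500000400000900000a000009000008000000000001000005000007000005) = true := by decide +kernel
theorem c2zC3_fx : allL c2zC3_fix c2zC4_g = true := by decide +kernel
theorem c2zC3_k_0 : allR (kchk c2zC3_key (c2zC3.lv a2_24.mul a2_24.one).U c2zC3_kt (nat_lit 10)) (nat_lit 0) (nat_lit 10) = true := by decide +kernel
theorem c2zC4_ok : c2zC4.ok a2_24.mul Nat.beq a2_24.one = true := by decide +kernel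
theorem c2zC4_next : c2zC4.nextOK a2_24.mul a2_24.one c2zC5_g (nat_lit 0x2000000000005000007000005000005000000000005000005000003000005) = true := by decide +kernel
theorem c2zC4_fx : allL c2zC4_fix c2zC5_g = true := by decide +kernel
theorem c2zC4_k_0 : allR (kchk c2zC4_key (c2zC4.lv a2_24.mul a2_24.one).U c2zC4_kt (nat_lit 8)) (nat_lit 0) (nat_lit 8) = true := by decide +kernel
theorem c2zC5_ok : c2zC5.ok a2_24.mul Nat.beq a2_24.one = true := by decide +kernel
theorem c2zC5_next : c2zC5.nextOK a2_24.mul a2_24.one c2zC6_g (nat_lit 0x6000003000001000008000001000001000003000002000000000003000001000003000003000003) = true := by decide +kernel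
theorem c2zC5_fx : allL c2zC5_fix c2zC6_g = true := by decide +kernel

end H29
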