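import Cfsg.Agent.H29.C2zD

set_option autoImplicit false
set_option maxRecDepth 100000
set_option linter.style.haveILetI false
set_option linter.unusedVariables false
set_option linter.style.longLine false
set_option linter.unusedTactic false
set_option linter.unreachableTactic false

namespace H29

theorem c2zC5_k_0 : allR (kchk c2zC5_key (c2zC5.lv a2_24.mul a2_24.one).U c2zC5_kt (nat_lit 4)) (nat_lit 0) (nat_lit 4) = true := by decide +kernel
theorem c2zC6_ok : c2zC6.ok a2_24.mul Nat.beq a2_24.one = true := by decide +kernel
theorem c2zC6_next : c2zC6.nextOK a2_24.mul a2_24.one c2zC7_g (nat_lit 0x200000200000200000200000200000200000100000200000100000100000b00000000000200000100000200000000000f00000200000100000900000100000200000200000200000000000d000000000001000001000001) = true := by decide +kernel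
theorem c2zC6_fx : allL c2zC6_fix c2zC7_g = true := by decide +kernel
theorem c2zC6_k_0 : allR (kchk c2zC6_key (c2zC6.lv a2_24.mul a2_24.one).U c2zC6_kt (nat_lit 3)) (nat_lit 0) (nat_lit 3) = true := by decide +kernel
theorem c2zC7_ok : c2zC7.ok a2_24.mul Nat.beq a2_24.one = true := by decide +kernel
theorem c2zC7_next : c2zC7.nextOK a2_24.mul a2_24.one c2zC8_g (nat_lit 0x0) = true := by decide +kernel
theorem c2zC7_fx : allL c2zC7_fix c2zC8_g = true := by decide +kernel
theorem c2zC7_k_0 : allR (kchk c2zC7_key (c2zC7.lv a2_24.mul a2_24.one).U c2zC7_kt (nat_lit 512)) (nat_lit 0) (nat_lit 512) = true := by decide +kernel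
theorem c2zG1_ok : c2zG1.ok c2zG_mul c2zG_eqb c2zG_one = true := by decide +kernel
theorem c2zG1_next : c2zG1.nextOK c2zG_mul c2zG_one c2zG2_g (nat_lit 0x1400000a00001400002e00000600000300001c00000300000f00001d00000c00001d00003300000300000600003500001100002400000900000800000900000e00000700000e) = true := by decide +kernel
theorem c2zG1_s_0 : allR (schk c2zG_mul c2zG_eqb c2zG_one c2zG1_g (c2zG1.lv c2zG_mul c2zG_one) c2zG2_ls) (nat_lit 0) (nat_lit 56) = true := by decide +kernel
theorem c2zG2_ok : c2zG2.ok c2zG_mul c2zG_eqb c2zG_one = true := by decide +kernel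
theorem c2zG2_next : c2zG2.nextOK c2zG_mul c2zG_one c2zG3_g (nat_lit 0x200000900000200001100000c00000f00000a00000a00000a) = true := by decide +kernel
theorem c2zG2_s_0 : allR (schk c2zG_mul c2zG_eqb c2zG_one c2zG2_g (c2zG2.lv c2zG_mul c2zG_one) c2zG3_ls) (nat_lit 0) (nat_lit 27) = true := by decide +kernel
theorem c2zG3_ok : c2zG3.ok c2zG_mul c2zG_eqb c2zG_one = true := by decide +kernel
theorem c2zG3_next : c2zG3.nextOK c2zG_mul c2zG_one c2zG4_g (nat_lit 0x6000003000006000000000002000000000002000000000002000004000000000007) = true := by decide +kernel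
theorem c2zG3_s_0 : allR (schk c2zG_mul c2zG_eqb c2zG_one c2zG3_g (c2zG3.lv c2zG_mul c2zG_one) c2zG4_ls) (nat_lit 0) (nat_lit 10) = true := by decide +kernel
theorem c2zG4_ok : c2zG4.ok c2zG_mul c2zG_eqb c2zG_one = true := by decide +kernel
theorem c2zG4_next : c2zG4.nextOK c2zG_mul c2zG_one c2zG5_g (nat_lit 0x2000002000005000000000006000000000006000006000004000005000006000006) = true := by decide +kernel
theorem c2zG4_s_0 : allR (schk c2zG_mul c2zG_eqb c2zG_one c2zG4_g (c2zG4.lv c2zG_mul c2zG_one) c2zG5_ls) (nat_lit 0) (nat_lit 8) = true := by decide +kernel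
theorem c2zG5_ok : c2zG5.ok c2zG_mul c2zG_eqb c2zG_one = true := by decide +kernel
theorem c2zG5_next : c2zG5.nextOK c2zG_mul c2zG_one c2zG6_g (nat_lit 0x3000003000002000001000002000000000003000002000003000003000004000003000001000001000000) = true := by decide +kernel
theorem c2zG5_s_0 : allR (schk c2zG_mul c2zG_eqb c2zG_one c2zG5_g (c2zG5.lv c2zG_mul c2zG_one) c2zG6_ls) (nat_lit 0) (nat_lit 4) = true := by decide +kernel
theorem c2zG6_ok : c2zG6.ok c2zG_mul c2zG_eqb c2zG_one = true := by decide +kernel
theorem c2zG6_next : c2zG6.nextOK c2zG_mul c2zG_one c2zG7_g (nat_lit 0x2000001000001000001000002000000000001000001000000000000000003000000000002000003000002000000000008000001000002000008000000000001000003000001000002000002000001) = true := by decide +kernel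
theorem c2zG6_s_0 : allR (schk c2zG_mul c2zG_eqb c2zG_one c2zG6_g (c2zG6.lv c2zG_mul c2zG_one) c2zG7_ls) (nat_lit 0) (nat_lit 3) = true := by decide +kernel
theorem c2zG7_ok : c2zG7.ok c2zG_mul c2zG_eqb c2zG_one = true := by decide +kernel
theorem c2zG7_next : c2zG7.nextOK c2zG_mul c2zG_one c2zG8_g (nat_lit 0x0) = true := by decide +kernel
theorem c2zG7_s_0 : allR (schk c2zG_mul c2zG_eqb c2zG_one c2zG7_g (c2zG7.lv c2zG_mul c2zG_one) c2zG8_ls) (nat_lit 0) (nat_lit 60) = true := by decide +kernel
theorem c2zG7_s_1 : allR (schk c2zG_mul c2zG_eqb c2zG_one c2zG7_g (c2zG7.lv c2zG_mul c2zG_one) c2zG8_ls) (nat_lit 60) (nat_lit 60) = true := by decide +kernel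
theorem c2zG7_s_2 : allR (schk c2zG_mul c2zG_eqb c2zG_one c2zG7_g (c2zG7.lv c2zG_mul c2zG_one) c2zG8_ls) (nat_lit 120) (nat_lit 60) = true := by decide +kernel
theorem c2zG7_s_3 : allR (schk c2zG_mul c2zG_eqb c2zG_one c2zG7_g (c2zG7.lv c2zG_mul c2zG_one) c2zG8_ls) (nat_lit 180) (nat_lit 60) = true := by decide +kernel
theorem c2zG7_s_4 : allR (schk c2zG_mul c2zG_eqb c2zG_one c2zG7_g (c2zG7.lv c2zG_mul c2zG_one) c2zG8_ls) (nat_lit 240) (nat_lit 60) = true := by decide +kernel
theorem c2zG7_s_5 : allR (schk c2zG_mul c2zG_eqb c2zG_one c2zG7_g (c2zG7.lv c2zG_mul c2zG_one) c2zG8_ls) (nat_lit 300) (nat_lit 60) = true := by decide +kernel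
theorem c2zG7_s_6 : allR (schk c2zG_mul c2zG_eqb c2zG_one c2zG7_g (c2zG7.lv c2zG_mul c2zG_one) c2zG8_ls) (nat_lit 360) (nat_lit 60) = true := by decide +kernel
theorem c2zG7_s_7 : allR (schk c2zG_mul c2zG_eqb c2zG_one c2zG7_g (c2zG7.lv c2zG_mul c2zG_one) c2zG8_ls) (nat_lit 420) (nat_lit 60) = true := by decide +kernel
theorem c2zG7_s_8 : allR (schk c2zG_mul c2zG_eqb c2zG_one c2zG7_g (c2zG7.lv c2zG_mul c2zG_one) c2zG8_ls) (nat_lit 480) (nat_lit 32) = true := by decide +kernel
theorem c2z_auxok : slpR a2_24.mul a2_24.one (wdsOK a2_24.mul a2_24.one c2z_aux [nat_lit 0x102102402b03304405005906506a07007c09508e0d20f5, nat_lit 0x102b03404203906105706706701c0f60ee01f, nat_lit 0x102103403f03f05905706a07e07009e01a09e01b0e4, nat_lit 0x102102402c03303003905805d05f07306707001d0940f50ee0e1, nat_lit 0x102102402c03401904205104a05f0680b30910db0c1, nat_lit 0x102102c05104a05d06506107306807e0780780c40d5, nat_lit 0x102103401904204404206506107e09e01e0160180c1, nat_lit 0x102102c03303f03f04a05f06a0710ae0790c20e6, nat_lit 0x102402c03304204204204a05d01506809e0970790ef0d60dd, nat_lit 0x102102402b03f05807c06807009207b0db0c1,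 nat_lit 0x102102b03404204205004a06505706907c07908e012013, nat_lit 0x102402c03404204203904a06a05707306809e07b0f50e4011, nat_lit 0x102402c03401905106501507307e06809e01c08f012, nat_lit 0x102103401903f0510580650570700b30960160ef0140de, nat_lit 0x102b03401904405004a0650150730680680b30960930130e3, nat_lit 0x102102b03403005005906a05f07007c09300e0e800f, nat_lit 0x102102c0340390610570730680ae00d0f60f60c3, nat_lit 0x102102c03401904503f05906506106a07c07000c0940e40b8, nat_lit 0x102402b03401903f03f04a05d0650610670670950170bb0c4, nat_lit 0x102102b03403005d06a07306807e07807b0f50bc0b9, nat_lit 0x102102b03401903003906105707e07009408f0d700b, nat_lit 0x102102c03f05105806506a05706806709801c00a0df0d9, nat_lit 0x102402c03f04a06506507e0680990780e00ef, nat_lit 0x102402c05004a06506507c0680700980960e5010009, nat_lit 0x103401903905906106106c07c07100c09701b0de, nat_lit 0x102102402b03404405006106c0b30780e00ef, nat_lit 0x102102c03404405f01506907c0900080e10c2, nat_lit 0x102402c03304205106106107e06909408e0e3007, nat_lit 0x102102404503f05905f06c07e0680af01a0f50b9005, nat_lit 0x102c03303f03905805f06a0730670730ae0970dc004,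 nat_lit 0x102403305907306707009701c0dc00f, nat_lit 0x102402c03405104205805705f07307e09e09300c0db010, nat_lit 0x102c03304204203905806a05d07c07006801d0940d80ba, nat_lit 0x102403404204405d06506107c0700680160920ef0070ba, nat_lit 0x102104205104a06506a05707c07008f0980f50bd007, nat_lit 0x102c04204205805f01507e07109e08f08e0de003, nat_lit 0x102402c03405004a0610690b30170f50000e5, nat_lit 0x103304205d0150730670990780790f50f5006, nat_lit 0x102102c03005006a05f07109307a0ef0bd0db, nat_lit 0x102103401903004a06a07306807e09908f0e70e3]) (nat_lit 245) (nat_lit 0x10000e00000d401d0b40d80d30b70e20000e70e70bc0b508b0710b30c90a806f0cd0d201108608b0880a40850000cc0ca0a600e0c10ad0a40000c90cb0a504705608000007a0790d50c50140140020770a30bb0750000000710900790cf0000d50ba00200000800000200800700000000500000d01a00001900002700001a01400000000700000000601000000000f02800000002700700700000000d00000c00001900000700000000601f00002a00002500002d00002300001002d00000200000000000001500000f00300000000400001100000000200000000000001a00001e00000a00001700000001001500d00000000700000000501600000200000f00001500a00900700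000000300000200000300000400800000000200200000500400400700000500000400000e00d00200001700000b01400001500600600000000000001100000300000f00000e00300000100000000000002500000300000300003c00000c00f03a01f01800001b00001401800000000000001400001300001d00000000300000400000900200000000402800000000402900002901400001300002202100002101002000000500000000200700002000200001e00000200001d00201b00001700001500000400000200000000000000000003800003600005500000004d00000600000200000802005000001e01f00003f02500000102602500100000001c01f04800000400000200000000000000000000300002900003f00001900e02100002300000000200001e01f02a00000300000100501b02e02700200002400000001e02a00001f01500000600002e00000600000100400700000002301c00000400002700000000000102401701d02400000900000500000200000901000400000800c01d00000400d00001300901800000600000900000f00000400000000200000001201100200000000000000700000d000004000002000000000000000000008008007000000004000002000000000000000000000000) c2_g = true := by decide +kernel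

end H29
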