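import Cfsg.Agent.H29.J3aD

set_option autoImplicit false
set_option maxRecDepth 100000
set_option linter.style.haveILetI false
set_option linter.unusedVariables false
set_option linter.style.longLine false
set_option linter.unusedTactic false
set_option linter.unreachableTactic false

namespace H29

theorem j3_auxok : eltsOK a2_18.mul a2_18.one j31_ls j3_aux [nat_lit 0x2656218, nat_lit 0xe49210, nat_lit 0x1a7a, nat_lit 0x480d, nat_lit 0xd39fa, nat_lit 0x1a1422e, nat_lit 0x2eb7862, nat_lit 0x151029a, nat_lit 0x16ed, nat_lit 0x191f651, nat_lit 0xd470a4, nat_lit 0x1046fb1] = true := by decide +kernel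
theorem j31_ok : j31.ok a2_18.mul (eqbQ a2_18.mul Nat.beq a2_18.one j3zs) a2_18.one = true := by decide +kernel
theorem j31_next : j31.nextOK a2_18.mul a2_18.one j3A2_g (nat_lit 0x138b000027001f4d0039d8000071004d10) = true := by decide +kernel
theorem j31_fx : allL j31_fix j3A2_g = true := by decide +kernel
theorem j31_s_0 : allR (schk a2_18.mul (eqbQ a2_18.mul Nat.beq a2_18.one j3zs) a2_18.one j31_g (j31.lv a2_18.mul a2_18.one) j3A2_ls) (nat_lit 0) (nat_lit 800) = true := by decide +kernel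
theorem j31_s_1 : allR (schk a2_18.mul (eqbQ a2_18.mul Nat.beq a2_18.one j3zs) a2_18.one j31_g (j31.lv a2_18.mul a2_18.one) j3A2_ls) (nat_lit 800) (nat_lit 800) = true := by decide +kernel
theorem j31_s_2 : allR (schk a2_18.mul (eqbQ a2_18.mul Nat.beq a2_18.one j3zs) a2_18.one j31_g (j31.lv a2_18.mul a2_18.one) j3A2_ls) (nat_lit 1600) (nat_lit 800) = true := by decide +kernel
theorem j31_s_3 : allR (schk a2_18.mul (eqbQ a2_18.mul Nat.beq a2_18.one j3zs) a2_18.one j31_g (j31.lv a2_18.mul a2_18.one) j3A2_ls) (nat_lit 2400) (nat_lit 800) = true := by decide +kernel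
theorem j31_s_4 : allR (schk a2_18.mul (eqbQ a2_18.mul Nat.beq a2_18.one j3zs) a2_18.one j31_g (j31.lv a2_18.mul a2_18.one) j3A2_ls) (nat_lit 3200) (nat_lit 800) = true := by decide +kernel
theorem j31_s_5 : allR (schk a2_18.mul (eqbQ a2_18.mul Nat.beq a2_18.one j3zs) a2_18.one j31_g (j31.lv a2_18.mul a2_18.one) j3A2_ls) (nat_lit 4000) (nat_lit 800) = true := by decide +kernel
theorem j31_s_6 : allR (schk a2_18.mul (eqbQ a2_18.mul Nat.beq a2_18.one j3zs) a2_18.one j31_g (j31.lv a2_18.mul a2_18.one) j3A2_ls) (nat_lit 4800) (nat_lit 800) = true := by decide +kernel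
theorem j31_s_7 : allR (schk a2_18.mul (eqbQ a2_18.mul Nat.beq a2_18.one j3zs) a2_18.one j31_g (j31.lv a2_18.mul a2_18.one) j3A2_ls) (nat_lit 5600) (nat_lit 800) = true := by decide +kernel
theorem j31_s_8 : allR (schk a2_18.mul (eqbQ a2_18.mul Nat.beq a2_18.one j3zs) a2_18.one j31_g (j31.lv a2_18.mul a2_18.one) j3A2_ls) (nat_lit 6400) (nat_lit 800) = true := by decide +kernel
theorem j31_s_9 : allR (schk a2_18.mul (eqbQ a2_18.mul Nat.beq a2_18.one j3zs) a2_18.one j31_g (j31.lv a2_18.mul a2_18.one) j3A2_ls) (nat_lit 7200) (nat_lit 800) = true := by decide +kernel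
theorem j31_s_10 : allR (schk a2_18.mul (eqbQ a2_18.mul Nat.beq a2_18.one j3zs) a2_18.one j31_g (j31.lv a2_18.mul a2_18.one) j3A2_ls) (nat_lit 8000) (nat_lit 800) = true := by decide +kernel
theorem j31_s_11 : allR (schk a2_18.mul (eqbQ a2_18.mul Nat.beq a2_18.one j3zs) a2_18.one j31_g (j31.lv a2_18.mul a2_18.one) j3A2_ls) (nat_lit 8800) (nat_lit 800) = true := by decide +kernel
theorem j31_s_12 : allR (schk a2_18.mul (eqbQ a2_18.mul Nat.beq a2_18.one j3zs) a2_18.one j31_g (j31.lv a2_18.mul a2_18.one) j3A2_ls) (nat_lit 9600) (nat_lit 800) = true := by decide +kernel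
theorem j31_s_13 : allR (schk a2_18.mul (eqbQ a2_18.mul Nat.beq a2_18.one j3zs) a2_18.one j31_g (j31.lv a2_18.mul a2_18.one) j3A2_ls) (nat_lit 10400) (nat_lit 800) = true := by decide +kernel
theorem j31_s_14 : allR (schk a2_18.mul (eqbQ a2_18.mul Nat.beq a2_18.one j3zs) a2_18.one j31_g (j31.lv a2_18.mul a2_18.one) j3A2_ls) (nat_lit 11200) (nat_lit 800) = true := by decide +kernel
theorem j31_s_15 : allR (schk a2_18.mul (eqbQ a2_18.mul Nat.beq a2_18.one j3zs) a2_18.one j31_g (j31.lv a2_18.mul a2_18.one) j3A2_ls) (nat_lit 12000) (nat_lit 800) = true := by decide +kernel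
theorem j31_s_16 : allR (schk a2_18.mul (eqbQ a2_18.mul Nat.beq a2_18.one j3zs) a2_18.one j31_g (j31.lv a2_18.mul a2_18.one) j3A2_ls) (nat_lit 12800) (nat_lit 800) = true := by decide +kernel
theorem j31_s_17 : allR (schk a2_18.mul (eqbQ a2_18.mul Nat.beq a2_18.one j3zs) a2_18.one j31_g (j31.lv a2_18.mul a2_18.one) j3A2_ls) (nat_lit 13600) (nat_lit 800) = true := by decide +kernel
theorem j31_s_18 : allR (schk a2_18.mul (eqbQ a2_18.mul Nat.beq a2_18.one j3zs) a2_18.one j31_g (j31.lv a2_18.mul a2_18.one) j3A2_ls) (nat_lit 14400) (nat_lit 800) = true := by decide +kernel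
theorem j31_s_19 : allR (schk a2_18.mul (eqbQ a2_18.mul Nat.beq a2_18.one j3zs) a2_18.one j31_g (j31.lv a2_18.mul a2_18.one) j3A2_ls) (nat_lit 15200) (nat_lit 800) = true := by decide +kernel
theorem j31_s_20 : allR (schk a2_18.mul (eqbQ a2_18.mul Nat.beq a2_18.one j3zs) a2_18.one j31_g (j31.lv a2_18.mul a2_18.one) j3A2_ls) (nat_lit 16000) (nat_lit 800) = true := by decide +kernel
theorem j31_s_21 : allR (schk a2_18.mul (eqbQ a2_18.mul Nat.beq a2_18.one j3zs) a2_18.one j31_g (j31.lv a2_18.mul a2_18.one) j3A2_ls) (nat_lit 16800) (nat_lit 800) = true := by decide +kernel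
theorem j31_s_22 : allR (schk a2_18.mul (eqbQ a2_18.mul Nat.beq a2_18.one j3zs) a2_18.one j31_g (j31.lv a2_18.mul a2_18.one) j3A2_ls) (nat_lit 17600) (nat_lit 800) = true := by decide +kernel
theorem j31_s_23 : allR (schk a2_18.mul (eqbQ a2_18.mul Nat.beq a2_18.one j3zs) a2_18.one j31_g (j31.lv a2_18.mul a2_18.one) j3A2_ls) (nat_lit 18400) (nat_lit 800) = true := by decide +kernel
theorem j31_s_24 : allR (schk a2_18.mul (eqbQ a2_18.mul Nat.beq a2_18.one j3zs) a2_18.one j31_g (j31.lv a2_18.mul a2_18.one) j3A2_ls) (nat_lit 19200) (nat_lit 800) = true := by decide +kernel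
theorem j31_s_25 : allR (schk a2_18.mul (eqbQ a2_18.mul Nat.beq a2_18.one j3zs) a2_18.one j31_g (j31.lv a2_18.mul a2_18.one) j3A2_ls) (nat_lit 20000) (nat_lit 520) = true := by decide +kernel
theorem j31_k_0 : allR (kchk j31_key (j31.lv a2_18.mul a2_18.one).U j31_kt (nat_lit 20520)) (nat_lit 0) (nat_lit 3200) = true := by decide +kernel
theorem j31_k_1 : allR (kchk j31_key (j31.lv a2_18.mul a2_18.one).U j31_kt (nat_lit 20520)) (nat_lit 3200) (nat_lit 3200) = true := by decide +kernel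
theorem j31_k_2 : allR (kchk j31_key (j31.lv a2_18.mul a2_18.one).U j31_kt (nat_lit 20520)) (nat_lit 6400) (nat_lit 3200) = true := by decide +kernel
theorem j31_k_3 : allR (kchk j31_key (j31.lv a2_18.mul a2_18.one).U j31_kt (nat_lit 20520)) (nat_lit 9600) (nat_lit 3200) = true := by decide +kernel
theorem j31_k_4 : allR (kchk j31_key (j31.lv a2_18.mul a2_18.one).U j31_kt (nat_lit 20520)) (nat_lit 12800) (nat_lit 3200) = true := by decide +kernel
theorem j31_k_5 : allR (kchk j31_key (j31.lv a2_18.mul a2_18.one).U j31_kt (nat_lit 20520)) (nat_lit 16000) (nat_lit 3200) = true := by decide +kernel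
theorem j31_k_6 : allR (kchk j31_key (j31.lv a2_18.mul a2_18.one).U j31_kt (nat_lit 20520)) (nat_lit 19200) (nat_lit 1320) = true := by decide +kernel
theorem j3A2_ok : j3A2.ok a2_18.mul (eqbQ a2_18.mul Nat.beq a2_18.one j3zs) a2_18.one = true := by decide +kernel
theorem j3A2_next : j3A2.nextOK a2_18.mul a2_18.one j3A3_g (nat_lit 0x3300001400003600005900000e000033) = true := by decide +kernel
theorem j3A2_fx : allL j3A2_fix j3A3_g = true := by decide +kernel
theorem j3A2_s_0 : allR (schk a2_18.mul (eqbQ a2_18.mul Nat.beq a2_18.one j3zs) a2_18.one j3A2_g (j3A2.lv a2_18.mul a2_18.one) j3A3_ls) (nat_lit 0) (nat_lit 102) = true := by decide +kernel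
theorem j3A2_k_0 : allR (kchk j3A2_key (j3A2.lv a2_18.mul a2_18.one).U j3A2_kt (nat_lit 102)) (nat_lit 0) (nat_lit 102) = true := by decide +kernel
theorem j3A3_ok : j3A3.ok a2_18.mul (eqbQ a2_18.mul Nat.beq a2_18.one j3zs) a2_18.one = true := by decide +kernel
theorem j3A3_next : j3A3.nextOK a2_18.mul a2_18.one j3A4_g (nat_lit 0x0) = true := by decide +kernel
theorem j3A3_fx : allL j3A3_fix j3A4_g = true := by decide +kernel
theorem j3A3_s_0 : allR (schk a2_18.mul (eqbQ a2_18.mul Nat.beq a2_18.one j3zs) a2_18.one j3A3_g (j3A3.lv a2_18.mul a2_18.one) j3A4_ls) (nat_lit 0) (nat_lit 24) = true := by decide +kernel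

end H29
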