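import Cfsg.Agent.H29.J3aD

set_option autoImplicit false
set_option maxRecDepth 100000
set_option linter.style.haveILetI false
set_option linter.unusedVariables false
set_option linter.style.longLine false
set_option linter.unusedTactic false
set_option linter.unreachableTactic false

namespace H29

theorem j3A3_k_0 : allR (kchk j3A3_key (j3A3.lv a2_18.mul a2_18.one).U j3A3_kt (nat_lit 24)) (nat_lit 0) (nat_lit 24) = true := by decide +kernel
theorem j3B2_ok : j3B2.ok a2_18.mul (eqbQ a2_18.mul Nat.beq a2_18.one j3zs) a2_18.one = true := by decide +kernel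
theorem j3B2_next : j3B2.nextOK a2_18.mul a2_18.one j3B3_g (nat_lit 0x9200001100005300006a00001000008b) = true := by decide +kernel
theorem j3B2_fx : allL j3B2_fix j3B3_g = true := by decide +kernel
theorem j3B2_k_0 : allR (kchk j3B2_key (j3B2.lv a2_18.mul a2_18.one).U j3B2_kt (nat_lit 153)) (nat_lit 0) (nat_lit 153) = true := by decide +kernel
theorem j3B3_ok : j3B3.ok a2_18.mul (eqbQ a2_18.mul Nat.beq a2_18.one j3zs) a2_18.one = true := by decide +kernel
theorem j3B3_next : j3B3.nextOK a2_18.mul a2_18.one j3B4_g (nat_lit 0x5000005000004) = true := by decide +kernel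
theorem j3B3_fx : allL j3B3_fix j3B4_g = true := by decide +kernel
theorem j3B3_k_0 : allR (kchk j3B3_key (j3B3.lv a2_18.mul a2_18.one).U j3B3_kt (nat_lit 8)) (nat_lit 0) (nat_lit 8) = true := by decide +kernel
theorem j3B4_ok : j3B4.ok a2_18.mul (eqbQ a2_18.mul Nat.beq a2_18.one j3zs) a2_18.one = true := by decide +kernel
theorem j3B4_next : j3B4.nextOK a2_18.mul a2_18.one j3B5_g (nat_lit 0x0) = true := by decide +kernel
theorem j3B4_fx : allL j3B4_fix j3B5_g = true := by decide +kernel
theorem j3B4_k_0 : allR (kchk j3B4_key (j3B4.lv a2_18.mul a2_18.one).U j3B4_kt (nat_lit 2)) (nat_lit 0) (nat_lit 2) = true := by decide +kernel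
theorem j3_sA_0 : allR (sAtFix a2_18.mul (j31.lv a2_18.mul a2_18.one) j31_key j31_kt j3SA2 (nat_lit 0x8e2f5246b1c5f8e3e901b900d9c120c0c4208043103080e4f02728c7b4a39b139f249e8703c6c0a36) a2_18.one) (nat_lit 0) (nat_lit 1600) = true := by decide +kernel
theorem j3_sA_1 : allR (sAtFix a2_18.mul (j31.lv a2_18.mul a2_18.one) j31_key j31_kt j3SA2 (nat_lit 0x8e2f5246b1c5f8e3e901b900d9c120c0c4208043103080e4f02728c7b4a39b139f249e8703c6c0a36) a2_18.one) (nat_lit 1600) (nat_lit 1600) = true := by decide +kernel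
theorem j3_sA_2 : allR (sAtFix a2_18.mul (j31.lv a2_18.mul a2_18.one) j31_key j31_kt j3SA2 (nat_lit 0x8e2f5246b1c5f8e3e901b900d9c120c0c4208043103080e4f02728c7b4a39b139f249e8703c6c0a36) a2_18.one) (nat_lit 3200) (nat_lit 1600) = true := by decide +kernel
theorem j3_sA_3 : allR (sAtFix a2_18.mul (j31.lv a2_18.mul a2_18.one) j31_key j31_kt j3SA2 (nat_lit 0x8e2f5246b1c5f8e3e901b900d9c120c0c4208043103080e4f02728c7b4a39b139f249e8703c6c0a36) a2_18.one) (nat_lit 4800) (nat_lit 1600) = true := by decide +kernel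
theorem j3_sA_4 : allR (sAtFix a2_18.mul (j31.lv a2_18.mul a2_18.one) j31_key j31_kt j3SA2 (nat_lit 0x8e2f5246b1c5f8e3e901b900d9c120c0c4208043103080e4f02728c7b4a39b139f249e8703c6c0a36) a2_18.one) (nat_lit 6400) (nat_lit 1600) = true := by decide +kernel
theorem j3_sA_5 : allR (sAtFix a2_18.mul (j31.lv a2_18.mul a2_18.one) j31_key j31_kt j3SA2 (nat_lit 0x8e2f5246b1c5f8e3e901b900d9c120c0c4208043103080e4f02728c7b4a39b139f249e8703c6c0a36) a2_18.one) (nat_lit 8000) (nat_lit 1600) = true := by decide +kernel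
theorem j3_sA_6 : allR (sAtFix a2_18.mul (j31.lv a2_18.mul a2_18.one) j31_key j31_kt j3SA2 (nat_lit 0x8e2f5246b1c5f8e3e901b900d9c120c0c4208043103080e4f02728c7b4a39b139f249e8703c6c0a36) a2_18.one) (nat_lit 9600) (nat_lit 1600) = true := by decide +kernel
theorem j3_sA_7 : allR (sAtFix a2_18.mul (j31.lv a2_18.mul a2_18.one) j31_key j31_kt j3SA2 (nat_lit 0x8e2f5246b1c5f8e3e901b900d9c120c0c4208043103080e4f02728c7b4a39b139f249e8703c6c0a36) a2_18.one) (nat_lit 11200) (nat_lit 1600) = true := by decide +kernel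
theorem j3_sA_8 : allR (sAtFix a2_18.mul (j31.lv a2_18.mul a2_18.one) j31_key j31_kt j3SA2 (nat_lit 0x8e2f5246b1c5f8e3e901b900d9c120c0c4208043103080e4f02728c7b4a39b139f249e8703c6c0a36) a2_18.one) (nat_lit 12800) (nat_lit 1600) = true := by decide +kernel
theorem j3_sA_9 : allR (sAtFix a2_18.mul (j31.lv a2_18.mul a2_18.one) j31_key j31_kt j3SA2 (nat_lit 0x8e2f5246b1c5f8e3e901b900d9c120c0c4208043103080e4f02728c7b4a39b139f249e8703c6c0a36) a2_18.one) (nat_lit 14400) (nat_lit 1600) = true := by decide +kernel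
theorem j3_sA_10 : allR (sAtFix a2_18.mul (j31.lv a2_18.mul a2_18.one) j31_key j31_kt j3SA2 (nat_lit 0x8e2f5246b1c5f8e3e901b900d9c120c0c4208043103080e4f02728c7b4a39b139f249e8703c6c0a36) a2_18.one) (nat_lit 16000) (nat_lit 1600) = true := by decide +kernel
theorem j3_sA_11 : allR (sAtFix a2_18.mul (j31.lv a2_18.mul a2_18.one) j31_key j31_kt j3SA2 (nat_lit 0x8e2f5246b1c5f8e3e901b900d9c120c0c4208043103080e4f02728c7b4a39b139f249e8703c6c0a36) a2_18.one) (nat_lit 17600) (nat_lit 1600) = true := by decide +kernel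
theorem j3_sA_12 : allR (sAtFix a2_18.mul (j31.lv a2_18.mul a2_18.one) j31_key j31_kt j3SA2 (nat_lit 0x8e2f5246b1c5f8e3e901b900d9c120c0c4208043103080e4f02728c7b4a39b139f249e8703c6c0a36) a2_18.one) (nat_lit 19200) (nat_lit 1320) = true := by decide +kernel
theorem j3_sB_0 : allR (sAtFix a2_18.mul (j31.lv a2_18.mul a2_18.one) j31_key j31_kt j3SB2 (nat_lit 0x83d750afb13ee8ca65027f007a8dd1caece1bca35a14bf2792879c9ac49d63197425fb07fc36ea0b6) a2_18.one) (nat_lit 0) (nat_lit 1600) = true := by decide +kernel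
theorem j3_sB_1 : allR (sAtFix a2_18.mul (j31.lv a2_18.mul a2_18.one) j31_key j31_kt j3SB2 (nat_lit 0x83d750afb13ee8ca65027f007a8dd1caece1bca35a14bf2792879c9ac49d63197425fb07fc36ea0b6) a2_18.one) (nat_lit 1600) (nat_lit 1600) = true := by decide +kernel
theorem j3_sB_2 : allR (sAtFix a2_18.mul (j31.lv a2_18.mul a2_18.one) j31_key j31_kt j3SB2 (nat_lit 0x83d750afb13ee8ca65027f007a8dd1caece1bca35a14bf2792879c9ac49d63197425fb07fc36ea0b6) a2_18.one) (nat_lit 3200) (nat_lit 1600) = true := by decide +kernel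
theorem j3_sB_3 : allR (sAtFix a2_18.mul (j31.lv a2_18.mul a2_18.one) j31_key j31_kt j3SB2 (nat_lit 0x83d750afb13ee8ca65027f007a8dd1caece1bca35a14bf2792879c9ac49d63197425fb07fc36ea0b6) a2_18.one) (nat_lit 4800) (nat_lit 1600) = true := by decide +kernel
theorem j3_sB_4 : allR (sAtFix a2_18.mul (j31.lv a2_18.mul a2_18.one) j31_key j31_kt j3SB2 (nat_lit 0x83d750afb13ee8ca65027f007a8dd1caece1bca35a14bf2792879c9ac49d63197425fb07fc36ea0b6) a2_18.one) (nat_lit 6400) (nat_lit 1600) = true := by decide +kernel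
theorem j3_sB_5 : allR (sAtFix a2_18.mul (j31.lv a2_18.mul a2_18.one) j31_key j31_kt j3SB2 (nat_lit 0x83d750afb13ee8ca65027f007a8dd1caece1bca35a14bf2792879c9ac49d63197425fb07fc36ea0b6) a2_18.one) (nat_lit 8000) (nat_lit 1600) = true := by decide +kernel
theorem j3_sB_6 : allR (sAtFix a2_18.mul (j31.lv a2_18.mul a2_18.one) j31_key j31_kt j3SB2 (nat_lit 0x83d750afb13ee8ca65027f007a8dd1caece1bca35a14bf2792879c9ac49d63197425fb07fc36ea0b6) a2_18.one) (nat_lit 9600) (nat_lit 1600) = true := by decide +kernel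
theorem j3_sB_7 : allR (sAtFix a2_18.mul (j31.lv a2_18.mul a2_18.one) j31_key j31_kt j3SB2 (nat_lit 0x83d750afb13ee8ca65027f007a8dd1caece1bca35a14bf2792879c9ac49d63197425fb07fc36ea0b6) a2_18.one) (nat_lit 11200) (nat_lit 1600) = true := by decide +kernel
theorem j3_sB_8 : allR (sAtFix a2_18.mul (j31.lv a2_18.mul a2_18.one) j31_key j31_kt j3SB2 (nat_lit 0x83d750afb13ee8ca65027f007a8dd1caece1bca35a14bf2792879c9ac49d63197425fb07fc36ea0b6) a2_18.one) (nat_lit 12800) (nat_lit 1600) = true := by decide +kernel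
theorem j3_sB_9 : allR (sAtFix a2_18.mul (j31.lv a2_18.mul a2_18.one) j31_key j31_kt j3SB2 (nat_lit 0x83d750afb13ee8ca65027f007a8dd1caece1bca35a14bf2792879c9ac49d63197425fb07fc36ea0b6) a2_18.one) (nat_lit 14400) (nat_lit 1600) = true := by decide +kernel
theorem j3_sB_10 : allR (sAtFix a2_18.mul (j31.lv a2_18.mul a2_18.one) j31_key j31_kt j3SB2 (nat_lit 0x83d750afb13ee8ca65027f007a8dd1caece1bca35a14bf2792879c9ac49d63197425fb07fc36ea0b6) a2_18.one) (nat_lit 16000) (nat_lit 1600) = true := by decide +kernel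
theorem j3_sB_11 : allR (sAtFix a2_18.mul (j31.lv a2_18.mul a2_18.one) j31_key j31_kt j3SB2 (nat_lit 0x83d750afb13ee8ca65027f007a8dd1caece1bca35a14bf2792879c9ac49d63197425fb07fc36ea0b6) a2_18.one) (nat_lit 17600) (nat_lit 1600) = true := by decide +kernel
theorem j3_sB_12 : allR (sAtFix a2_18.mul (j31.lv a2_18.mul a2_18.one) j31_key j31_kt j3SB2 (nat_lit 0x83d750afb13ee8ca65027f007a8dd1caece1bca35a14bf2792879c9ac49d63197425fb07fc36ea0b6) a2_18.one) (nat_lit 19200) (nat_lit 1320) = true := by decide +kernel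
theorem j3_slp : band (subL [nat_lit 0x40003000010000c00004000300003000080000c000200003000080000800010000200004000080001, nat_lit 0x40003000010000c0000c0002000010000c00004000300003000080000c00020000300008000080001, nat_lit 0x800010000200004000080001400030000300008000080001000020000400008000100002000040, nat_lit 0x200004000008000100000200004800010000020000400000800010080001000002000040000080001, nat_lit 0xa20014400828010500082201044a08014100228004500082801050002a00054080a01014000080001] j3L) (band (slpL a2_18.mul [nat_lit 0x40003000010000c00004000300003000080000c000200003000080000800010000200004000080001, nat_lit 0x40003000010000c0000c0002000010000c00004000300003000080000c00020000300008000080001, nat_lit 0x800010000200004000080001400030000300008000080001000020000400008000100002000040, nat_lit 0x200004000008000100000200004800010000020000400000800010080001000002000040000080001, nat_lit 0xa20014400828010500082201044a08014100228004500082801050002a00054080a01014000080001] j3_slpT (nat_lit 0x7b06b05e0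7a07907407805105007706807605507505a03c07207303d06d07106c07007005406f06e05905906d03d04f04f04f06a06603d06905006806705805905a06506206406302d02400901c02106102d06000902b05e05305d05705c05805205b04f05a05105905505503d04b05605405505403904b04f03905205005103904b03904f03d04e04b04d04c04c04c04b04b04a04504902304804604604700d03301901e03f04404301104200200f04104000d00500602c03e00202f03c03903b03a03a03a03903903801603701c03602403503302803402802001d03203102d03002e02f01d00100101901b02c02b00900902a02600302902802702700d01700401d02501700300702300102202102000300901a01f00101e01d01d00401800d01b01901a01901800201801700200000000501501101401301200b00b00a00901000600f00200e00b00d00000c00300300300a004009000008008007007002002003005004000000000000000000000000000000000)) (subL j31_g j3_slpT)) = true := by decide +kernel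
theorem j3_sift : allL (sift a2_18.mul (eqbQ a2_18.mul Nat.beq a2_18.one j3zs) a2_18.one j31_ls) j3L = true := by decide +kernel

end H29
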