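import Cfsg.Agent.H29.Cert
import Cfsg.Agent.H29.Chain

/-! Expressions and straight-line programs on codes; elementary abelian groups given by codes. -/

set_option autoImplicit false

namespace H29.J4m

variable {G : Type*} [Group G] {M : Model G} {K : Subgroup G}

/-- Group expressions in numbered variables. -/
inductive Ex : Type
  | v (i : ℕ) : Ex
  | m (a b : Ex) : Ex
  | p (a : Ex) (k : ℕ) : Ex

noncomputable def pl (mul : ℕ → ℕ → ℕ) (one x k : ℕ) : ℕ :=
  Nat.rec (motive := fun _ => ℕ) one (fun _ ih => force ih fun y => mul y x) k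

noncomputable def Ex.c (mul : ℕ → ℕ → ℕ) (one : ℕ) (L : List ℕ) (e : Ex) : ℕ :=
  Ex.rec (motive := fun _ => ℕ) (fun i => lgetD one L i)
    (fun _ _ a b => force a fun x => force b fun y => mul x y) (fun _ k a => force a fun x => pl mul one x k) e

def Ex.g (l : List G) : Ex → G
  | .v i => l.getD i 1
  | .m a b => a.g l * b.g l
  | .p a k => a.g l ^ k

theorem R_pl {x : ℕ} {g : G} (h : M.R x g) (k : ℕ) : M.R (pl M.mul M.one x k) (g ^ k) := by
  induction k with
  | zero => rw [pow_zero]; exact M.R_one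
  | succ k ih => rw [pow_succ]; exact M.R_mul ih h

theorem R_getD {L : List ℕ} {l : List G} (h : List.Forall₂ M.R L l) (i : ℕ) :
    M.R (lgetD M.one L i) (l.getD i 1) := by
  induction h generalizing i with
  | nil => exact M.R_one
  | cons h _ ih =>
    cases i with
    | zero => exact h
    | succ i => exact ih i

theorem Ex.R {L : List ℕ} {l : List G} (h : List.Forall₂ M.R L l) (e : Ex) :
    M.R (e.c M.mul M.one L) (e.g l) := by
  induction e with
  | v i => exact R_getD h i
  | m a b ha hb => exact M.R_mul ha hb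
  | p a k ha => exact R_pl ha k

theorem Ex.eq {L : List ℕ} {l : List G} (h : List.Forall₂ M.R L l) (a b : Ex)
    (e : M.eqb (a.c M.mul M.one L) (b.c M.mul M.one L) = true) : a.g l = b.g l := M.eq_of (a.R h) (b.R h) e

theorem Ex.ne {L : List ℕ} {l : List G} (h : List.Forall₂ M.R L l) (a b : Ex)
    (e : M.eqb (a.c M.mul M.one L) (b.c M.mul M.one L) = false) : a.g l ≠ b.g l := M.ne_of (a.R h) (b.R h) e

theorem Ex.In {L : List ℕ} (h : ∀ c ∈ L, M.In K c) (e : Ex) : M.In K (e.c M.mul M.one L) := by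
  induction e with
  | v i =>
    rcases lgetD_mem_or M.one L i with h' | h'
    · exact h _ h'
    · change M.In K (lgetD M.one L i)
      rw [h']; exact Model.In.one
  | m a b ha hb => exact ha.mul hb
  | p a k ha => exact let ⟨g, hg, hr⟩ := ha; ⟨g ^ k, K.pow_mem hg k, R_pl hr k⟩

/-- The last value of a straight-line program (new values are put in front). -/
noncomputable def slpv (mul : ℕ → ℕ → ℕ) (one : ℕ) (es : List Ex) : List ℕ → ℕ :=
  List.rec (motive := fun _ => List ℕ → ℕ) (fun L => lgetD one L 0)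
    (fun e _ ih L => force (e.c mul one L) fun x => ih (x :: L)) es

theorem slpv_in (es : List Ex) {L : List ℕ} (h : ∀ c ∈ L, M.In K c) : M.In K (slpv M.mul M.one es L) := by
  induction es generalizing L with
  | nil => exact Ex.In h (.v 0)
  | cons e es ih => exact ih (List.forall_mem_cons.2 ⟨e.In h, h⟩)

theorem ext_two {α : G} {H : Subgroup G} (h2 : α * α = 1) (hc : ∀ y ∈ H, Commute α y) :
    ∃ E : Subgroup G, ∀ g, g ∈ E ↔ g * α ∈ H ∨ g ∈ H := by
  have hc' : ∀ y, y * α ∈ H → Commute α y := fun y hy => by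
    have := (hc _ hy).eq
    rw [← mul_assoc] at this
    exact mul_right_cancel this
  refine ⟨⟨⟨⟨{g | g * α ∈ H ∨ g ∈ H}, ?_⟩, Or.inr H.one_mem⟩, ?_⟩, fun _ => Iff.rfl⟩
  · rintro x y (hx | hx) (hy | hy)
    · have := H.mul_mem hx hy
      rw [mul_assoc, ← mul_assoc α, (hc' y hy).eq, mul_assoc, h2, mul_one] at this
      exact Or.inr this
    · have := H.mul_mem hx hy
      rw [mul_assoc, (hc y hy).eq, ← mul_assoc] at this
      exact Or.inl this
    · exact Or.inl (by rw [mul_assoc]; exact H.mul_mem hx hy)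
    · exact Or.inr (H.mul_mem hx hy)
  · rintro x (hx | hx)
    · have := H.inv_mem hx
      rw [← (hc' x hx).eq, mul_inv_rev, inv_eq_of_mul_eq_one_right h2] at this
      exact Or.inl this
    · exact Or.inr (H.inv_mem hx)

/-- No product of `c` with a sublist of `L` is trivial. -/
noncomputable def nz (mul : ℕ → ℕ → ℕ) (eqb : ℕ → ℕ → Bool) (one : ℕ) (L : List ℕ) : ℕ → Bool :=
  List.rec (motive := fun _ => ℕ → Bool) (fun c => Bool.rec (motive := fun _ => Bool) true false (eqb c one))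
    (fun a _ ih c => band (ih c) (force (mul c a) ih)) L

noncomputable def nzs (mul : ℕ → ℕ → ℕ) (eqb : ℕ → ℕ → Bool) (one : ℕ) (L : List ℕ) : Bool :=
  List.rec (motive := fun _ => Bool) true (fun a l ih => band ih (nz mul eqb one l a)) L

/-- The codes stand for commuting elements of order at most two. -/
def EA (M : Model G) (L : List ℕ) : Prop :=
  ∀ c ∈ L, ∃ α, M.R c α ∧ α * α = 1 ∧ ∀ d ∈ L, ∀ β, M.R d β → Commute α β

theorem EA.tail {a : ℕ} {L : List ℕ} (h : EA M (a :: L)) : EA M L := fun c hc =>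
  let ⟨α, h1, h2, h3⟩ := h c (List.mem_cons_of_mem _ hc)
  ⟨α, h1, h2, fun d hd => h3 d (List.mem_cons_of_mem _ hd)⟩

theorem EA.cons {a : ℕ} {L : List ℕ} (h : EA M (a :: L)) :
    ∃ α, M.R a α ∧ α * α = 1 ∧ ∀ g ∈ M.cl (a :: L), g * α ∈ M.cl L ∨ g ∈ M.cl L := by
  obtain ⟨α, h1, h2, h3⟩ := h a List.mem_cons_self
  have hc : M.cl L ≤ Subgroup.centralizer {α} := Model.cl_le' fun d hd β hβ =>
    Subgroup.mem_centralizer_singleton_iff.2 (h3 d (List.mem_cons_of_mem _ hd) β hβ).eq.symm
  obtain ⟨E, hE⟩ := ext_two (H := M.cl L) h2 fun y hy => (Subgroup.mem_centralizer_singleton_iff.1 (hc hy)).symm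
  refine ⟨α, h1, h2, fun g hg => (hE g).1 (Model.cl_le' (K := E) (fun d hd β hβ => (hE β).2 ?_) hg)⟩
  rcases List.mem_cons.1 hd with rfl | hd
  · rw [M.unique hβ h1, h2]; exact Or.inl (one_mem _)
  · exact Or.inr (Model.mem_cl hd hβ)

theorem cl_nil : M.cl [] = ⊥ := by simp [Model.cl]

theorem EA.nz {L : List ℕ} (h : EA M L) {c : ℕ} {g : G} (hg : M.R c g) (hn : nz M.mul M.eqb M.one L c = true) :
    g ∉ M.cl L := by
  induction L generalizing c g with
  | nil =>
    rw [cl_nil, Subgroup.mem_bot]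
    refine M.ne_of hg M.R_one ?_
    have : Bool.rec (motive := fun _ => Bool) true false (M.eqb c M.one) = true := hn
    cases e : M.eqb c M.one with
    | false => rfl
    | true => rw [e] at this; exact absurd this (by simp)
  | cons a L ih =>
    obtain ⟨α, h1, -, h3⟩ := h.cons
    obtain ⟨n1, n2⟩ := band_iff.1 hn
    intro hm
    exact (h3 g hm).elim (ih h.tail (M.R_mul hg h1) n2) (ih h.tail hg n1)

theorem EA.card {L : List ℕ} (h : EA M L) (hn : nzs M.mul M.eqb M.one L = true) :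
    Nat.card (M.cl L) = 2 ^ L.length := by
  induction L with
  | nil => rw [cl_nil]; simp
  | cons a L ih =>
    obtain ⟨α, h1, -, h3⟩ := h.cons
    obtain ⟨n1, n2⟩ := band_iff.1 hn
    have hle : M.cl L ≤ M.cl (a :: L) := Model.cl_le' fun d hd β hβ => Model.mem_cl (List.mem_cons_of_mem _ hd) hβ
    have e : (M.cl L).relIndex (M.cl (a :: L)) = 2 := Subgroup.relIndex_eq_two_iff_exists_notMem_and.2
      ⟨α, Model.mem_cl List.mem_cons_self h1, h.tail.nz h1 n2, h3⟩
    have := ((M.cl L).subgroupOf (M.cl (a :: L))).card_mul_index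
    rw [Nat.card_congr (Subgroup.subgroupOfEquivOfLe hle).toEquiv, ih h.tail n1] at this
    rw [← this, List.length_cons, pow_succ]
    exact congrArg _ e

theorem EA.of {L : List ℕ} (hv : ∀ c ∈ L, M.In K c) (h2 : ∀ c ∈ L, M.eqb (M.mul c c) M.one = true)
    (hc : ∀ c ∈ L, ∀ d ∈ L, M.eqb (M.mul c d) (M.mul d c) = true) : EA M L := fun c h =>
  let ⟨α, _, hα⟩ := hv c h
  ⟨α, hα, M.eq_of (M.R_mul hα hα) M.R_one (h2 c h),
    fun d hd _ hβ => M.eq_of (M.R_mul hα hβ) (M.R_mul hβ hα) (hc c h d hd)⟩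

/-- Conjugates of the generators are given as expressions in the generators. -/
theorem norm_of {L : List ℕ} (hv : ∀ c ∈ L, M.In K c) [Finite (M.cl L)] {x y : ℕ} {g : G} (hx : M.R x g)
    (hy : M.R y g⁻¹) (es : List Ex)
    (h : ∀ c ∈ L, ∃ e ∈ es, M.eqb (M.mul (M.mul x c) y) (e.c M.mul M.one L) = true) :
    g ∈ Subgroup.normalizer (M.cl L : Set G) := by
  have : Finite (M.cl L : Set G) := ‹Finite (M.cl L)›
  refine Subgroup.mem_normalizer_fintype fun n hn => ?_
  refine Model.cl_le' (K := (M.cl L).comap (MulAut.conj g).toMonoidHom) (fun c hc β hβ => ?_) hn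
  obtain ⟨e, -, he⟩ := h c hc
  obtain ⟨γ, hγ, hr⟩ := e.In (K := M.cl L) fun d hd => Model.In.cl hd (hv d hd)
  change g * β * g⁻¹ ∈ M.cl L
  rw [M.eq_of (M.R_mul (M.R_mul hx hβ) hy) hr he]; exact hγ

end H29.J4m
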