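import Cfsg.Agent.H29.LM
import Cfsg.Agent.H29.A13x2
import Cfsg.Agent.H22.Linear

set_option autoImplicit false
set_option maxRecDepth 100000
set_option linter.style.haveILetI false
set_option linter.unusedVariables false
set_option linter.style.longLine false
set_option linter.unusedTactic false
set_option linter.unreachableTactic false

namespace H29

instance factPrime13 : Fact (Nat.Prime 13) := ⟨by norm_num⟩

noncomputable def l213_g : List ℕ := [nat_lit 0x200040000001, nat_lit 0x200000008001]
noncomputable def l213_z : ℕ := (nat_lit 0x180000000000c)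
noncomputable def l213_zs : List ℕ := [nat_lit 0x200000000001, nat_lit 0x180000000000c]
noncomputable def l2131_key : ℕ → ℕ := keyS' a13_2.mul (nat_lit 30) (nat_lit 0x3fffffff) (nat_lit 2) (nat_lit 2531) (nat_lit 26) [nat_lit 0x300000001]
noncomputable def l2131_fix : ℕ → Bool := fixS a13_2.mul (nat_lit 30) (nat_lit 0x3fffffff) (nat_lit 2) [nat_lit 0x300000001]
theorem l213_key {Q : Type*} [Group Q] (q : QM Q a13_2 l213_g l213_z l213_zs) : ∃ St, Key q.M St l2131_key l2131_fix :=
  q.keyS _ _ _ _ _ _ (by decide +kernel)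
noncomputable def l213v1_key : ℕ → ℕ := keyP a13_2.mul (nat_lit 0x1) (nat_lit 11083)
noncomputable def l213v1_fix : ℕ → Bool := fixP a13_2.mul (nat_lit 0x1)
noncomputable def l213vT1_g : List ℕ := [nat_lit 0x200040000001, nat_lit 0x200000008001]
noncomputable def l213vT1_key : ℕ → ℕ := keyT a13_2.mul l213v1_key (nat_lit 0x200000000001) (nat_lit 0)
noncomputable def l213vT1_kt : ℕ → ℕ := pget (nat_lit 0xa5de975a5d2973a5ca971a5c296fa5ba96da5b296ba5aa7969e527939e4a7919e4278f9e3a78d9e3278b9e2a78996d65b396ca5b196c25af96ba5ad96b25ab96aa5a996a23d48f4a3d18f423cf8f3a3cd8f323cb8f2a3c98f223c787ce1f187c21ef87ba1ed87b21eb87aa1e987a21e7879a012804200f803a00d803200b802a0098022007801a00578c5e2f78b9e2d78b1e2b78a9e2978a1e277899e257891c507139c4d7131c4b7129c497121c477119c457111c4369bda6d69b1a6b69a9a6969a1a676999a656991a63698988e623188b622988962218876219885621188362098815ab56ab5aa96a95aa16a75a996a55a916a35a896a15a814cc53294c953214c753194c553114c353094c153014bf003400b00280090020007001800500100030008000) (nat_lit 14) (nat_lit 0x3fff)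
noncomputable def l213vT1_bt : ℕ → ℕ := pget (nat_lit 0x9b9b9b8e8e8e8e81818181747474746767675a5a5a5a4d4d4d4d4040404033333326262626191919190c0c0c0c0c0c0c0c0c0c0c0c0c0c0c0c0c0c0c0c0c0c0c0c0c0c0c0c0c0c0c0c0c0c0c0c0c0c0c0c0c00) (nat_lit 8) (nat_lit 0xff)
noncomputable def l213vT1 : LvD where
  n := nat_lit 168
  g := l213vT1_g
  T := [nat_lit 0x200040000001, nat_lit 0x200000008001, nat_lit 0x200080000001, nat_lit 0x200100000001, nat_lit 0x200200000001, nat_lit 0x200300000001, nat_lit 0x200000010001, nat_lit 0x200000020001, nat_lit 0x200000040001, nat_lit 0x200000060001, nat_lit 0x400300060001, nat_lit 0x200040008002, nat_lit 0x400040060000, nat_lit 0x300008002, nat_lit 0x600040060000, nat_lit 0x300008003, nat_lit 0xa000c005800c, nat_lit 0x1800280010005, nat_lit 0x200040060000, nat_lit 0x300008001, nat_lit 0xc00300028008, nat_lit 0x1000040040006, nat_lit 0x200000058001, nat_lit 0x400300050002, nat_lit 0x400040018002, nat_lit 0x20030001000c, nat_lit 0x1800040058001, nat_lit 0xe000c0028006, nat_lit 0xc00280040007, nat_lit 0xa00300000008,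 nat_lit 0x1000040000005]
  ab := nat_lit 0x901501400101501801701400001600600500b00100900a00900901101101001000100d00c00900d00f00e00c00d00000500c00500b00a000001000005009008007007007006006001001004003003003002002000000000000000000
  ia := nat_lit 0x1801d01b01901700601401201000e00c00a009001005000
  ib := nat_lit 0x500500500500500500500500500500500500500500500500500500500500500500500500500500500500500500500500500500500500500500500500500500500500500500500501701e01c01a01801601501301100f00d00b001009000005
  ent := pget (nat_lit 0x9a082240c38b0834b18308342191c3292c218343413839b002842029b0420008100301291821f143481831f103182438b3836e3c2701428d3837010284242002818e102193839b30208282140c31f383253828100308302003c1621031b2439b282841028e3021f2030f1c3142838e2421f0c30f2436e1426e30284142193438e2829c383291426e0020024181303003419b3821b3c3291028e1829b3c2700026e0428e3420d3428b1c33f3430c1c2692436d283192c31b103620033f1032f3436d3033f2837410369103843029a2c2662034b2438e3c270182291c29a242a12c30d2420f1830d1c225182702820c382183838b2436e2428e1c2290c20c2c2703020d3820c182650c3163433f003503836218325242403436e182481c3253029a3424d2830c1422634325142700c2320038e382392831b1c370202002c19a3824834325102001c125002623036d1c31f043293829b2422a3831f0032f3830c342302430c0c20d00214043252021f3039b3426e0c2703826e3826e2020c0420f04300141000c19a282652831f183003816e1c2353434d10380183321c3813437b3c300000)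 (nat_lit 20) (nat_lit 0xfffff)
  key := l213vT1_key
  ks := l213vT1_kt
  loc := locB l213vT1_key l213vT1_kt l213vT1_bt (nat_lit 7)

noncomputable def l213vT1_fix : ℕ → Bool := fixT a13_2.mul l213v1_fix (nat_lit 0x200000000001) (nat_lit 0x200000000001)

noncomputable def l213vT2_g : List ℕ := [nat_lit 0x2001c0000001]
noncomputable def l213vT2_key : ℕ → ℕ := keyT a13_2.mul l213v1_key (nat_lit 0xc00140040009) (nat_lit 7243)
noncomputable def l213vT2_kt : ℕ → ℕ := pget (nat_lit 0x1b7b9ac41cc518820) (nat_lit 5) (nat_lit 0x1f)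
noncomputable def l213vT2_bt : ℕ → ℕ := pget (nat_lit 0xcc70) (nat_lit 4) (nat_lit 0xf)
noncomputable def l213vT2 : LvD where
  n := nat_lit 13
  g := l213vT2_g
  T := [nat_lit 0x2001c0000001, nat_lit 0x200040000001, nat_lit 0x200080000001, nat_lit 0x200100000001, nat_lit 0x200180000001, nat_lit 0x200000000001, nat_lit 0x200300000001, nat_lit 0x200200000001, nat_lit 0x200140000001, nat_lit 0x2002c0000001, nat_lit 0x200240000001, nat_lit 0x200280000001, nat_lit 0x2000c0000001]
  ab := nat_lit 0xa003004000002008004004006001000004004004000003002002002001001000000000000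
  ia := nat_lit 0xb00300a002007001004000
  ib := nat_lit 0x400400400400400400400400400400400400400400400400400400400400400400400400400400400400400400400400400400400400400400400400400400400400400400400400400400400400400400400400c00a003009008006000004
  ent := pget (nat_lit 0x1010001014101810041804200c101c131820081b142b1820000) (nat_lit 16) (nat_lit 0xffff)
  key := l213vT2_key
  ks := l213vT2_kt
  loc := locB l213vT2_key l213vT2_kt l213vT2_bt (nat_lit 3)

noncomputable def l213vT2_fix : ℕ → Bool := fixT a13_2.mul l213v1_fix (nat_lit 0xc00140040009) (nat_lit 0x1200200028006)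

noncomputable def l213vT3_g : List ℕ := []
noncomputable def l213vT3_ls : List Lv := []
noncomputable def l213vT2_ls : List Lv := l213vT2.lv a13_2.mul a13_2.one :: l213vT3_ls
noncomputable def l213vT1_ls : List Lv := l213vT1.lv a13_2.mul a13_2.one :: l213vT2_ls
noncomputable def l213v_aux : List ℕ := [nat_lit 0x200040000001, nat_lit 0x200000008001, nat_lit 0x200000000001, nat_lit 0xc00140040009, nat_lit 0x1200200028006]
theorem l213vT1_ok : l213vT1.ok a13_2.mul Nat.beq a13_2.one = true := by decide +kernel
theorem l213vT1_next : l213vT1.nextOK a13_2.mul a13_2.one l213vT2_g (nat_lit 0x6c00000000006f) = true := by decide +kernel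
theorem l213vT1_fx : allL l213vT1_fix l213vT2_g = true := by decide +kernel
theorem l213vT1_k_0 : allR (kchk l213vT1_key (l213vT1.lv a13_2.mul a13_2.one).U l213vT1_kt (nat_lit 168)) (nat_lit 0) (nat_lit 168) = true := by decide +kernel
theorem l213vT1_k : ∀ j < nat_lit 168, (kchk l213vT1_key (l213vT1.lv a13_2.mul a13_2.one).U l213vT1_kt (nat_lit 168)) j = true :=
  (allR_step (c := nat_lit 168) (fun _ h => absurd h (Nat.not_lt_zero _)) l213vT1_k_0 (by decide))

theorem l213vT2_ok : l213vT2.ok a13_2.mul Nat.beq a13_2.one = true := by decide +kernel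
theorem l213vT2_next : l213vT2.nextOK a13_2.mul a13_2.one l213vT3_g (nat_lit 0x0) = true := by decide +kernel
theorem l213vT2_fx : allL l213vT2_fix l213vT3_g = true := by decide +kernel
theorem l213vT2_k_0 : allR (kchk l213vT2_key (l213vT2.lv a13_2.mul a13_2.one).U l213vT2_kt (nat_lit 13)) (nat_lit 0) (nat_lit 13) = true := by decide +kernel
theorem l213vT2_k : ∀ j < nat_lit 13, (kchk l213vT2_key (l213vT2.lv a13_2.mul a13_2.one).U l213vT2_kt (nat_lit 13)) j = true :=
  (allR_step (c := nat_lit 13) (fun _ h => absurd h (Nat.not_lt_zero _)) l213vT2_k_0 (by decide))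

theorem l213v_auxok : slpR a13_2.mul a13_2.one (wdsOK a13_2.mul a13_2.one l213v_aux [nat_lit 0x1004, nat_lit 0x1023, nat_lit 0x1, nat_lit 0x100800d003, nat_lit 0x100400001e00100e]) (nat_lit 34) (nat_lit 0x300300f00000e02001e00b00000100000000000000000000400000400001800000700000701100400400000100000101200000001100b00f005005005000001000001000000006005000000009000001000000000000004004000001000000000000001001) l213_g = true := by decide +kernel
theorem l213v_low {G : Type*} [Group G] (M : Model G) (h1 : M.mul = a13_2.mul) (h2 : M.eqb = Nat.beq)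
    (h3 : M.one = a13_2.one) (vv : ∀ c ∈ l213_g, M.In ⊤ c) {St : Subgroup G} (k1 : Key M St l213v1_key l213v1_fix) [Finite G] :
    2184 ≤ Nat.card (M.cl l213_g) := by
  obtain ⟨R, one, mul, eqb, a1, a2, a3⟩ := M
  dsimp only at h1 h2 h3
  subst h1 h2 h3
  set M : Model G := ⟨R, a13_2.one, a13_2.mul, Nat.beq, a1, a2, a3⟩ with hM
  have va := in_of_slpW (M := M) _ vv l213v_auxok
  obtain ⟨tl213vT1, hTl213vT1⟩ := exists_R va (c := (nat_lit 0x200000000001)) (by (try dsimp only [M]); decide +kernel)
  have kl213vT1 : Key M (cjS St tl213vT1) l213vT1_key l213vT1_fix := k1.keyT hTl213vT1 (R_inv_of hTl213vT1 (exists_R va (c := (nat_lit 0x200000000001)) (by (try dsimp only [M]); decide +kernel)) (by (try dsimp only [M]); decide +kernel)) _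
  obtain ⟨tl213vT2, hTl213vT2⟩ := exists_R va (c := (nat_lit 0xc00140040009)) (by (try dsimp only [M]); decide +kernel)
  have kl213vT2 : Key M (cjS St tl213vT2) l213vT2_key l213vT2_fix := k1.keyT hTl213vT2 (R_inv_of hTl213vT2 (exists_R va (c := (nat_lit 0x1200200028006)) (by (try dsimp only [M]); decide +kernel)) (by (try dsimp only [M]); decide +kernel)) _
  have gl213vT1 : ∀ c ∈ l213vT1_g, M.In ⊤ c := valid_sub va (by (try dsimp only [M]); decide +kernel)
  have gl213vT2 := LvD.valid_next (D := l213vT1) gl213vT1 l213vT1_ok l213vT1_next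
  have ll213vT1 := LvD.le_next (D := l213vT1) gl213vT1 l213vT1_ok l213vT1_next
  have gl213vT3 := LvD.valid_next (D := l213vT2) gl213vT2 l213vT2_ok l213vT2_next
  have ll213vT2 := LvD.le_next (D := l213vT2) gl213vT2 l213vT2_ok l213vT2_next
  have cl213vT3 : 1 ≤ Nat.card (M.cl l213vT3_g) := Nat.card_pos
  have cl213vT2 : 13 ≤ Nat.card (M.cl l213vT2_g) := le_trans (by (try dsimp only [M]); decide +kernel) (LvD.lower (D := l213vT2) gl213vT2 l213vT2_ok cl213vT3 ll213vT2 kl213vT2 l213vT2_fx l213vT2_k)
  have cl213vT1 : 2184 ≤ Nat.card (M.cl l213vT1_g) := le_trans (by (try dsimp only [M]); decide +kernel) (LvD.lower (D := l213vT1) gl213vT1 l213vT1_ok cl213vT2 ll213vT1 kl213vT1 l213vT1_fx l213vT1_k)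
  exact cl213vT1

theorem l213v_top {G : Type*} [Group G] [Finite G] {ρ : G →* Matrix (Fin 2) (Fin 2) (ZMod 13)} {hρ : Function.Injective ρ}
    (hv : ∀ c ∈ l213_g, (a13_2.model ρ hρ).In ⊤ c) (hN : Nat.card G = 2184) : (a13_2.model ρ hρ).cl l213_g = ⊤ :=
  let ⟨_, k⟩ := a13_2.keyP' ρ hρ _ _ (by decide +kernel)
  Subgroup.eq_top_of_le_card _ (hN.le.trans (l213v_low _ rfl rfl rfl hv k))

set_option synthInstance.maxSize 4096 in
theorem l213_ex {F : Type*} [Field F] [Fintype F] (hF : Fintype.card F = 13) :
    Nonempty (QM (Matrix.ProjectiveSpecialLinearGroup (Fin 2) F) a13_2 l213_g l213_z l213_zs) := by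
  obtain ⟨fm⟩ := exists_fm1 hF
  have hv := FM.in_SL (fm := fm) (a := a13_2) (n := 2) (L := l213_g) (e := Equiv.refl (Fin 2)) (by norm_num) (by decide +kernel)
  have hN := Nat.eq_of_mul_eq_mul_left (by norm_num : 0 < 12) (show 12 * Nat.card (Matrix.SpecialLinearGroup (Fin 2) F) = 12 * 2184 by
    have h := H22.card_SL (F := F) 2 (by norm_num); rw [hF] at h; exact h.trans (by decide +kernel))
  haveI := Nat.finite_of_card_ne_zero (hN.trans_ne (by norm_num))
  exact ⟨(QM.ofCen _ _ hv (l213v_top hv hN) (m := 2) ((H22.card_center_SL (F := F) 2 (by norm_num)).trans (by rw [hF]; rfl))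
    (show slpR a13_2.mul a13_2.one (subL [l213_z]) (nat_lit 9) (nat_lit 0x1000000007000006000005000003000003000001000000000) l213_g = true by decide +kernel)
    (ps := [2]) (by decide +kernel) (by norm_num) (by decide +kernel)).choose⟩

end H29
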