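import Cfsg.Agent.H29.L213M
import Cfsg.Agent.H29.Pg

set_option autoImplicit false
set_option maxRecDepth 100000
set_option linter.style.haveILetI false
set_option linter.unusedVariables false
set_option linter.style.longLine false
set_option linter.unusedTactic false
set_option linter.unreachableTactic false

namespace H29

noncomputable def l213pr7x1_g : List ℕ := [nat_lit 0x200040000001, nat_lit 0x200000008001]
noncomputable def l213pr7x1_key : ℕ → ℕ := keyT a13_2.mul l2131_key (nat_lit 0x200000000001) (nat_lit 0)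
noncomputable def l213pr7x1_kt : ℕ → ℕ := pget (nat_lit 0x9d79c69bc96f96395994192891c9138e28a589d8958567bd7aa79c78775373f7137097006c467e66761c5db5d359558556c55f55e55b5375025014ed4d24a247d4774704574534183e03d23c03a736e35f34b3252da2d82d02c82692442231d31aa1a919217513f12f10f10e0f80b508205104203e03602c028022013000) (nat_lit 12) (nat_lit 0xfff)
noncomputable def l213pr7x1_bt : ℕ → ℕ := pget (nat_lit 0xa5466ca931a2c58b0603c76edcb86cd182d56a92a44280e9c3060b15284480c1624380) (nat_lit 7) (nat_lit 0x7f)
noncomputable def l213pr7x1 : LvD where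
  n := nat_lit 84
  g := l213pr7x1_g
  T := [nat_lit 0x200040000001, nat_lit 0x200000008001, nat_lit 0x200080000001, nat_lit 0x200100000001, nat_lit 0x200200000001, nat_lit 0x200300000001, nat_lit 0x200000010001, nat_lit 0x200000020001, nat_lit 0x200000040001, nat_lit 0x200000060001, nat_lit 0x200300060002, nat_lit 0x400040008001, nat_lit 0x200000000001, nat_lit 0x400280050005, nat_lit 0xa000c0018002, nat_lit 0x200300008000, nat_lit 0x40060001, nat_lit 0xa00140028000, nat_lit 0x200040005, nat_lit 0x30000800c, nat_lit 0x1800040060000, nat_lit 0x180000000000c, nat_lit 0xa00140000008, nat_lit 0x1000200000005, nat_lit 0x40060002, nat_lit 0x400300008000, nat_lit 0x140028000, nat_lit 0x200040000, nat_lit 0x2002c001000a, nat_lit 0x1400080058001, nat_lit 0x400280060002, nat_lit 0x4000c0008002, nat_lit 0x20030001000c, nat_lit 0x1800040058001, nat_lit 0x100028005000b, nat_lit 0x16000c0018008]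
  ab := nat_lit 0xe01201100d00101401300900e00900100d00b01401300a01200000501100b00500000a01200100901100f01301001000f00f00b00e00d00a00000900100500b00b00a00a001009000001009005008007007007006006001001004003003003002002000000000000000000
  ia := nat_lit 0x2202001e01c01a01801601301100f00d00a009001005000
  ib := nat_lit 0x500500500500500500500500500500500500500500500500500500500500500500500500500500500500500500500500500500500500500500500500500500500500500500500502302101f01d01b01901701401201000e00b001009000005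
  ent := pget (nat_lit 0x1825030c91e1990829270740e0d99a11928232304d4e0db9813324252004a420a6181c93436e70518a0c9121af28428686e810c00c0d028392106ccc08a041a93c20020200e05b92133382006033430cb942262442228600f059821351c33270464d080040c838374186d4a0ca101bd3c26e5852430c79c1cd24390506b8e0800e09430374606cc20800a0d3242246865010dd121b7342a0106a4a0949c114383326046480a6121c63835258420910a121c90439248698d1250a2002417468734d0db0a100000) (nat_lit 19) (nat_lit 0x7ffff)
  key := l213pr7x1_key
  ks := l213pr7x1_kt
  loc := locB l213pr7x1_key l213pr7x1_kt l213pr7x1_bt (nat_lit 6)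

noncomputable def l213pr7x1_fix : ℕ → Bool := fixT a13_2.mul l2131_fix (nat_lit 0x200000000001) (nat_lit 0x200000000001)

noncomputable def l213pr7x2_g : List ℕ := [nat_lit 0x180010000000c]
noncomputable def l213pr7x2_key : ℕ → ℕ := keyT a13_2.mul l2131_key (nat_lit 0x120024004800c) (nat_lit 1261)
noncomputable def l213pr7x2_kt : ℕ → ℕ := pget (nat_lit 0xdfed51cbb74a6a95e353e3fe2931b316809d000) (nat_lit 12) (nat_lit 0xfff)
noncomputable def l213pr7x2_bt : ℕ → ℕ := pget (nat_lit 0xaa60) (nat_lit 4) (nat_lit 0xf)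
noncomputable def l213pr7x2 : LvD where
  n := nat_lit 13
  g := l213pr7x2_g
  T := [nat_lit 0x180010000000c, nat_lit 0x200140000001, nat_lit 0x200280000001, nat_lit 0x2001c0000001, nat_lit 0x200100000001, nat_lit 0x200200000001, nat_lit 0x180030000000c, nat_lit 0x200300000001, nat_lit 0x200080000001, nat_lit 0x2002c0000001, nat_lit 0x180008000000c, nat_lit 0x180020000000c, nat_lit 0x180014000000c, nat_lit 0x180028000000c]
  ab := nat_lit 0x8006000007006004008000007007006006004005001000004004003002002002001001000000000000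
  ia := nat_lit 0xd00b00a008006001004000
  ib := nat_lit 0x400400400400400400400400400400400400400400400400400400400400400400400400400400400400400400400400400400400400400400400400400400400400400400400400400400400400400400400400200c008009007005000004
  ent := pget (nat_lit 0x5042a14200010101a0c2a1c201410041008101c1510200c10000) (nat_lit 16) (nat_lit 0xffff)
  key := l213pr7x2_key
  ks := l213pr7x2_kt
  loc := locB l213pr7x2_key l213pr7x2_kt l213pr7x2_bt (nat_lit 10)

noncomputable def l213pr7x2_fix : ℕ → Bool := fixT a13_2.mul l2131_fix (nat_lit 0x120024004800c) (nat_lit 0x1800100020009)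

noncomputable def l213pr7x3_g : List ℕ := []
noncomputable def l213pr7x3_ls : List Lv := []
noncomputable def l213pr7x2_ls : List Lv := l213pr7x2.lv a13_2.mul a13_2.one :: l213pr7x3_ls
noncomputable def l213pr7x1_ls : List Lv := l213pr7x1.lv a13_2.mul a13_2.one :: l213pr7x2_ls
noncomputable def l213pr7xS3 : ℕ → ℕ → Bool := sLeaf (eqbQ a13_2.mul Nat.beq a13_2.one l213_zs) (nat_lit 0x120024004800c) (powIn a13_2.mul (eqbQ a13_2.mul Nat.beq a13_2.one l213_zs) a13_2.one [7])
noncomputable def l213pr7xS2 : ℕ → ℕ → Bool := sForced a13_2.mul (l213pr7x2.lv a13_2.mul a13_2.one) l213pr7x2_kt (keyT a13_2.mul l2131_key (nat_lit 0x200000000001) (nat_lit 1261)) (fun d => Bool.rec (motive := fun _ => ℕ) (locN l213pr7x2_kt l213pr7x2_bt (nat_lit 10) d) (nat_lit 13) (Nat.blt (nat_lit 3582) d)) l213pr7xS3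
noncomputable def l213pr7x_aux : List ℕ := [nat_lit 0x200040000001, nat_lit 0x200000008001, nat_lit 0x200000000001, nat_lit 0x120024004800c, nat_lit 0x1800100020009]
noncomputable def l213pr13x1_g : List ℕ := [nat_lit 0x200040000001, nat_lit 0x200000008001]
noncomputable def l213pr13x1_key : ℕ → ℕ := keyT a13_2.mul l2131_key (nat_lit 0x600080020003) (nat_lit 2492)
noncomputable def l213pr13x1_kt : ℕ → ℕ := pget (nat_lit 0xfdbfc2fa0f78eefebceb5eafe83e3be20e16e01defdebdccdcbdc1da4d6ed51d1ece7ce3ce2cd0cbecbdc8bc6fc67c39c29bf8bd5b9fb74b6cb66b64af7ae3ad2a99a7ca6ea5ca1b9fe9ed9bc9af99e99499098a98294493e9098c98b38b289388386f82e8168151ea15e1291211190fd0e50df0d30af0a009407a06b000) (nat_lit 12) (nat_lit 0xfff)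
noncomputable def l213pr13x1_bt : ℕ → ℕ := pget (nat_lit 0xa3425c782f9bb360b1424366098f1e3c78f1e3c78f1e3c78f1c28180) (nat_lit 7) (nat_lit 0x7f)
noncomputable def l213pr13x1 : LvD where
  n := nat_lit 84
  g := l213pr13x1_g
  T := [nat_lit 0x200040000001, nat_lit 0x200000008001, nat_lit 0x200080000001, nat_lit 0x200100000001, nat_lit 0x200200000001, nat_lit 0x200300000001, nat_lit 0x200000010001, nat_lit 0x200000020001, nat_lit 0x200000040001, nat_lit 0x200000060001, nat_lit 0x200300008000, nat_lit 0x40060001, nat_lit 0x200000058001, nat_lit 0x200000050001, nat_lit 0x200000018001, nat_lit 0x200000048001, nat_lit 0x200000028001, nat_lit 0x400300008000, nat_lit 0x40060002, nat_lit 0x400040008001, nat_lit 0x200300060002, nat_lit 0x2002c000800c, nat_lit 0x1800080060001, nat_lit 0x2002c0018008, nat_lit 0x1000080050001, nat_lit 0x30000800c, nat_lit 0x1800040060000, nat_lit 0x30000800b, nat_lit 0x1600040060000]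
  ab := nat_lit 0x1600b00a01500b00b00a00a01600c00601500000b00a00500501201100000100b00a00900f00f00c00c00600100900c009009000009001005008007007007006006001001004003003003002002000000000000000000
  ia := nat_lit 0x1b01901701501301100800700d00600c00a009001005000
  ib := nat_lit 0x500500500500500500500500500500500500500500500500500500500500500500500500500500500500500500500500500500500500500500500500500500500500500500500501c01a01801601401201000f00e00c00600b001009000005
  ent := pget (nat_lit 0xa284d010a080185342600060c10db1e1a32431c7861460931213408232604640080140aa1c38a484e8c08c921042826848400b0400c0b41c2627860050579c13a0427c304d0609d141000415e00470d096161052020038210e0a9921800c11e68614f08b9a1193c20a6040040421e1262020a50400e05a101003017c40540d0d51018034140684bc1080040852c2004032840cc961041024c384147090121042c26868414009a081040426878448c0da0a12224268184100080000802410a484f8909d16100000) (nat_lit 19) (nat_lit 0x7ffff)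
  key := l213pr13x1_key
  ks := l213pr13x1_kt
  loc := locB l213pr13x1_key l213pr13x1_kt l213pr13x1_bt (nat_lit 7)

noncomputable def l213pr13x1_fix : ℕ → Bool := fixT a13_2.mul l2131_fix (nat_lit 0x600080020003) (nat_lit 0x140008002000a)

noncomputable def l213pr13x2_g : List ℕ := [nat_lit 0xc00080040005]
noncomputable def l213pr13x2_key : ℕ → ℕ := keyT a13_2.mul l2131_key (nat_lit 0xc00040028001) (nat_lit 1792)
noncomputable def l213pr13x2_kt : ℕ → ℕ := pget (nat_lit 0xf957517226a960e4e04d24c04a745f44b2db000) (nat_lit 12) (nat_lit 0xfff)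
noncomputable def l213pr13x2_bt : ℕ → ℕ := pget (nat_lit 0xcc20) (nat_lit 4) (nat_lit 0xf)
noncomputable def l213pr13x2 : LvD where
  n := nat_lit 13
  g := l213pr13x2_g
  T := [nat_lit 0xc00080040005, nat_lit 0x240050002, nat_lit 0x1800140038003, nat_lit 0x1400280008005, nat_lit 0x1000080040007, nat_lit 0x180000000000c, nat_lit 0x400100018000, nat_lit 0xa002c0028006, nat_lit 0xe002c0028008, nat_lit 0x1600240050000, nat_lit 0x10001800b, nat_lit 0x1200180058006, nat_lit 0xe00180058004, nat_lit 0x1400140038001, nat_lit 0x20020003000a, nat_lit 0x8001c0010007, nat_lit 0xc001c0010009]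
  ab := nat_lit 0x100800700600800c00b007001000004006000008007004001004000006004004000004003002002002001001000000000000
  ia := nat_lit 0xf00d00b009007006004000
  ib := nat_lit 0x400400400400400400400400400400400400400400400400400400400400400400400400400400400400400400400400400400400400400400400400400400400400400400400400400400400400400400400401000e00c00a008001000004
  ent := pget (nat_lit 0x2182a18200814182014110028182918300417003018100010000) (nat_lit 16) (nat_lit 0xffff)
  key := l213pr13x2_key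
  ks := l213pr13x2_kt
  loc := locB l213pr13x2_key l213pr13x2_kt l213pr13x2_bt (nat_lit 10)

noncomputable def l213pr13x2_fix : ℕ → Bool := fixT a13_2.mul l2131_fix (nat_lit 0xc00040028001) (nat_lit 0x1800040028007)

noncomputable def l213pr13x3_g : List ℕ := []
noncomputable def l213pr13x3_ls : List Lv := []
noncomputable def l213pr13x2_ls : List Lv := l213pr13x2.lv a13_2.mul a13_2.one :: l213pr13x3_ls
noncomputable def l213pr13x1_ls : List Lv := l213pr13x1.lv a13_2.mul a13_2.one :: l213pr13x2_ls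
noncomputable def l213pr13xS3 : ℕ → ℕ → Bool := sLeaf (eqbQ a13_2.mul Nat.beq a13_2.one l213_zs) (nat_lit 0xc001c0010009) (powIn a13_2.mul (eqbQ a13_2.mul Nat.beq a13_2.one l213_zs) a13_2.one [13])
noncomputable def l213pr13xS2 : ℕ → ℕ → Bool := sFree a13_2.mul (l213pr13x2.lv a13_2.mul a13_2.one) l213pr13xS3
noncomputable def l213pr13x_aux : List ℕ := [nat_lit 0x200040000001, nat_lit 0x200000008001, nat_lit 0x600080020003, nat_lit 0x140008002000a, nat_lit 0xc00040028001, nat_lit 0x1800040028007, nat_lit 0xc001c0010009]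
noncomputable def l213p_ol : List ℕ := [nat_lit 0xe00000008002]
theorem l213pr7x1_ok : l213pr7x1.ok a13_2.mul (eqbQ a13_2.mul Nat.beq a13_2.one l213_zs) a13_2.one = true := by decide +kernel
theorem l213pr7x1_next : l213pr7x1.nextOK a13_2.mul a13_2.one l213pr7x2_g (nat_lit 0x4000018000024) = true := by decide +kernel
theorem l213pr7x1_fx : allL l213pr7x1_fix l213pr7x2_g = true := by decide +kernel
theorem l213pr7x1_k_0 : allR (kchk l213pr7x1_key (l213pr7x1.lv a13_2.mul a13_2.one).U l213pr7x1_kt (nat_lit 84)) (nat_lit 0) (nat_lit 84) = true := by decide +kernel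
theorem l213pr7x1_k : ∀ j < nat_lit 84, (kchk l213pr7x1_key (l213pr7x1.lv a13_2.mul a13_2.one).U l213pr7x1_kt (nat_lit 84)) j = true :=
  (allR_step (c := nat_lit 84) (fun _ h => absurd h (Nat.not_lt_zero _)) l213pr7x1_k_0 (by decide))

theorem l213pr7x2_ok : l213pr7x2.ok a13_2.mul (eqbQ a13_2.mul Nat.beq a13_2.one l213_zs) a13_2.one = true := by decide +kernel
theorem l213pr7x2_next : l213pr7x2.nextOK a13_2.mul a13_2.one l213pr7x3_g (nat_lit 0x0) = true := by decide +kernel
theorem l213pr7x2_fx : allL l213pr7x2_fix l213pr7x3_g = true := by decide +kernel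
theorem l213pr7x2_k_0 : allR (kchk l213pr7x2_key (l213pr7x2.lv a13_2.mul a13_2.one).U l213pr7x2_kt (nat_lit 13)) (nat_lit 0) (nat_lit 13) = true := by decide +kernel
theorem l213pr7x2_k : ∀ j < nat_lit 13, (kchk l213pr7x2_key (l213pr7x2.lv a13_2.mul a13_2.one).U l213pr7x2_kt (nat_lit 13)) j = true :=
  (allR_step (c := nat_lit 13) (fun _ h => absurd h (Nat.not_lt_zero _)) l213pr7x2_k_0 (by decide))

theorem l213pr7x_s_0 : allR (sAt a13_2.mul (l213pr7x1.lv a13_2.mul a13_2.one) l213pr7xS2 (nat_lit 0x120024004800c) a13_2.one) (nat_lit 0) (nat_lit 84) = true := by decide +kernel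
theorem l213pr7x_s : ∀ j < nat_lit 84, (sAt a13_2.mul (l213pr7x1.lv a13_2.mul a13_2.one) l213pr7xS2 (nat_lit 0x120024004800c) a13_2.one) j = true :=
  (allR_step (c := nat_lit 84) (fun _ h => absurd h (Nat.not_lt_zero _)) l213pr7x_s_0 (by decide))

theorem l213pr7x_auxok : slpR a13_2.mul a13_2.one (wdsOK a13_2.mul a13_2.one l213pr7x_aux [nat_lit 0x1003003, nat_lit 0x101e, nat_lit 0x1, nat_lit 0x100500a002, nat_lit 0x1003019000001]) (nat_lit 29) (nat_lit 0x1400e01600a00901500000100000100000000300000600001500000600600000000000101100b00a00f00e000009005000000000001002001000005000000000001000000000000004004000001000000000000001001) l213_g = true := by decide +kernel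
theorem l213pr13x1_ok : l213pr13x1.ok a13_2.mul (eqbQ a13_2.mul Nat.beq a13_2.one l213_zs) a13_2.one = true := by decide +kernel
theorem l213pr13x1_next : l213pr13x1.nextOK a13_2.mul a13_2.one l213pr13x2_g (nat_lit 0x3e00001b000009) = true := by decide +kernel
theorem l213pr13x1_fx : allL l213pr13x1_fix l213pr13x2_g = true := by decide +kernel
theorem l213pr13x1_k_0 : allR (kchk l213pr13x1_key (l213pr13x1.lv a13_2.mul a13_2.one).U l213pr13x1_kt (nat_lit 84)) (nat_lit 0) (nat_lit 84) = true := by decide +kernel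
theorem l213pr13x1_k : ∀ j < nat_lit 84, (kchk l213pr13x1_key (l213pr13x1.lv a13_2.mul a13_2.one).U l213pr13x1_kt (nat_lit 84)) j = true :=
  (allR_step (c := nat_lit 84) (fun _ h => absurd h (Nat.not_lt_zero _)) l213pr13x1_k_0 (by decide))

theorem l213pr13x2_ok : l213pr13x2.ok a13_2.mul (eqbQ a13_2.mul Nat.beq a13_2.one l213_zs) a13_2.one = true := by decide +kernel
theorem l213pr13x2_next : l213pr13x2.nextOK a13_2.mul a13_2.one l213pr13x3_g (nat_lit 0x0) = true := by decide +kernel
theorem l213pr13x2_fx : allL l213pr13x2_fix l213pr13x3_g = true := by decide +kernel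
theorem l213pr13x2_k_0 : allR (kchk l213pr13x2_key (l213pr13x2.lv a13_2.mul a13_2.one).U l213pr13x2_kt (nat_lit 13)) (nat_lit 0) (nat_lit 13) = true := by decide +kernel
theorem l213pr13x2_k : ∀ j < nat_lit 13, (kchk l213pr13x2_key (l213pr13x2.lv a13_2.mul a13_2.one).U l213pr13x2_kt (nat_lit 13)) j = true :=
  (allR_step (c := nat_lit 13) (fun _ h => absurd h (Nat.not_lt_zero _)) l213pr13x2_k_0 (by decide))

theorem l213pr13x_s_0 : allR (sAtFix a13_2.mul (l213pr13x1.lv a13_2.mul a13_2.one) l213pr13x1_key l213pr13x1_kt l213pr13xS2 (nat_lit 0xc001c0010009) a13_2.one) (nat_lit 0) (nat_lit 84) = true := by decide +kernel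
theorem l213pr13x_s : ∀ j < nat_lit 84, (sAtFix a13_2.mul (l213pr13x1.lv a13_2.mul a13_2.one) l213pr13x1_key l213pr13x1_kt l213pr13xS2 (nat_lit 0xc001c0010009) a13_2.one) j = true :=
  (allR_step (c := nat_lit 84) (fun _ h => absurd h (Nat.not_lt_zero _)) l213pr13x_s_0 (by decide))

theorem l213pr13x_auxok : slpR a13_2.mul a13_2.one (wdsOK a13_2.mul a13_2.one l213pr13x_aux [nat_lit 0x1005005, nat_lit 0x1020, nat_lit 0x100e020, nat_lit 0x100200200e00d, nat_lit 0x1004000001, nat_lit 0x100600d01b, nat_lit 0x1002020000]) (nat_lit 31) (nat_lit 0xd01901500c00000100000000200200000100000100000000300000600001500000600600000000000101100b00a00f00e000009005000000000001002001000005000000000001000000000000004004000001000000000000001001) l213_g = true := by decide +kernel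
theorem l213p_olok : slpR a13_2.mul a13_2.one (wdsOK a13_2.mul a13_2.one l213p_ol [nat_lit 0x100100001b01a]) (nat_lit 26) (nat_lit 0x100000100000000300000600001500000600600000000000101100b00a00f00e000009005000000000001002001000005000000000001000000000000004004000001000000000000001001) l213_g = true := by decide +kernel
theorem l213pr7x_cs {G : Type*} [Group G] (M : Model G) (h1 : M.mul = a13_2.mul) (h2 : M.eqb = (eqbQ a13_2.mul Nat.beq a13_2.one l213_zs))
    (h3 : M.one = a13_2.one) (vv : ∀ c ∈ l213_g, M.In ⊤ c) {St : Subgroup G} (k1 : Key M St l2131_key l2131_fix) [Finite G]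
    (hc : Nat.card G ≤ 1092) :
    ∃ y, M.R (nat_lit 0x120024004800c) y ∧ CT M y (powIn a13_2.mul (eqbQ a13_2.mul Nat.beq a13_2.one l213_zs) a13_2.one [7]) := by
  obtain ⟨R, one, mul, eqb, a1, a2, a3⟩ := M
  dsimp only at h1 h2 h3
  subst h1 h2 h3
  set M : Model G := ⟨R, a13_2.one, a13_2.mul, (eqbQ a13_2.mul Nat.beq a13_2.one l213_zs), a1, a2, a3⟩ with hM
  have va := in_of_slpW (M := M) _ vv l213pr7x_auxok
  obtain ⟨tl213pr7x1, hTl213pr7x1⟩ := exists_R va (c := (nat_lit 0x200000000001)) (by (try dsimp only [M]); decide +kernel)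
  have kl213pr7x1 : Key M (cjS St tl213pr7x1) l213pr7x1_key l213pr7x1_fix := k1.keyT hTl213pr7x1 (R_inv_of hTl213pr7x1 (exists_R va (c := (nat_lit 0x200000000001)) (by (try dsimp only [M]); decide +kernel)) (by (try dsimp only [M]); decide +kernel)) _
  obtain ⟨tl213pr7x2, hTl213pr7x2⟩ := exists_R va (c := (nat_lit 0x120024004800c)) (by (try dsimp only [M]); decide +kernel)
  have kl213pr7x2 : Key M (cjS St tl213pr7x2) l213pr7x2_key l213pr7x2_fix := k1.keyT hTl213pr7x2 (R_inv_of hTl213pr7x2 (exists_R va (c := (nat_lit 0x1800100020009)) (by (try dsimp only [M]); decide +kernel)) (by (try dsimp only [M]); decide +kernel)) _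
  have gl213pr7x1 : ∀ c ∈ l213pr7x1_g, M.In ⊤ c := valid_sub va (by (try dsimp only [M]); decide +kernel)
  have gl213pr7x2 := LvD.valid_next (D := l213pr7x1) gl213pr7x1 l213pr7x1_ok l213pr7x1_next
  have ll213pr7x1 := LvD.le_next (D := l213pr7x1) gl213pr7x1 l213pr7x1_ok l213pr7x1_next
  have gl213pr7x3 := LvD.valid_next (D := l213pr7x2) gl213pr7x2 l213pr7x2_ok l213pr7x2_next
  have ll213pr7x2 := LvD.le_next (D := l213pr7x2) gl213pr7x2 l213pr7x2_ok l213pr7x2_next
  have cl213pr7x3 : 1 ≤ Nat.card (M.cl l213pr7x3_g) := Nat.card_pos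
  have cl213pr7x2 : 13 ≤ Nat.card (M.cl l213pr7x2_g) := le_trans (by (try dsimp only [M]); decide +kernel) (LvD.lower (D := l213pr7x2) gl213pr7x2 l213pr7x2_ok cl213pr7x3 ll213pr7x2 kl213pr7x2 l213pr7x2_fx l213pr7x2_k)
  have cl213pr7x1 : 1092 ≤ Nat.card (M.cl l213pr7x1_g) := le_trans (by (try dsimp only [M]); decide +kernel) (LvD.lower (D := l213pr7x1) gl213pr7x1 l213pr7x1_ok cl213pr7x2 ll213pr7x1 kl213pr7x1 l213pr7x1_fx l213pr7x1_k)
  have ul213pr7x1 : Finite (M.cl l213pr7x1_g) ∧ Nat.card (M.cl l213pr7x1_g) ≤ 1092 := ⟨inferInstance, (Subgroup.card_le_card_group _).trans hc⟩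
  have ul213pr7x2 := LvD.card_next (D := l213pr7x1) (m := 13) gl213pr7x1 l213pr7x1_ok ll213pr7x1 kl213pr7x1 l213pr7x1_fx l213pr7x1_k (ul213pr7x1.2.trans (by (try dsimp only [M]); decide +kernel))
  have ul213pr7x3 := LvD.card_next (D := l213pr7x2) (m := 1) gl213pr7x2 l213pr7x2_ok ll213pr7x2 kl213pr7x2 l213pr7x2_fx l213pr7x2_k (ul213pr7x2.2.trans (by (try dsimp only [M]); decide +kernel))
  have el213pr7x3 : Exact M (M.cl l213pr7x3_g) l213pr7x3_ls ∧ True := ⟨Exact.nil, trivial⟩
  have el213pr7x2 := LvD.exact' (D := l213pr7x2) gl213pr7x2 l213pr7x2_ok el213pr7x3.1 ll213pr7x2 kl213pr7x2 l213pr7x2_fx l213pr7x2_k (ul213pr7x2.2.trans (by (try dsimp only [M]); decide +kernel))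
  have el213pr7x1 := LvD.exact' (D := l213pr7x1) gl213pr7x1 l213pr7x1_ok el213pr7x2.1 ll213pr7x1 kl213pr7x1 l213pr7x1_fx l213pr7x1_k (ul213pr7x1.2.trans (by (try dsimp only [M]); decide +kernel))
  obtain ⟨y, hy⟩ := exists_R va (c := (nat_lit 0x120024004800c)) (by (try dsimp only [M]); decide +kernel)
  have s3 : SB M (M.cl l213pr7x3_g) y (fun x => ∃ c, M.R c x ∧ (powIn a13_2.mul (eqbQ a13_2.mul Nat.beq a13_2.one l213_zs) a13_2.one [7]) c = true) l213pr7xS3 := SB.leaf hy test_spec
  obtain ⟨r2, hr2⟩ := exists_R va (c := (nat_lit 0x200000000001)) (by (try dsimp only [M]); decide +kernel)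
  have s2 : SB M (M.cl l213pr7x2_g) y (fun x => ∃ c, M.R c x ∧ (powIn a13_2.mul (eqbQ a13_2.mul Nat.beq a13_2.one l213_zs) a13_2.one [7]) c = true) l213pr7xS2 := SB.forced el213pr7x2.1.1 el213pr7x2.2 (k1.fk hr2 (M.R_congr hTl213pr7x2 (M.eq_of hTl213pr7x2 (M.R_mul hy hr2) (by (try dsimp only [M]); decide +kernel)))
    ((k1.keyT hr2 (R_inv_of hr2 (exists_R va (c := (nat_lit 0x200000000001)) (by (try dsimp only [M]); decide +kernel)) (by (try dsimp only [M]); decide +kernel)) 0).cl_le (l := l213pr7x2_g) (by (try dsimp only [M]); decide +kernel)) _) _ s3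
  have ht : M.cl l213pr7x1_g = ⊤ := Subgroup.eq_top_of_le_card _ (hc.trans (le_trans (by (try dsimp only [M]); decide +kernel) el213pr7x1.1.2.ge))
  exact ⟨y, hy, of_sol_top ht (SB.free_all el213pr7x1.1.1 el213pr7x1.2 s2 hy M.R_one l213pr7x_s)⟩

theorem l213pr13x_cs {G : Type*} [Group G] (M : Model G) (h1 : M.mul = a13_2.mul) (h2 : M.eqb = (eqbQ a13_2.mul Nat.beq a13_2.one l213_zs))
    (h3 : M.one = a13_2.one) (vv : ∀ c ∈ l213_g, M.In ⊤ c) {St : Subgroup G} (k1 : Key M St l2131_key l2131_fix) [Finite G]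
    (hc : Nat.card G ≤ 1092) :
    ∃ y, M.R (nat_lit 0xc001c0010009) y ∧ CT M y (powIn a13_2.mul (eqbQ a13_2.mul Nat.beq a13_2.one l213_zs) a13_2.one [13]) := by
  obtain ⟨R, one, mul, eqb, a1, a2, a3⟩ := M
  dsimp only at h1 h2 h3
  subst h1 h2 h3
  set M : Model G := ⟨R, a13_2.one, a13_2.mul, (eqbQ a13_2.mul Nat.beq a13_2.one l213_zs), a1, a2, a3⟩ with hM
  have va := in_of_slpW (M := M) _ vv l213pr13x_auxok
  obtain ⟨tl213pr13x1, hTl213pr13x1⟩ := exists_R va (c := (nat_lit 0x600080020003)) (by (try dsimp only [M]); decide +kernel)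
  have kl213pr13x1 : Key M (cjS St tl213pr13x1) l213pr13x1_key l213pr13x1_fix := k1.keyT hTl213pr13x1 (R_inv_of hTl213pr13x1 (exists_R va (c := (nat_lit 0x140008002000a)) (by (try dsimp only [M]); decide +kernel)) (by (try dsimp only [M]); decide +kernel)) _
  obtain ⟨tl213pr13x2, hTl213pr13x2⟩ := exists_R va (c := (nat_lit 0xc00040028001)) (by (try dsimp only [M]); decide +kernel)
  have kl213pr13x2 : Key M (cjS St tl213pr13x2) l213pr13x2_key l213pr13x2_fix := k1.keyT hTl213pr13x2 (R_inv_of hTl213pr13x2 (exists_R va (c := (nat_lit 0x1800040028007)) (by (try dsimp only [M]); decide +kernel)) (by (try dsimp only [M]); decide +kernel)) _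
  have gl213pr13x1 : ∀ c ∈ l213pr13x1_g, M.In ⊤ c := valid_sub va (by (try dsimp only [M]); decide +kernel)
  have gl213pr13x2 := LvD.valid_next (D := l213pr13x1) gl213pr13x1 l213pr13x1_ok l213pr13x1_next
  have ll213pr13x1 := LvD.le_next (D := l213pr13x1) gl213pr13x1 l213pr13x1_ok l213pr13x1_next
  have gl213pr13x3 := LvD.valid_next (D := l213pr13x2) gl213pr13x2 l213pr13x2_ok l213pr13x2_next
  have ll213pr13x2 := LvD.le_next (D := l213pr13x2) gl213pr13x2 l213pr13x2_ok l213pr13x2_next
  have cl213pr13x3 : 1 ≤ Nat.card (M.cl l213pr13x3_g) := Nat.card_pos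
  have cl213pr13x2 : 13 ≤ Nat.card (M.cl l213pr13x2_g) := le_trans (by (try dsimp only [M]); decide +kernel) (LvD.lower (D := l213pr13x2) gl213pr13x2 l213pr13x2_ok cl213pr13x3 ll213pr13x2 kl213pr13x2 l213pr13x2_fx l213pr13x2_k)
  have cl213pr13x1 : 1092 ≤ Nat.card (M.cl l213pr13x1_g) := le_trans (by (try dsimp only [M]); decide +kernel) (LvD.lower (D := l213pr13x1) gl213pr13x1 l213pr13x1_ok cl213pr13x2 ll213pr13x1 kl213pr13x1 l213pr13x1_fx l213pr13x1_k)
  have ul213pr13x1 : Finite (M.cl l213pr13x1_g) ∧ Nat.card (M.cl l213pr13x1_g) ≤ 1092 := ⟨inferInstance, (Subgroup.card_le_card_group _).trans hc⟩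
  have ul213pr13x2 := LvD.card_next (D := l213pr13x1) (m := 13) gl213pr13x1 l213pr13x1_ok ll213pr13x1 kl213pr13x1 l213pr13x1_fx l213pr13x1_k (ul213pr13x1.2.trans (by (try dsimp only [M]); decide +kernel))
  have ul213pr13x3 := LvD.card_next (D := l213pr13x2) (m := 1) gl213pr13x2 l213pr13x2_ok ll213pr13x2 kl213pr13x2 l213pr13x2_fx l213pr13x2_k (ul213pr13x2.2.trans (by (try dsimp only [M]); decide +kernel))
  have el213pr13x3 : Exact M (M.cl l213pr13x3_g) l213pr13x3_ls ∧ True := ⟨Exact.nil, trivial⟩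
  have el213pr13x2 := LvD.exact' (D := l213pr13x2) gl213pr13x2 l213pr13x2_ok el213pr13x3.1 ll213pr13x2 kl213pr13x2 l213pr13x2_fx l213pr13x2_k (ul213pr13x2.2.trans (by (try dsimp only [M]); decide +kernel))
  have el213pr13x1 := LvD.exact' (D := l213pr13x1) gl213pr13x1 l213pr13x1_ok el213pr13x2.1 ll213pr13x1 kl213pr13x1 l213pr13x1_fx l213pr13x1_k (ul213pr13x1.2.trans (by (try dsimp only [M]); decide +kernel))
  obtain ⟨y, hy⟩ := exists_R va (c := (nat_lit 0xc001c0010009)) (by (try dsimp only [M]); decide +kernel)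
  have s3 : SB M (M.cl l213pr13x3_g) y (fun x => ∃ c, M.R c x ∧ (powIn a13_2.mul (eqbQ a13_2.mul Nat.beq a13_2.one l213_zs) a13_2.one [13]) c = true) l213pr13xS3 := SB.leaf hy test_spec
  have s2 : SB M (M.cl l213pr13x2_g) y (fun x => ∃ c, M.R c x ∧ (powIn a13_2.mul (eqbQ a13_2.mul Nat.beq a13_2.one l213_zs) a13_2.one [13]) c = true) l213pr13xS2 := SB.free el213pr13x2.1.1 el213pr13x2.2 s3
  have ht : M.cl l213pr13x1_g = ⊤ := Subgroup.eq_top_of_le_card _ (hc.trans (le_trans (by (try dsimp only [M]); decide +kernel) el213pr13x1.1.2.ge))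
  exact ⟨y, hy, of_sol_top ht (SB.fix_all el213pr13x1.1.1 el213pr13x1.2 kl213pr13x1 (kl213pr13x1.mem hy (by (try dsimp only [M]); decide +kernel)) s2 hy M.R_one l213pr13x_s)⟩

theorem l213p_dat {G : Type*} [Group G] (M : Model G) (h1 : M.mul = a13_2.mul) (h2 : M.eqb = (eqbQ a13_2.mul Nat.beq a13_2.one l213_zs))
    (h3 : M.one = a13_2.one) (vv : ∀ c ∈ l213_g, M.In ⊤ c) {St : Subgroup G} (k1 : Key M St l2131_key l2131_fix) [Finite G]
    (hN : Nat.card G = 1092) :
    (∀ p : ℕ, p.Prime → (p ∣ Nat.card G ↔ p ∈ [2, 3, 7, 13])) ∧ (∀ n ∈ [6], ∃ g : G, orderOf g = n) ∧ SC G 7 7 ∧ SC G 13 13 := by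
  have c7 := l213pr7x_cs M h1 h2 h3 vv k1 hN.le
  have c13 := l213pr13x_cs M h1 h2 h3 vv k1 hN.le
  revert c7 c13
  obtain ⟨R, one, mul, eqb, a1, a2, a3⟩ := M
  dsimp only at h1 h2 h3
  subst h1 h2 h3
  set M : Model G := ⟨R, a13_2.one, a13_2.mul, (eqbQ a13_2.mul Nat.beq a13_2.one l213_zs), a1, a2, a3⟩ with hM
  intro c7 c13
  have va := in_of_slpW (M := M) _ vv l213p_olok
  exact ⟨primes_of hN (by decide +kernel), ordsOK_spec (M := M) (ps := [2, 3, 7, 13]) va (by decide) (by (try dsimp only [M]); decide +kernel) (by decide +kernel),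
    SC.of_ct (M := M) (by norm_num) hN (by norm_num) (by (try dsimp only [M]); decide +kernel) c7,
    SC.of_ct (M := M) (by norm_num) hN (by norm_num) (by (try dsimp only [M]); decide +kernel) c13⟩

theorem l213_card {F : Type*} [Field F] [Fintype F] (hF : Fintype.card F = 13) : Nat.card (Matrix.SpecialLinearGroup (Fin 2) F ⧸ Subgroup.center (Matrix.SpecialLinearGroup (Fin 2) F)) = 1092 :=
  Nat.eq_of_mul_eq_mul_left (by norm_num : 0 < 2) (by
    have h := H22.card_center_mul_card_quotient (Matrix.SpecialLinearGroup (Fin 2) F)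
    rw [show Nat.card (Subgroup.center (Matrix.SpecialLinearGroup (Fin 2) F)) = 2 from
      (H22.card_center_SL (F := F) 2 (by norm_num)).trans (by rw [hF]; rfl), Nat.eq_of_mul_eq_mul_left (by norm_num : 0 < 12) (show 12 * Nat.card (Matrix.SpecialLinearGroup (Fin 2) F) = 12 * 2184 by
    have h := H22.card_SL (F := F) 2 (by norm_num); rw [hF] at h; exact h.trans (by decide +kernel))] at h
    exact h)

theorem l213_pg {F : Type*} [Field F] [Fintype F] (hF : Fintype.card F = 13) :
    PG (Matrix.ProjectiveSpecialLinearGroup (Fin 2) F) [2, 3, 7, 13] [6] := by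
  obtain ⟨q⟩ := l213_ex hF
  obtain ⟨_, k⟩ := l213_key q
  have hN := l213_card hF
  haveI := Nat.finite_of_card_ne_zero (hN.trans_ne (by norm_num))
  obtain ⟨a, b, c7, c13⟩ := l213p_dat q.M rfl rfl rfl q.valid k hN
  exact pg_of a b (cs := [(7, 7), (13, 13)]) (by simp [c7, c13]) (by decide)

end H29
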