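import Cfsg.Agent.H29.Wd
import Cfsg.Agent.H29.A2x24
import Cfsg.Agent.H27.LCo1

set_option autoImplicit false
set_option maxRecDepth 100000
set_option linter.style.haveILetI false

/-! The Conway groups acting on the Leech lattice modulo two: matrix models. -/

namespace H29

open Cfsg H27 Finset

noncomputable def leeV (j : Fin 24) : LL := lv (lget LB j)

theorem leeV_coe (j : Fin 24) : (leeV j : VV) = vc (lget LB j) :=
  coe_lv ((by decide +kernel : ∀ j : Fin 24, inL (lget LB j) = true) j)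

theorem leeV_li : LinearIndependent ℤ leeV := by
  rw [Fintype.linearIndependent_iff]
  intro g hg i
  have h : ∀ i j : Fin 24, (i < j → vc (lget LB j) (gpt i) = 0) ∧ vc (lget LB i) (gpt i) ≠ 0 := by decide +kernel
  induction i using WellFoundedLT.induction with
  | _ i ih =>
    have h1 := congrFun (congrArg Subtype.val hg) (gpt i)
    rw [AddSubgroup.val_finsetSum, Finset.sum_apply, sum_eq_single i] at h1
    · simpa [leeV_coe, (h i i).2] using h1
    · intro j _ hj
      rcases lt_or_gt_of_ne hj with h2 | h2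
      · simp [ih j h2]
      · simp [leeV_coe, (h i j).1 h2]
    · simp

theorem leeV_span : ⊤ ≤ Submodule.span ℤ (Set.range leeV) := by
  intro x _
  obtain ⟨y, hy, e⟩ := LL_le_LB (K := (Submodule.span ℤ (Set.range leeV)).toAddSubgroup.map leechLattice.subtype)
    (fun X hX => by
      obtain ⟨j, rfl⟩ := (by decide +kernel : ∀ X ∈ LB, ∃ j : Fin 24, lget LB j = X) X hX
      exact ⟨leeV j, Submodule.subset_span ⟨j, rfl⟩, leeV_coe j⟩) x.2
  exact Subtype.ext e ▸ hy

noncomputable def leeB : Module.Basis (Fin 24) ℤ LL := Module.Basis.mk leeV_li leeV_span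

/-- The action on the lattice modulo two. -/
noncomputable def leeRho : CC →* Matrix (Fin 24) (Fin 24) (ZMod 2) :=
  (Int.castRingHom (ZMod 2)).mapMatrix.toMonoidHom.comp
    ((LinearMap.toMatrixAlgEquiv leeB).toMulEquiv.toMonoidHom.comp (DistribMulAction.toModuleEnd ℤ LL))

theorem leeRho_apply (g : CC) (i j : Fin 24) : leeRho g i j = ((leeB.repr (g • leeV j) i : ℤ) : ZMod 2) := by
  simp [leeRho, LinearMap.toMatrixAlgEquiv_apply, leeB]

theorem mem_of_mod8 {x y : VV} (hy : y ∈ leechLattice) (h : ∀ p, 8 ∣ x p - y p) : x ∈ leechLattice := by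
  have : x = y + ∑ p, Pi.single p (x p - y p) := by rw [univ_sum_single (fun p => x p - y p)]; ext p; simp
  rw [this]
  exact add_mem hy (sum_mem fun p _ => single_mem p (h p))

noncomputable def leeS (c Y j p : ℕ) : ℕ :=
  Nat.add (Nat.add (H27.ent 5 Y p) 8) (sum1 (fun i => Nat.mul (pget c 1 1 (Nat.add (Nat.mul 24 j) i))
    (Nat.add 8 (Nat.mul 15 (H27.ent 5 (lget LB i) p)))) 0 24)

/-- The vector with code `Y` is congruent modulo `2Λ` to column `j` of `c`. -/
noncomputable def leeCol (c Y j : ℕ) : Bool :=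
  force (sum1 (fun p => Nat.shiftLeft (Nat.add (Nat.mod (Nat.div (leeS c Y j p) 2) 8) 8) (Nat.mul 5 p)) 0 24) fun Z =>
    band (inL Z) (all1 (fun p => Nat.beq (Nat.mod (Nat.add (leeS c Y j p) (Nat.mul 14 (H27.ent 5 Z p))) 16) 0) 0 24)

theorem leeCol_spec {c Y j : ℕ} (h : leeCol c Y j = true) {y : LL} (hy : (y : VV) = vc Y) (i : Fin 24) :
    ((leeB.repr y i : ℤ) : ZMod 2) = (pget c 1 1 (24 * j + i) : ℕ) := by
  rw [leeCol, force_eq, band_iff] at h
  generalize sum1 _ 0 24 = Z at h
  let s : LL := ∑ i : Fin 24, (pget c 1 1 (24 * j + i) : ℤ) • leeV i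
  have h1 : ∀ p, 16 ∣ ((y - s : LL) : VV) p - 2 * vc Z p := by
    intro p
    have h2 : (leeS c Y j (gix p) + 14 * H27.ent 5 Z (gix p)) % 16 = 0 :=
      Nat.eq_of_beq_eq_true (all1_lt h.2 (gix p) (GE.ix_lt p))
    have h3 : (s : VV) p + (∑ i ∈ range 24, pget c 1 1 (24 * j + i) * (8 + 15 * H27.ent 5 (lget LB i) (gix p)) : ℕ) =
        16 * (∑ i ∈ range 24, pget c 1 1 (24 * j + i) * H27.ent 5 (lget LB i) (gix p) : ℕ) := by
      simp only [s, AddSubgroup.val_finsetSum, Finset.sum_apply, AddSubgroupClass.coe_zsmul, Pi.smul_apply, leeV_coe,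
        smul_eq_mul, vc]
      rw [Fin.sum_univ_eq_sum_range (fun i => (pget c 1 1 (24 * j + i) : ℤ) * ((H27.ent 5 (lget LB i) (gix p) : ℤ) - 8))]
      push_cast
      rw [← sum_add_distrib, mul_sum]
      exact sum_congr rfl fun _ _ => by ring
    simp only [leeS, sum1_eq, zero_add, Nat.add_eq, Nat.mul_eq] at h2
    rw [AddSubgroupClass.coe_sub, Pi.sub_apply, hy, vc, vc]
    omega
  have h4 : (fun p => ((y - s : LL) : VV) p / 2) ∈ leechLattice :=
    mem_of_mod8 (vc_mem h.1) fun p => by have := h1 p; omega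
  have h5 : y = s + (2 : ℤ) • (⟨_, h4⟩ : LL) := Subtype.ext (funext fun p => by
    have := h1 p
    simp only [AddSubgroupClass.coe_sub, Pi.sub_apply, AddSubgroup.coe_add, AddSubgroupClass.coe_zsmul, Pi.add_apply,
      Pi.smul_apply, smul_eq_mul] at this ⊢
    omega)
  have h6 : leeB.repr s i = pget c 1 1 (24 * j + i) := by
    have : s = ∑ i : Fin 24, (pget c 1 1 (24 * j + i) : ℤ) • leeB i := by simp only [s, leeB, Module.Basis.mk_apply]
    rw [this, Module.Basis.repr_sum_self]
  rw [h5, map_add, map_zsmul, Finsupp.add_apply, h6, Finsupp.smul_apply, smul_eq_mul]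
  push_cast
  rw [show (2 : ZMod 2) = 0 from rfl, zero_mul, add_zero]

/-- `c` is the matrix modulo two of the automorphism with code `M`. -/
noncomputable def leeOK (M c : ℕ) : Bool :=
  band (band (cochk M) (codeOK 2 (24 * 24) 1 c))
    (all1 (fun j => force (lget LB j) fun X => force (mvN M X) fun Y =>
      band (band (mvChk M X Y) (inL Y)) (leeCol c Y j)) 0 24)

theorem lee_code {M c : ℕ} (h : leeOK M c = true) : c = code 1 (leeRho (cm M)) := by
  rw [leeOK, band_iff, band_iff] at h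
  refine code_eq_of one_pos h.1.2 fun i j => ?_
  have h1 := all1_lt h.2 j j.2
  rw [force_eq, force_eq, band_iff, band_iff] at h1
  rw [leeRho_apply, cm_smul_vc h.1.1 (leeV_coe j) (coe_lv h1.1.2) h1.1.1, leeCol_spec h1.2 (coe_lv h1.1.2)]
  rfl

theorem leeRho_neg1 : leeRho neg1 = 1 := by
  ext i j
  rw [leeRho_apply, neg1_smul, map_neg, ← map_one leeRho, leeRho_apply, one_smul]
  simp

theorem leeRho_ker {g : CC} (h : leeRho g = 1) : g = 1 ∨ g = neg1 := by
  refine (normal_cases leeRho.ker).elim (fun h' => h' g h) fun h' => ?_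
  have h1 : leeOK (lget m2 0) (nat_lit 0xb288d955d772a8edbac1171fb8b32379d6ee477000fb83fef77f1ed747be0c152f326d05161bc3a8dba3c4e87061c848a0cee75f3cc0df079678e519244ef38a4a73163ac21b3419) = true := by decide +kernel
  have h2 := lee_code h1
  rw [MonoidHom.mem_ker.1 (h' ▸ Subgroup.mem_top (cm (lget m2 0))), ← show _ = code 1 1 from a2_24.one_eq] at h2
  exact absurd h2 (by decide +kernel)

theorem leeRho_inj {K : Subgroup CC} {x : LL} (hx : sqNorm (x : VV) ≠ 0) (hK : K ≤ MulAction.stabilizer CC x) :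
    Function.Injective (leeRho.comp K.subtype) := by
  rw [injective_iff_map_eq_one]
  intro g hg
  refine Subtype.ext ((leeRho_ker hg).resolve_right fun e => hx ?_)
  have h1 : -x = x := by rw [← neg1_smul, ← e]; exact hK g.2
  have h2 : (x : VV) = 0 := funext fun p => by
    have := congrFun (congrArg Subtype.val h1) p
    simp only [AddSubgroup.coe_neg, Pi.neg_apply, Pi.zero_apply] at this ⊢
    omega
  rw [h2]; simp [sqNorm]

theorem c2_inj : Function.Injective (leeRho.comp C2.subtype) := leeRho_inj (by rw [norm_lU]; norm_num) le_rfl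
theorem c3_inj : Function.Injective (leeRho.comp C3.subtype) := leeRho_inj (by rw [norm_lV]; norm_num) le_rfl
theorem cMc_inj : Function.Injective (leeRho.comp CMc.subtype) := leeRho_inj (by rw [norm_lV]; norm_num) inf_le_left
theorem cHS_inj : Function.Injective (leeRho.comp CHS.subtype) := leeRho_inj (by rw [norm_lV]; norm_num) inf_le_left

noncomputable def c1Rho : Spor.Co1 →* Matrix (Fin 24) (Fin 24) (ZMod 2) :=
  QuotientGroup.lift _ leeRho fun g hg => by
    rcases mem_center_iff.1 hg with rfl | rfl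
    exacts [map_one _, leeRho_neg1]

theorem c1_inj : Function.Injective c1Rho := by
  rw [injective_iff_map_eq_one]
  intro g hg
  induction g using QuotientGroup.induction_on with
  | H g => exact (QuotientGroup.eq_one_iff g).2 (mem_center_iff.2 (leeRho_ker hg))

noncomputable def c1M : Model Spor.Co1 := a2_24.model c1Rho c1_inj
noncomputable def c2M : Model C2 := a2_24.model _ c2_inj
noncomputable def c3M : Model C3 := a2_24.model _ c3_inj
noncomputable def cMcM : Model CMc := a2_24.model _ cMc_inj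
noncomputable def cHSM : Model CHS := a2_24.model _ cHS_inj

noncomputable def leeOKL (Ms L : List ℕ) : Bool :=
  band (Nat.beq Ms.length L.length) (all1 (fun i => force (lget Ms i) fun M => force (lgetD 0 L i) (leeOK M)) 0 L.length)

theorem leeOKL_spec {Ms L : List ℕ} (h : leeOKL Ms L = true) :
    (∀ c ∈ L, ∃ M ∈ Ms, c = code 1 (leeRho (cm M))) ∧ ∀ M ∈ Ms, code 1 (leeRho (cm M)) ∈ L := by
  rw [leeOKL, band_iff] at h
  have e := Nat.eq_of_beq_eq_true h.1
  have h1 : ∀ i < L.length, lgetD 0 L i = code 1 (leeRho (cm (lgetD 0 Ms i))) := fun i hi => by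
    have := all1_lt h.2 i hi
    rw [force_eq, force_eq] at this
    rw [lgetD_eq 0 Ms, ← lget_eq]; exact lee_code this
  refine ⟨fun c hc => ?_, fun M hM => ?_⟩
  · obtain ⟨i, hi, rfl⟩ := exists_lgetD 0 hc
    exact ⟨_, lgetD_mem (e ▸ hi), h1 i hi⟩
  · obtain ⟨i, hi, rfl⟩ := exists_lgetD 0 hM
    exact h1 i (e ▸ hi) ▸ lgetD_mem (e ▸ hi)

theorem lee_R {K : Subgroup CC} {hi : Function.Injective (leeRho.comp K.subtype)} {c : ℕ} {g : K} :
    (a2_24.model _ hi).R c g ↔ c = code 1 (leeRho g) := Iff.rfl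

theorem c1_R {c : ℕ} {g : CC} : c1M.R c (g : Spor.Co1) ↔ c = code 1 (leeRho g) := Iff.rfl

theorem lee_valid {K : Subgroup CC} (hi : Function.Injective (leeRho.comp K.subtype)) {Ms L : List ℕ}
    (h : leeOKL Ms L = true) (hK : H27.cl (Ms.map cm) = K) :
    (∀ c ∈ L, (a2_24.model _ hi).In ⊤ c) ∧ (a2_24.model _ hi).cl L = ⊤ := by
  obtain ⟨h1, h2⟩ := leeOKL_spec h
  refine ⟨fun c hc => ?_, ?_⟩
  · obtain ⟨M, hM, e⟩ := h1 c hc
    exact ⟨⟨cm M, hK ▸ H27.mem_cl (List.mem_map_of_mem hM)⟩, trivial, lee_R.2 e⟩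
  · subst hK
    refine eq_top_iff.2 ((Subgroup.closure_closure_coe_preimage (k := _)).ge.trans (Subgroup.closure_mono ?_))
    intro g hg
    obtain ⟨M, hM, e⟩ := List.mem_map.1 hg
    exact ⟨_, h2 M hM, lee_R.2 (by rw [e])⟩

theorem c1_valid {Ms L : List ℕ} (h : leeOKL Ms L = true) : ∀ c ∈ L, c1M.In ⊤ c := fun c hc =>
  let ⟨M, _, e⟩ := (leeOKL_spec h).1 c hc; ⟨(cm M : CC), trivial, c1_R.2 e⟩

theorem lee_key {G : Type*} [Group G] (ρ : G →* Matrix (Fin 24) (Fin 24) (ZMod 2)) (hρ : Function.Injective ρ)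
    (b q : ℕ) (h : codeOK 2 (24 * 24) 1 b = true) :
    Key (a2_24.model ρ hρ) (stabM ρ (decode 2 24 1 b)) (keyP a2_24.mul b q) (fixP a2_24.mul b) :=
  a2_24.keyP _ hρ (code_decode one_pos h).symm q

end H29
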