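import Cfsg.Agent.H29.Lee

set_option autoImplicit false
set_option maxRecDepth 100000
set_option linter.style.haveILetI false
set_option linter.unusedVariables false
set_option linter.style.longLine false
set_option linter.unusedTactic false
set_option linter.unreachableTactic false

namespace H29

open Cfsg H27

noncomputable def c1_g : List ℕ := [nat_lit 0xb288d955d772a8edbac1171fb8b32379d6ee477000fb83fef77f1ed747be0c152f326d05161bc3a8dba3c4e87061c848a0cee75f3cc0df079678e519244ef38a4a73163ac21b3419, nat_lit 0x8e741250b9bed107adc52977ddfe29b89bdc4739be5efbe6ef6bfa3e3ff47410df86fbdc2bfbbf1396b5f5294d7b56487b47189b2458dca599e5b9d22b76702bebae33b4f8642955, nat_lit 0xa780004eb48a50e48a6bb80a004000ca211a816fd0d8648aab980a77911acb311ac9b0003dbc3fd47c82ed8f3538dd986b17e2c26c1086ea2f045a77122ac647b912245418e3ea3d]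
noncomputable def c11_key : ℕ → ℕ := keyP a2_24.mul (nat_lit 0xc75000) (nat_lit 16777216)
noncomputable def c11_fix : ℕ → Bool := fixP a2_24.mul (nat_lit 0xc75000)
theorem c1_ok : leeOKL (m2 ++ [mX.getD 3 0]) c1_g = true := by decide +kernel
theorem c1_valid' : (∀ c ∈ c1_g, c1M.In ⊤ c) ∧ c1M.cl c1_g = ⊤ := by
  refine ⟨c1_valid c1_ok, ?_⟩
  have h1 : H27.cl ((m2 ++ [mX.getD 3 0]).map cm) = ⊤ := by
    refine (over_C2 (cl_m2 ▸ H27.cl_le fun g hg => H27.mem_cl (by simp only [List.map_append, List.mem_append]; exact Or.inl hg))).resolve_left fun h => ?_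
    have h2 := h _ (H27.mem_cl (List.mem_map_of_mem (List.mem_append_right _ List.mem_cons_self)))
    rw [lX_orbit32 (i := 0) (by norm_num)] at h2
    have h3 := q4_lX (i := 3) (by norm_num)
    rcases h2 with h2 | h2 <;> rw [h2] at h3 <;> revert h3 <;> decide +kernel
  refine eq_top_iff.2 fun x _ => ?_
  induction x using QuotientGroup.induction_on with
  | H g =>
    refine H27.cl_le (H := (c1M.cl c1_g).comap (QuotientGroup.mk' _)) (fun a ha => ?_) (h1 ▸ Subgroup.mem_top g)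
    obtain ⟨M, hM, rfl⟩ := List.mem_map.1 ha
    exact Model.mem_cl ((leeOKL_spec c1_ok).2 M hM) (c1_R.2 rfl)
theorem c1_key : ∃ St, Key c1M St c11_key c11_fix := ⟨_, lee_key _ _ _ _ (by decide +kernel)⟩

noncomputable def c2_g : List ℕ := [nat_lit 0xb288d955d772a8edbac1171fb8b32379d6ee477000fb83fef77f1ed747be0c152f326d05161bc3a8dba3c4e87061c848a0cee75f3cc0df079678e519244ef38a4a73163ac21b3419, nat_lit 0x8e741250b9bed107adc52977ddfe29b89bdc4739be5efbe6ef6bfa3e3ff47410df86fbdc2bfbbf1396b5f5294d7b56487b47189b2458dca599e5b9d22b76702bebae33b4f8642955]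
noncomputable def c21_key : ℕ → ℕ := keyP a2_24.mul (nat_lit 0xc9f000) (nat_lit 16777216)
noncomputable def c21_fix : ℕ → Bool := fixP a2_24.mul (nat_lit 0xc9f000)
theorem c2_valid : (∀ c ∈ c2_g, c2M.In ⊤ c) ∧ c2M.cl c2_g = ⊤ :=
  lee_valid c2_inj (by decide +kernel) cl_m2
theorem c2_key : ∃ St, Key c2M St c21_key c21_fix := ⟨_, lee_key _ _ _ _ (by decide +kernel)⟩

noncomputable def c3_g : List ℕ := [nat_lit 0x66e1267f5cc11837bfec4516fdfa890069bffec2c1fbd832b37430a01f6abed4896301f76371d510d4809b2be6e88c10f3096e7659533e6071f572991b3000080000a69eaee6e127, nat_lit 0x755fbdc1a803002000ecf04b9c23fe93796e5cb0558c0eda9ef0a3a7f24b8cc0c1d9f20722076fca5d75c28de787cf57c789d3b9d450550fb3de5d22a9d446c6f75022ad37f55fbc]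
noncomputable def c31_key : ℕ → ℕ := keyP a2_24.mul (nat_lit 0xc75000) (nat_lit 153191)
noncomputable def c31_fix : ℕ → Bool := fixP a2_24.mul (nat_lit 0xc75000)
theorem c3_valid : (∀ c ∈ c3_g, c3M.In ⊤ c) ∧ c3M.cl c3_g = ⊤ :=
  lee_valid c3_inj (by decide +kernel) cl_m3
theorem c3_key : ∃ St, Key c3M St c31_key c31_fix := ⟨_, lee_key _ _ _ _ (by decide +kernel)⟩

noncomputable def cMc_g : List ℕ := [nat_lit 0x6ad7d39640a181d37c94a105c4300d5fd037bff20fefc43e7af06d7ff4598785ee4bd52d8020017fb2a2bce7cfcdb6a82ef75e30afaf3e70a8e5b2f0d106fd7b32181a21bfead7d2, nat_lit 0x44dde7b146019c23fe7ff459fb32199b02114ccb319bf093fdfa89010000d7e3497ff255ffa41c64df3955fdf6a12f3f57dff4a0ad7f041e9f000eaf823cb70069bfc1dfc6c4dde6]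
noncomputable def cMc1_key : ℕ → ℕ := keyP a2_24.mul (nat_lit 0x400000) (nat_lit 129293)
noncomputable def cMc1_fix : ℕ → Bool := fixP a2_24.mul (nat_lit 0x400000)
theorem cMc_valid : (∀ c ∈ cMc_g, cMcM.In ⊤ c) ∧ cMcM.cl cMc_g = ⊤ :=
  lee_valid cMc_inj (by decide +kernel) cl_mM
theorem cMc_key : ∃ St, Key cMcM St cMc1_key cMc1_fix := ⟨_, lee_key _ _ _ _ (by decide +kernel)⟩

noncomputable def cHS_g : List ℕ := [nat_lit 0xc0d5ee840e77084bdd550fb3065b57e3a000040000443fd1b9eff7041e9f056f1f64df39fd75443dd580dd4a29f8f339f57259ad78463e6071318500ad32b1de5d22fd750640d5ef, nat_lit 0x777f7c081bf35007b75f3ce30020004805fb688fcf0902ff0785ef66cd9749f000000eaf831366b4f4244ff08b4b8aa14b2613aff53039f5029fb191008081fdb462020081f77f7d]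
noncomputable def cHS1_key : ℕ → ℕ := keyP a2_24.mul (nat_lit 0xc75000) (nat_lit 3727)
noncomputable def cHS1_fix : ℕ → Bool := fixP a2_24.mul (nat_lit 0xc75000)
theorem cHS_valid : (∀ c ∈ cHS_g, cHSM.In ⊤ c) ∧ cHSM.cl cHS_g = ⊤ :=
  lee_valid cHS_inj (by decide +kernel) cl_mH
theorem cHS_key : ∃ St, Key cHSM St cHS1_key cHS1_fix := ⟨_, lee_key _ _ _ _ (by decide +kernel)⟩

end H29
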