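import Cfsg.Agent.H29.Mr1D

set_option autoImplicit false
set_option maxRecDepth 100000
set_option linter.style.haveILetI false
set_option linter.unusedVariables false
set_option linter.style.longLine false
set_option linter.unusedTactic false
set_option linter.unreachableTactic false

namespace H29

theorem mrX4_k_0 : allR (kchk mrX4_key (mrX4.lv a2_24.mul a2_24.one).U mrX4_kt (nat_lit 9)) (nat_lit 0) (nat_lit 9) = true := by decide +kernel
theorem mrX5_ok : mrX5.ok a2_24.mul Nat.beq a2_24.one = true := by decide +kernel
theorem mrX5_next : mrX5.nextOK a2_24.mul a2_24.one mrX6_g (nat_lit 0x0) = true := by decide +kernel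
theorem mrX5_fx : allL mrX5_fix mrX6_g = true := by decide +kernel
theorem mrX5_s_0 : allR (schk a2_24.mul Nat.beq a2_24.one mrX5_g (mrX5.lv a2_24.mul a2_24.one) mrX6_ls) (nat_lit 0) (nat_lit 4) = true := by decide +kernel
theorem mrX5_k_0 : allR (kchk mrX5_key (mrX5.lv a2_24.mul a2_24.one).U mrX5_kt (nat_lit 4)) (nat_lit 0) (nat_lit 4) = true := by decide +kernel
theorem mrX_auxok : slpR a2_24.mul a2_24.one (wdsOK a2_24.mul a2_24.one mrX_aux [nat_lit 0x1009028040059059, nat_lit 0x100a019017028038037036008, nat_lit 0x100901b02202903904005804a, nat_lit 0x100900a01901102901e04e04e048, nat_lit 0x1009013028028038037038044004006007, nat_lit 0x100900201701e038037003006063, nat_lit 0x101b03201704003505904e06e063071, nat_lit 0x100901b02901e039037005004072055001, nat_lit 0x101103203803703604900306c071071, nat_lit 0x101b01703a04004900806906e001, nat_lit 0x100901b01002803003604a044069071053, nat_lit 0x101b01002203a03905d00300706e, nat_lit 0x100900a011028029040035043072000073, nat_lit 0x101301e01e03a04003a05d004072007, nat_lit 0x100901b01001e03203603a04400506c, nat_lit 0x101b01001901804003705804406c]) (nat_lit 114) (nat_lit 0x6d00606a06101601004503f00005404004204d05c06905a03e04f0000000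1000000400000c00000500000c00000000900000800000100000000300001300001c00001b00700000601001000000100000000200000c00000300800000300000000100100000701d00001300001500001400a00000b00a00a00000900e00000a00001400000100000000a00000100000a00000f00e00e00d00000100000200b00a00000100900800000000000000000b00000e00000a00001000000001901d00a00200000200000b00201500400000101700300000301500000000000400e00000300000100000000000002300000300000400002000000300400001d01901d00c01601600f01000e00000400000200000000000000000001400000200001200000301100000f00000900800f00000e000007001000006000000000000002000000000000005005000000000002000000000000001001) cMc_g = true := by decide +kernel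

end H29
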