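import Cfsg.Agent.H29.Mr2D

set_option autoImplicit false
set_option maxRecDepth 100000
set_option linter.style.haveILetI false
set_option linter.unusedVariables false
set_option linter.style.longLine false
set_option linter.unusedTactic false
set_option linter.unreachableTactic false

namespace H29

theorem mrJ1_ok : mrJ1.ok a2_24.mul Nat.beq a2_24.one = true := by decide +kernel
theorem mrJ1_next : mrJ1.nextOK a2_24.mul a2_24.one mrJ2_g (nat_lit 0x200000000000400000a00000200001b000010000001000004) = true := by decide +kernel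
theorem mrJ1_fx : allL mrJ1_fix mrJ2_g = true := by decide +kernel
theorem mrJ1_s_0 : allR (schk a2_24.mul Nat.beq a2_24.one mrJ1_g (mrJ1.lv a2_24.mul a2_24.one) mrJ2_ls) (nat_lit 0) (nat_lit 30) = true := by decide +kernel
theorem mrJ1_k_0 : allR (kchk mrJ1_key (mrJ1.lv a2_24.mul a2_24.one).U mrJ1_kt (nat_lit 30)) (nat_lit 0) (nat_lit 30) = true := by decide +kernel
theorem mrJ2_ok : mrJ2.ok a2_24.mul Nat.beq a2_24.one = true := by decide +kernel
theorem mrJ2_next : mrJ2.nextOK a2_24.mul a2_24.one mrJ3_g (nat_lit 0x5000000000001000000000000000001000005000001000001000002000001000000000002000000) = true := by decide +kernel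
theorem mrJ2_fx : allL mrJ2_fix mrJ3_g = true := by decide +kernel
theorem mrJ2_s_0 : allR (schk a2_24.mul Nat.beq a2_24.one mrJ2_g (mrJ2.lv a2_24.mul a2_24.one) mrJ3_ls) (nat_lit 0) (nat_lit 2) = true := by decide +kernel
theorem mrJ2_k_0 : allR (kchk mrJ2_key (mrJ2.lv a2_24.mul a2_24.one).U mrJ2_kt (nat_lit 2)) (nat_lit 0) (nat_lit 2) = true := by decide +kernel
theorem mrJ3_ok : mrJ3.ok a2_24.mul Nat.beq a2_24.one = true := by decide +kernel
theorem mrJ3_next : mrJ3.nextOK a2_24.mul a2_24.one mrJ4_g (nat_lit 0x500000100000f00001200000200000d000008000004000012) = true := by decide +kernel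
theorem mrJ3_fx : allL mrJ3_fix mrJ4_g = true := by decide +kernel
theorem mrJ3_s_0 : allR (schk a2_24.mul Nat.beq a2_24.one mrJ3_g (mrJ3.lv a2_24.mul a2_24.one) mrJ4_ls) (nat_lit 0) (nat_lit 27) = true := by decide +kernel
theorem mrJ3_k_0 : allR (kchk mrJ3_key (mrJ3.lv a2_24.mul a2_24.one).U mrJ3_kt (nat_lit 27)) (nat_lit 0) (nat_lit 27) = true := by decide +kernel
theorem mrJ4_ok : mrJ4.ok a2_24.mul Nat.beq a2_24.one = true := by decide +kernel
theorem mrJ4_next : mrJ4.nextOK a2_24.mul a2_24.one mrJ5_g (nat_lit 0x1000004000001) = true := by decide +kernel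
theorem mrJ4_fx : allL mrJ4_fix mrJ5_g = true := by decide +kernel
theorem mrJ4_s_0 : allR (schk a2_24.mul Nat.beq a2_24.one mrJ4_g (mrJ4.lv a2_24.mul a2_24.one) mrJ5_ls) (nat_lit 0) (nat_lit 6) = true := by decide +kernel
theorem mrJ4_k_0 : allR (kchk mrJ4_key (mrJ4.lv a2_24.mul a2_24.one).U mrJ4_kt (nat_lit 6)) (nat_lit 0) (nat_lit 6) = true := by decide +kernel
theorem mrJ5_ok : mrJ5.ok a2_24.mul Nat.beq a2_24.one = true := by decide +kernel
theorem mrJ5_next : mrJ5.nextOK a2_24.mul a2_24.one mrJ6_g (nat_lit 0x0) = true := by decide +kernel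
theorem mrJ5_fx : allL mrJ5_fix mrJ6_g = true := by decide +kernel
theorem mrJ5_s_0 : allR (schk a2_24.mul Nat.beq a2_24.one mrJ5_g (mrJ5.lv a2_24.mul a2_24.one) mrJ6_ls) (nat_lit 0) (nat_lit 3) = true := by decide +kernel
theorem mrJ5_k_0 : allR (kchk mrJ5_key (mrJ5.lv a2_24.mul a2_24.one).U mrJ5_kt (nat_lit 3)) (nat_lit 0) (nat_lit 3) = true := by decide +kernel
theorem mrU1_ok : mrU1.ok a2_24.mul Nat.beq a2_24.one = true := by decide +kernel
theorem mrU1_next : mrU1.nextOK a2_24.mul a2_24.one mrU2_g (nat_lit 0x1000001000001000000000002000000000000000001000000000001000000000000000001000002000001) = true := by decide +kernel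
theorem mrU1_fx : allL mrU1_fix mrU2_g = true := by decide +kernel
theorem mrU1_s_0 : allR (schk a2_24.mul Nat.beq a2_24.one mrU1_g (mrU1.lv a2_24.mul a2_24.one) mrU2_ls) (nat_lit 0) (nat_lit 2) = true := by decide +kernel
theorem mrU1_k_0 : allR (kchk mrU1_key (mrU1.lv a2_24.mul a2_24.one).U mrU1_kt (nat_lit 2)) (nat_lit 0) (nat_lit 2) = true := by decide +kernel
theorem mrU2_ok : mrU2.ok a2_24.mul Nat.beq a2_24.one = true := by decide +kernel
theorem mrU2_next : mrU2.nextOK a2_24.mul a2_24.one mrU3_g (nat_lit 0xa00000300000400000100000800000a000012000000000013) = true := by decide +kernel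
theorem mrU2_fx : allL mrU2_fix mrU3_g = true := by decide +kernel
theorem mrU2_s_0 : allR (schk a2_24.mul Nat.beq a2_24.one mrU2_g (mrU2.lv a2_24.mul a2_24.one) mrU3_ls) (nat_lit 0) (nat_lit 27) = true := by decide +kernel
theorem mrU2_k_0 : allR (kchk mrU2_key (mrU2.lv a2_24.mul a2_24.one).U mrU2_kt (nat_lit 27)) (nat_lit 0) (nat_lit 27) = true := by decide +kernel
theorem mrU3_ok : mrU3.ok a2_24.mul Nat.beq a2_24.one = true := by decide +kernel
theorem mrU3_next : mrU3.nextOK a2_24.mul a2_24.one mrU4_g (nat_lit 0x0) = true := by decide +kernel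
theorem mrU3_fx : allL mrU3_fix mrU4_g = true := by decide +kernel

end H29
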