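import Cfsg.Agent.H29.Mr2D

set_option autoImplicit false
set_option maxRecDepth 100000
set_option linter.style.haveILetI false
set_option linter.unusedVariables false
set_option linter.style.longLine false
set_option linter.unusedTactic false
set_option linter.unreachableTactic false

namespace H29

theorem mrU3_s_0 : allR (schk a2_24.mul Nat.beq a2_24.one mrU3_g (mrU3.lv a2_24.mul a2_24.one) mrU4_ls) (nat_lit 0) (nat_lit 6) = true := by decide +kernel
theorem mrU3_k_0 : allR (kchk mrU3_key (mrU3.lv a2_24.mul a2_24.one).U mrU3_kt (nat_lit 6)) (nat_lit 0) (nat_lit 6) = true := by decide +kernel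
theorem mrU4_ok : mrU4.ok a2_24.mul Nat.beq a2_24.one = true := by decide +kernel
theorem mrU4_next : mrU4.nextOK a2_24.mul a2_24.one mrU5_g (nat_lit 0x0) = true := by decide +kernel
theorem mrU4_fx : allL mrU4_fix mrU5_g = true := by decide +kernel
theorem mrU4_s_0 : allR (schk a2_24.mul Nat.beq a2_24.one mrU4_g (mrU4.lv a2_24.mul a2_24.one) mrU5_ls) (nat_lit 0) (nat_lit 3) = true := by decide +kernel
theorem mrU4_k_0 : allR (kchk mrU4_key (mrU4.lv a2_24.mul a2_24.one).U mrU4_kt (nat_lit 3)) (nat_lit 0) (nat_lit 3) = true := by decide +kernel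
theorem mrW1_ok : mrW1.ok a2_24.mul Nat.beq a2_24.one = true := by decide +kernel
theorem mrW1_next : mrW1.nextOK a2_24.mul a2_24.one mrW2_g (nat_lit 0x2000001000007000002000000000004) = true := by decide +kernel
theorem mrW1_fx : allL mrW1_fix mrW2_g = true := by decide +kernel
theorem mrW1_s_0 : allR (schk a2_24.mul Nat.beq a2_24.one mrW1_g (mrW1.lv a2_24.mul a2_24.one) mrW2_ls) (nat_lit 0) (nat_lit 10) = true := by decide +kernel
theorem mrW1_k_0 : allR (kchk mrW1_key (mrW1.lv a2_24.mul a2_24.one).U mrW1_kt (nat_lit 10)) (nat_lit 0) (nat_lit 10) = true := by decide +kernel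
theorem mrW2_ok : mrW2.ok a2_24.mul Nat.beq a2_24.one = true := by decide +kernel
theorem mrW2_next : mrW2.nextOK a2_24.mul a2_24.one mrW3_g (nat_lit 0x1000001000000000001000000000000000000000001000001) = true := by decide +kernel
theorem mrW2_fx : allL mrW2_fix mrW3_g = true := by decide +kernel
theorem mrW2_s_0 : allR (schk a2_24.mul Nat.beq a2_24.one mrW2_g (mrW2.lv a2_24.mul a2_24.one) mrW3_ls) (nat_lit 0) (nat_lit 2) = true := by decide +kernel
theorem mrW2_k_0 : allR (kchk mrW2_key (mrW2.lv a2_24.mul a2_24.one).U mrW2_kt (nat_lit 2)) (nat_lit 0) (nat_lit 2) = true := by decide +kernel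
theorem mrW3_ok : mrW3.ok a2_24.mul Nat.beq a2_24.one = true := by decide +kernel
theorem mrW3_next : mrW3.nextOK a2_24.mul a2_24.one mrW4_g (nat_lit 0x0) = true := by decide +kernel
theorem mrW3_fx : allL mrW3_fix mrW4_g = true := by decide +kernel
theorem mrW3_s_0 : allR (schk a2_24.mul Nat.beq a2_24.one mrW3_g (mrW3.lv a2_24.mul a2_24.one) mrW4_ls) (nat_lit 0) (nat_lit 6) = true := by decide +kernel
theorem mrW3_k_0 : allR (kchk mrW3_key (mrW3.lv a2_24.mul a2_24.one).U mrW3_kt (nat_lit 6)) (nat_lit 0) (nat_lit 6) = true := by decide +kernel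
theorem mrW4_ok : mrW4.ok a2_24.mul Nat.beq a2_24.one = true := by decide +kernel
theorem mrW4_next : mrW4.nextOK a2_24.mul a2_24.one mrW5_g (nat_lit 0x0) = true := by decide +kernel
theorem mrW4_fx : allL mrW4_fix mrW5_g = true := by decide +kernel
theorem mrW4_s_0 : allR (schk a2_24.mul Nat.beq a2_24.one mrW4_g (mrW4.lv a2_24.mul a2_24.one) mrW5_ls) (nat_lit 0) (nat_lit 3) = true := by decide +kernel
theorem mrW4_k_0 : allR (kchk mrW4_key (mrW4.lv a2_24.mul a2_24.one).U mrW4_kt (nat_lit 3)) (nat_lit 0) (nat_lit 3) = true := by decide +kernel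
theorem mrC1_ok : mrC1.ok a2_24.mul Nat.beq a2_24.one = true := by decide +kernel
theorem mrC1_next : mrC1.nextOK a2_24.mul a2_24.one mrC2_g (nat_lit 0x1000001000001000004000006000004) = true := by decide +kernel
theorem mrC1_fx : allL mrC1_fix mrC2_g = true := by decide +kernel
theorem mrC1_s_0 : allR (schk a2_24.mul Nat.beq a2_24.one mrC1_g (mrC1.lv a2_24.mul a2_24.one) mrC2_ls) (nat_lit 0) (nat_lit 6) = true := by decide +kernel
theorem mrC1_k_0 : allR (kchk mrC1_key (mrC1.lv a2_24.mul a2_24.one).U mrC1_kt (nat_lit 6)) (nat_lit 0) (nat_lit 6) = true := by decide +kernel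
theorem mrC2_ok : mrC2.ok a2_24.mul Nat.beq a2_24.one = true := by decide +kernel
theorem mrC2_next : mrC2.nextOK a2_24.mul a2_24.one mrC3_g (nat_lit 0x1000000000000000000000004000001) = true := by decide +kernel
theorem mrC2_fx : allL mrC2_fix mrC3_g = true := by decide +kernel
theorem mrC2_s_0 : allR (schk a2_24.mul Nat.beq a2_24.one mrC2_g (mrC2.lv a2_24.mul a2_24.one) mrC3_ls) (nat_lit 0) (nat_lit 2) = true := by decide +kernel

end H29
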