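import Cfsg.Agent.H29.Mr2D

set_option autoImplicit false
set_option maxRecDepth 100000
set_option linter.style.haveILetI false
set_option linter.unusedVariables false
set_option linter.style.longLine false
set_option linter.unusedTactic false
set_option linter.unreachableTactic false

namespace H29

theorem mrC2_k_0 : allR (kchk mrC2_key (mrC2.lv a2_24.mul a2_24.one).U mrC2_kt (nat_lit 2)) (nat_lit 0) (nat_lit 2) = true := by decide +kernel
theorem mrC3_ok : mrC3.ok a2_24.mul Nat.beq a2_24.one = true := by decide +kernel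
theorem mrC3_next : mrC3.nextOK a2_24.mul a2_24.one mrC4_g (nat_lit 0x1000000) = true := by decide +kernel
theorem mrC3_fx : allL mrC3_fix mrC4_g = true := by decide +kernel
theorem mrC3_s_0 : allR (schk a2_24.mul Nat.beq a2_24.one mrC3_g (mrC3.lv a2_24.mul a2_24.one) mrC4_ls) (nat_lit 0) (nat_lit 3) = true := by decide +kernel
theorem mrC3_k_0 : allR (kchk mrC3_key (mrC3.lv a2_24.mul a2_24.one).U mrC3_kt (nat_lit 3)) (nat_lit 0) (nat_lit 3) = true := by decide +kernel
theorem mrC4_ok : mrC4.ok a2_24.mul Nat.beq a2_24.one = true := by decide +kernel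
theorem mrC4_next : mrC4.nextOK a2_24.mul a2_24.one mrC5_g (nat_lit 0x0) = true := by decide +kernel
theorem mrC4_fx : allL mrC4_fix mrC5_g = true := by decide +kernel
theorem mrC4_s_0 : allR (schk a2_24.mul Nat.beq a2_24.one mrC4_g (mrC4.lv a2_24.mul a2_24.one) mrC5_ls) (nat_lit 0) (nat_lit 2) = true := by decide +kernel
theorem mrC4_k_0 : allR (kchk mrC4_key (mrC4.lv a2_24.mul a2_24.one).U mrC4_kt (nat_lit 2)) (nat_lit 0) (nat_lit 2) = true := by decide +kernel
theorem mrP1_ok : mrP1.ok a2_24.mul Nat.beq a2_24.one = true := by decide +kernel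
theorem mrP1_next : mrP1.nextOK a2_24.mul a2_24.one mrP2_g (nat_lit 0x1000009000000000001000006000002000000000001000002000002000009000001) = true := by decide +kernel
theorem mrP1_fx : allL mrP1_fix mrP2_g = true := by decide +kernel
theorem mrP1_s_0 : allR (schk a2_24.mul Nat.beq a2_24.one mrP1_g (mrP1.lv a2_24.mul a2_24.one) mrP2_ls) (nat_lit 0) (nat_lit 3) = true := by decide +kernel
theorem mrP1_k_0 : allR (kchk mrP1_key (mrP1.lv a2_24.mul a2_24.one).U mrP1_kt (nat_lit 3)) (nat_lit 0) (nat_lit 3) = true := by decide +kernel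
theorem mrP2_ok : mrP2.ok a2_24.mul Nat.beq a2_24.one = true := by decide +kernel
theorem mrP2_next : mrP2.nextOK a2_24.mul a2_24.one mrP3_g (nat_lit 0x1000000000000f000017000001000005) = true := by decide +kernel
theorem mrP2_fx : allL mrP2_fix mrP3_g = true := by decide +kernel
theorem mrP2_s_0 : allR (schk a2_24.mul Nat.beq a2_24.one mrP2_g (mrP2.lv a2_24.mul a2_24.one) mrP3_ls) (nat_lit 0) (nat_lit 27) = true := by decide +kernel
theorem mrP2_k_0 : allR (kchk mrP2_key (mrP2.lv a2_24.mul a2_24.one).U mrP2_kt (nat_lit 27)) (nat_lit 0) (nat_lit 27) = true := by decide +kernel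
theorem mrP3_ok : mrP3.ok a2_24.mul Nat.beq a2_24.one = true := by decide +kernel
theorem mrP3_next : mrP3.nextOK a2_24.mul a2_24.one mrP4_g (nat_lit 0x1000001) = true := by decide +kernel
theorem mrP3_fx : allL mrP3_fix mrP4_g = true := by decide +kernel
theorem mrP3_s_0 : allR (schk a2_24.mul Nat.beq a2_24.one mrP3_g (mrP3.lv a2_24.mul a2_24.one) mrP4_ls) (nat_lit 0) (nat_lit 3) = true := by decide +kernel
theorem mrP3_k_0 : allR (kchk mrP3_key (mrP3.lv a2_24.mul a2_24.one).U mrP3_kt (nat_lit 3)) (nat_lit 0) (nat_lit 3) = true := by decide +kernel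
theorem mrP4_ok : mrP4.ok a2_24.mul Nat.beq a2_24.one = true := by decide +kernel
theorem mrP4_next : mrP4.nextOK a2_24.mul a2_24.one mrP5_g (nat_lit 0x0) = true := by decide +kernel
theorem mrP4_fx : allL mrP4_fix mrP5_g = true := by decide +kernel
theorem mrP4_s_0 : allR (schk a2_24.mul Nat.beq a2_24.one mrP4_g (mrP4.lv a2_24.mul a2_24.one) mrP5_ls) (nat_lit 0) (nat_lit 3) = true := by decide +kernel
theorem mrP4_k_0 : allR (kchk mrP4_key (mrP4.lv a2_24.mul a2_24.one).U mrP4_kt (nat_lit 3)) (nat_lit 0) (nat_lit 3) = true := by decide +kernel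
theorem mrB1_ok : mrB1.ok a2_24.mul Nat.beq a2_24.one = true := by decide +kernel
theorem mrB1_next : mrB1.nextOK a2_24.mul a2_24.one mrB2_g (nat_lit 0xc00000200000100000c000001000002000002000000) = true := by decide +kernel
theorem mrB1_fx : allL mrB1_fix mrB2_g = true := by decide +kernel
theorem mrB1_s_0 : allR (schk a2_24.mul Nat.beq a2_24.one mrB1_g (mrB1.lv a2_24.mul a2_24.one) mrB2_ls) (nat_lit 0) (nat_lit 3) = true := by decide +kernel
theorem mrB1_k_0 : allR (kchk mrB1_key (mrB1.lv a2_24.mul a2_24.one).U mrB1_kt (nat_lit 3)) (nat_lit 0) (nat_lit 3) = true := by decide +kernel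

end H29
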