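import Cfsg.Agent.H29.Mr2D

set_option autoImplicit false
set_option maxRecDepth 100000
set_option linter.style.haveILetI false
set_option linter.unusedVariables false
set_option linter.style.longLine false
set_option linter.unusedTactic false
set_option linter.unreachableTactic false

namespace H29

theorem mrB2_ok : mrB2.ok a2_24.mul Nat.beq a2_24.one = true := by decide +kernel
theorem mrB2_next : mrB2.nextOK a2_24.mul a2_24.one mrB3_g (nat_lit 0x1000002000002000013000005000015) = true := by decide +kernel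
theorem mrB2_fx : allL mrB2_fix mrB3_g = true := by decide +kernel
theorem mrB2_s_0 : allR (schk a2_24.mul Nat.beq a2_24.one mrB2_g (mrB2.lv a2_24.mul a2_24.one) mrB3_ls) (nat_lit 0) (nat_lit 27) = true := by decide +kernel
theorem mrB2_k_0 : allR (kchk mrB2_key (mrB2.lv a2_24.mul a2_24.one).U mrB2_kt (nat_lit 27)) (nat_lit 0) (nat_lit 27) = true := by decide +kernel
theorem mrB3_ok : mrB3.ok a2_24.mul Nat.beq a2_24.one = true := by decide +kernel
theorem mrB3_next : mrB3.nextOK a2_24.mul a2_24.one mrB4_g (nat_lit 0x1000000000001000000000000000000000000000004000001) = true := by decide +kernel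
theorem mrB3_fx : allL mrB3_fix mrB4_g = true := by decide +kernel
theorem mrB3_s_0 : allR (schk a2_24.mul Nat.beq a2_24.one mrB3_g (mrB3.lv a2_24.mul a2_24.one) mrB4_ls) (nat_lit 0) (nat_lit 2) = true := by decide +kernel
theorem mrB3_k_0 : allR (kchk mrB3_key (mrB3.lv a2_24.mul a2_24.one).U mrB3_kt (nat_lit 2)) (nat_lit 0) (nat_lit 2) = true := by decide +kernel
theorem mrB4_ok : mrB4.ok a2_24.mul Nat.beq a2_24.one = true := by decide +kernel
theorem mrB4_next : mrB4.nextOK a2_24.mul a2_24.one mrB5_g (nat_lit 0x4000000000004) = true := by decide +kernel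
theorem mrB4_fx : allL mrB4_fix mrB5_g = true := by decide +kernel
theorem mrB4_s_0 : allR (schk a2_24.mul Nat.beq a2_24.one mrB4_g (mrB4.lv a2_24.mul a2_24.one) mrB5_ls) (nat_lit 0) (nat_lit 6) = true := by decide +kernel
theorem mrB4_k_0 : allR (kchk mrB4_key (mrB4.lv a2_24.mul a2_24.one).U mrB4_kt (nat_lit 6)) (nat_lit 0) (nat_lit 6) = true := by decide +kernel
theorem mrB5_ok : mrB5.ok a2_24.mul Nat.beq a2_24.one = true := by decide +kernel
theorem mrB5_next : mrB5.nextOK a2_24.mul a2_24.one mrB6_g (nat_lit 0x0) = true := by decide +kernel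
theorem mrB5_fx : allL mrB5_fix mrB6_g = true := by decide +kernel
theorem mrB5_s_0 : allR (schk a2_24.mul Nat.beq a2_24.one mrB5_g (mrB5.lv a2_24.mul a2_24.one) mrB6_ls) (nat_lit 0) (nat_lit 3) = true := by decide +kernel
theorem mrB5_k_0 : allR (kchk mrB5_key (mrB5.lv a2_24.mul a2_24.one).U mrB5_kt (nat_lit 3)) (nat_lit 0) (nat_lit 3) = true := by decide +kernel
theorem mrA1_ok : mrA1.ok a2_24.mul Nat.beq a2_24.one = true := by decide +kernel
theorem mrA1_next : mrA1.nextOK a2_24.mul a2_24.one mrA2_g (nat_lit 0x1000000000003000000000002000000) = true := by decide +kernel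
theorem mrA1_fx : allL mrA1_fix mrA2_g = true := by decide +kernel
theorem mrA1_s_0 : allR (schk a2_24.mul Nat.beq a2_24.one mrA1_g (mrA1.lv a2_24.mul a2_24.one) mrA2_ls) (nat_lit 0) (nat_lit 4) = true := by decide +kernel
theorem mrA1_k_0 : allR (kchk mrA1_key (mrA1.lv a2_24.mul a2_24.one).U mrA1_kt (nat_lit 4)) (nat_lit 0) (nat_lit 4) = true := by decide +kernel
theorem mrA2_ok : mrA2.ok a2_24.mul Nat.beq a2_24.one = true := by decide +kernel
theorem mrA2_next : mrA2.nextOK a2_24.mul a2_24.one mrA3_g (nat_lit 0x1000000000002000001000001000002000006000001) = true := by decide +kernel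
theorem mrA2_fx : allL mrA2_fix mrA3_g = true := by decide +kernel
theorem mrA2_s_0 : allR (schk a2_24.mul Nat.beq a2_24.one mrA2_g (mrA2.lv a2_24.mul a2_24.one) mrA3_ls) (nat_lit 0) (nat_lit 3) = true := by decide +kernel
theorem mrA2_k_0 : allR (kchk mrA2_key (mrA2.lv a2_24.mul a2_24.one).U mrA2_kt (nat_lit 3)) (nat_lit 0) (nat_lit 3) = true := by decide +kernel
theorem mrA3_ok : mrA3.ok a2_24.mul Nat.beq a2_24.one = true := by decide +kernel
theorem mrA3_next : mrA3.nextOK a2_24.mul a2_24.one mrA4_g (nat_lit 0x6000001000001000006000000000000000004000001000000000006000001000001000002000000000000000002000001) = true := by decide +kernel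
theorem mrA3_fx : allL mrA3_fix mrA4_g = true := by decide +kernel
theorem mrA3_s_0 : allR (schk a2_24.mul Nat.beq a2_24.one mrA3_g (mrA3.lv a2_24.mul a2_24.one) mrA4_ls) (nat_lit 0) (nat_lit 2) = true := by decide +kernel
theorem mrA3_k_0 : allR (kchk mrA3_key (mrA3.lv a2_24.mul a2_24.one).U mrA3_kt (nat_lit 2)) (nat_lit 0) (nat_lit 2) = true := by decide +kernel
theorem mrA4_ok : mrA4.ok a2_24.mul Nat.beq a2_24.one = true := by decide +kernel
theorem mrA4_next : mrA4.nextOK a2_24.mul a2_24.one mrA5_g (nat_lit 0xf000004000015000013000000000009000006000002000010) = true := by decide +kernel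
theorem mrA4_fx : allL mrA4_fix mrA5_g = true := by decide +kernel

end H29
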