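import Cfsg.Agent.H29.Mr2D

set_option autoImplicit false
set_option maxRecDepth 100000
set_option linter.style.haveILetI false
set_option linter.unusedVariables false
set_option linter.style.longLine false
set_option linter.unusedTactic false
set_option linter.unreachableTactic false

namespace H29

theorem mrA4_s_0 : allR (schk a2_24.mul Nat.beq a2_24.one mrA4_g (mrA4.lv a2_24.mul a2_24.one) mrA5_ls) (nat_lit 0) (nat_lit 27) = true := by decide +kernel
theorem mrA4_k_0 : allR (kchk mrA4_key (mrA4.lv a2_24.mul a2_24.one).U mrA4_kt (nat_lit 27)) (nat_lit 0) (nat_lit 27) = true := by decide +kernel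
theorem mrA5_ok : mrA5.ok a2_24.mul Nat.beq a2_24.one = true := by decide +kernel
theorem mrA5_next : mrA5.nextOK a2_24.mul a2_24.one mrA6_g (nat_lit 0x5000004000005) = true := by decide +kernel
theorem mrA5_fx : allL mrA5_fix mrA6_g = true := by decide +kernel
theorem mrA5_s_0 : allR (schk a2_24.mul Nat.beq a2_24.one mrA5_g (mrA5.lv a2_24.mul a2_24.one) mrA6_ls) (nat_lit 0) (nat_lit 6) = true := by decide +kernel
theorem mrA5_k_0 : allR (kchk mrA5_key (mrA5.lv a2_24.mul a2_24.one).U mrA5_kt (nat_lit 6)) (nat_lit 0) (nat_lit 6) = true := by decide +kernel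
theorem mrA6_ok : mrA6.ok a2_24.mul Nat.beq a2_24.one = true := by decide +kernel
theorem mrA6_next : mrA6.nextOK a2_24.mul a2_24.one mrA7_g (nat_lit 0x0) = true := by decide +kernel
theorem mrA6_fx : allL mrA6_fix mrA7_g = true := by decide +kernel
theorem mrA6_s_0 : allR (schk a2_24.mul Nat.beq a2_24.one mrA6_g (mrA6.lv a2_24.mul a2_24.one) mrA7_ls) (nat_lit 0) (nat_lit 3) = true := by decide +kernel
theorem mrA6_k_0 : allR (kchk mrA6_key (mrA6.lv a2_24.mul a2_24.one).U mrA6_kt (nat_lit 3)) (nat_lit 0) (nat_lit 3) = true := by decide +kernel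
theorem mrL1_ok : mrL1.ok a2_24.mul Nat.beq a2_24.one = true := by decide +kernel
theorem mrL1_next : mrL1.nextOK a2_24.mul a2_24.one mrL2_g (nat_lit 0x800000100002d00000500000100000e) = true := by decide +kernel
theorem mrL1_fx : allL mrL1_fix mrL2_g = true := by decide +kernel
theorem mrL1_s_0 : allR (schk a2_24.mul Nat.beq a2_24.one mrL1_g (mrL1.lv a2_24.mul a2_24.one) mrL2_ls) (nat_lit 0) (nat_lit 56) = true := by decide +kernel
theorem mrL1_k_0 : allR (kchk mrL1_key (mrL1.lv a2_24.mul a2_24.one).U mrL1_kt (nat_lit 56)) (nat_lit 0) (nat_lit 56) = true := by decide +kernel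
theorem mrL2_ok : mrL2.ok a2_24.mul Nat.beq a2_24.one = true := by decide +kernel
theorem mrL2_next : mrL2.nextOK a2_24.mul a2_24.one mrL3_g (nat_lit 0x1000000000006000008000000000003) = true := by decide +kernel
theorem mrL2_fx : allL mrL2_fix mrL3_g = true := by decide +kernel
theorem mrL2_s_0 : allR (schk a2_24.mul Nat.beq a2_24.one mrL2_g (mrL2.lv a2_24.mul a2_24.one) mrL3_ls) (nat_lit 0) (nat_lit 10) = true := by decide +kernel
theorem mrL2_k_0 : allR (kchk mrL2_key (mrL2.lv a2_24.mul a2_24.one).U mrL2_kt (nat_lit 10)) (nat_lit 0) (nat_lit 10) = true := by decide +kernel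
theorem mrL3_ok : mrL3.ok a2_24.mul Nat.beq a2_24.one = true := by decide +kernel
theorem mrL3_next : mrL3.nextOK a2_24.mul a2_24.one mrL4_g (nat_lit 0x2000000000000000000000000000001000000000001) = true := by decide +kernel
theorem mrL3_fx : allL mrL3_fix mrL4_g = true := by decide +kernel
theorem mrL3_s_0 : allR (schk a2_24.mul Nat.beq a2_24.one mrL3_g (mrL3.lv a2_24.mul a2_24.one) mrL4_ls) (nat_lit 0) (nat_lit 2) = true := by decide +kernel
theorem mrL3_k_0 : allR (kchk mrL3_key (mrL3.lv a2_24.mul a2_24.one).U mrL3_kt (nat_lit 2)) (nat_lit 0) (nat_lit 2) = true := by decide +kernel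
theorem mrL4_ok : mrL4.ok a2_24.mul Nat.beq a2_24.one = true := by decide +kernel
theorem mrL4_next : mrL4.nextOK a2_24.mul a2_24.one mrL5_g (nat_lit 0x1000000000001) = true := by decide +kernel
theorem mrL4_fx : allL mrL4_fix mrL5_g = true := by decide +kernel
theorem mrL4_s_0 : allR (schk a2_24.mul Nat.beq a2_24.one mrL4_g (mrL4.lv a2_24.mul a2_24.one) mrL5_ls) (nat_lit 0) (nat_lit 9) = true := by decide +kernel
theorem mrL4_k_0 : allR (kchk mrL4_key (mrL4.lv a2_24.mul a2_24.one).U mrL4_kt (nat_lit 9)) (nat_lit 0) (nat_lit 9) = true := by decide +kernel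
theorem mrL5_ok : mrL5.ok a2_24.mul Nat.beq a2_24.one = true := by decide +kernel
theorem mrL5_next : mrL5.nextOK a2_24.mul a2_24.one mrL6_g (nat_lit 0x0) = true := by decide +kernel
theorem mrL5_fx : allL mrL5_fix mrL6_g = true := by decide +kernel
theorem mrL5_s_0 : allR (schk a2_24.mul Nat.beq a2_24.one mrL5_g (mrL5.lv a2_24.mul a2_24.one) mrL6_ls) (nat_lit 0) (nat_lit 2) = true := by decide +kernel

end H29
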