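import Cfsg.Agent.H29.Mr2D

set_option autoImplicit false
set_option maxRecDepth 100000
set_option linter.style.haveILetI false
set_option linter.unusedVariables false
set_option linter.style.longLine false
set_option linter.unusedTactic false
set_option linter.unreachableTactic false

namespace H29

theorem mrL5_k_0 : allR (kchk mrL5_key (mrL5.lv a2_24.mul a2_24.one).U mrL5_kt (nat_lit 2)) (nat_lit 0) (nat_lit 2) = true := by decide +kernel
theorem mrD1_0 : Nat.beq (dcU2 a2_24.mul a2_24.one mrJ1_ls mrD1_x mrD1_ms 0) a2_24.one = true := by decide +kernel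
theorem mrD1_dc_0 : allR (dcAt2 a2_24.mul Nat.beq a2_24.one mrJ1_ls mrJ1_ls mrD1_x mrX1_g mrD1_ms mrD1_tb (nat_lit 112)) (nat_lit 0) (nat_lit 60) = true := by decide +kernel
theorem mrD1_dc_1 : allR (dcAt2 a2_24.mul Nat.beq a2_24.one mrJ1_ls mrJ1_ls mrD1_x mrX1_g mrD1_ms mrD1_tb (nat_lit 112)) (nat_lit 60) (nat_lit 52) = true := by decide +kernel
theorem mrD4_0 : Nat.beq (dcU2 a2_24.mul a2_24.one mrC1_ls mrD4_x mrD4_ms 0) a2_24.one = true := by decide +kernel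
theorem mrD4_dc_0 : allR (dcAt2 a2_24.mul Nat.beq a2_24.one mrC1_ls mrC1_ls mrD4_x mrJ1_g mrD4_ms mrD4_tb (nat_lit 405)) (nat_lit 0) (nat_lit 100) = true := by decide +kernel
theorem mrD4_dc_1 : allR (dcAt2 a2_24.mul Nat.beq a2_24.one mrC1_ls mrC1_ls mrD4_x mrJ1_g mrD4_ms mrD4_tb (nat_lit 405)) (nat_lit 100) (nat_lit 100) = true := by decide +kernel
theorem mrD4_dc_2 : allR (dcAt2 a2_24.mul Nat.beq a2_24.one mrC1_ls mrC1_ls mrD4_x mrJ1_g mrD4_ms mrD4_tb (nat_lit 405)) (nat_lit 200) (nat_lit 100) = true := by decide +kernel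
theorem mrD4_dc_3 : allR (dcAt2 a2_24.mul Nat.beq a2_24.one mrC1_ls mrC1_ls mrD4_x mrJ1_g mrD4_ms mrD4_tb (nat_lit 405)) (nat_lit 300) (nat_lit 100) = true := by decide +kernel
theorem mrD4_dc_4 : allR (dcAt2 a2_24.mul Nat.beq a2_24.one mrC1_ls mrC1_ls mrD4_x mrJ1_g mrD4_ms mrD4_tb (nat_lit 405)) (nat_lit 400) (nat_lit 5) = true := by decide +kernel
theorem mrD6_0 : Nat.beq (dcU2 a2_24.mul a2_24.one mrJ1_ls mrD6_x mrD6_ms 0) a2_24.one = true := by decide +kernel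
theorem mrD6_dc_0 : allR (dcAt2 a2_24.mul Nat.beq a2_24.one mrJ1_ls mrL1_ls mrD6_x mrX1_g mrD6_ms mrD6_tb (nat_lit 162)) (nat_lit 0) (nat_lit 60) = true := by decide +kernel
theorem mrD6_dc_1 : allR (dcAt2 a2_24.mul Nat.beq a2_24.one mrJ1_ls mrL1_ls mrD6_x mrX1_g mrD6_ms mrD6_tb (nat_lit 162)) (nat_lit 60) (nat_lit 60) = true := by decide +kernel
theorem mrD6_dc_2 : allR (dcAt2 a2_24.mul Nat.beq a2_24.one mrJ1_ls mrL1_ls mrD6_x mrX1_g mrD6_ms mrD6_tb (nat_lit 162)) (nat_lit 120) (nat_lit 42) = true := by decide +kernel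
theorem mrD2_0 : Nat.beq (dcU2 a2_24.mul a2_24.one mrP1_ls mrD2_x mrD2_ms 0) a2_24.one = true := by decide +kernel
theorem mrD2_dc_0 : allR (dcAt2 a2_24.mul Nat.beq a2_24.one mrP1_ls mrB1_ls mrD2_x mrX1_g mrD2_ms mrD2_tb (nat_lit 1120)) (nat_lit 0) (nat_lit 80) = true := by decide +kernel
theorem mrD2_dc_1 : allR (dcAt2 a2_24.mul Nat.beq a2_24.one mrP1_ls mrB1_ls mrD2_x mrX1_g mrD2_ms mrD2_tb (nat_lit 1120)) (nat_lit 80) (nat_lit 80) = true := by decide +kernel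
theorem mrD2_dc_2 : allR (dcAt2 a2_24.mul Nat.beq a2_24.one mrP1_ls mrB1_ls mrD2_x mrX1_g mrD2_ms mrD2_tb (nat_lit 1120)) (nat_lit 160) (nat_lit 80) = true := by decide +kernel
theorem mrD2_dc_3 : allR (dcAt2 a2_24.mul Nat.beq a2_24.one mrP1_ls mrB1_ls mrD2_x mrX1_g mrD2_ms mrD2_tb (nat_lit 1120)) (nat_lit 240) (nat_lit 80) = true := by decide +kernel
theorem mrD2_dc_4 : allR (dcAt2 a2_24.mul Nat.beq a2_24.one mrP1_ls mrB1_ls mrD2_x mrX1_g mrD2_ms mrD2_tb (nat_lit 1120)) (nat_lit 320) (nat_lit 80) = true := by decide +kernel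
theorem mrD2_dc_5 : allR (dcAt2 a2_24.mul Nat.beq a2_24.one mrP1_ls mrB1_ls mrD2_x mrX1_g mrD2_ms mrD2_tb (nat_lit 1120)) (nat_lit 400) (nat_lit 80) = true := by decide +kernel
theorem mrD2_dc_6 : allR (dcAt2 a2_24.mul Nat.beq a2_24.one mrP1_ls mrB1_ls mrD2_x mrX1_g mrD2_ms mrD2_tb (nat_lit 1120)) (nat_lit 480) (nat_lit 80) = true := by decide +kernel

end H29
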