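import Cfsg.Agent.H29.Mr2D

set_option autoImplicit false
set_option maxRecDepth 100000
set_option linter.style.haveILetI false
set_option linter.unusedVariables false
set_option linter.style.longLine false
set_option linter.unusedTactic false
set_option linter.unreachableTactic false

namespace H29

theorem mrD2_dc_7 : allR (dcAt2 a2_24.mul Nat.beq a2_24.one mrP1_ls mrB1_ls mrD2_x mrX1_g mrD2_ms mrD2_tb (nat_lit 1120)) (nat_lit 560) (nat_lit 80) = true := by decide +kernel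
theorem mrD2_dc_8 : allR (dcAt2 a2_24.mul Nat.beq a2_24.one mrP1_ls mrB1_ls mrD2_x mrX1_g mrD2_ms mrD2_tb (nat_lit 1120)) (nat_lit 640) (nat_lit 80) = true := by decide +kernel
theorem mrD2_dc_9 : allR (dcAt2 a2_24.mul Nat.beq a2_24.one mrP1_ls mrB1_ls mrD2_x mrX1_g mrD2_ms mrD2_tb (nat_lit 1120)) (nat_lit 720) (nat_lit 80) = true := by decide +kernel
theorem mrD2_dc_10 : allR (dcAt2 a2_24.mul Nat.beq a2_24.one mrP1_ls mrB1_ls mrD2_x mrX1_g mrD2_ms mrD2_tb (nat_lit 1120)) (nat_lit 800) (nat_lit 80) = true := by decide +kernel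
theorem mrD2_dc_11 : allR (dcAt2 a2_24.mul Nat.beq a2_24.one mrP1_ls mrB1_ls mrD2_x mrX1_g mrD2_ms mrD2_tb (nat_lit 1120)) (nat_lit 880) (nat_lit 80) = true := by decide +kernel
theorem mrD2_dc_12 : allR (dcAt2 a2_24.mul Nat.beq a2_24.one mrP1_ls mrB1_ls mrD2_x mrX1_g mrD2_ms mrD2_tb (nat_lit 1120)) (nat_lit 960) (nat_lit 80) = true := by decide +kernel
theorem mrD2_dc_13 : allR (dcAt2 a2_24.mul Nat.beq a2_24.one mrP1_ls mrB1_ls mrD2_x mrX1_g mrD2_ms mrD2_tb (nat_lit 1120)) (nat_lit 1040) (nat_lit 80) = true := by decide +kernel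
theorem mrD3_0 : Nat.beq (dcU2 a2_24.mul a2_24.one [] mrD3_x mrD3_ms 0) a2_24.one = true := by decide +kernel
theorem mrD3_dc_0 : allR (dcAt2 a2_24.mul Nat.beq a2_24.one [] mrP1_ls mrD3_x mrB1_g mrD3_ms mrD3_tb (nat_lit 4)) (nat_lit 0) (nat_lit 4) = true := by decide +kernel
theorem mr_ov_0 : allR (ov4At a2_24.mul Nat.beq a2_24.one mrJ1_ls mrA1_ls mrD2_x mrD3_x mrP1_g mrX1_g 4 mr_W) (nat_lit 0) (nat_lit 16) = true := by decide +kernel
theorem mr_ov_1 : allR (ov4At a2_24.mul Nat.beq a2_24.one mrJ1_ls mrA1_ls mrD2_x mrD3_x mrP1_g mrX1_g 4 mr_W) (nat_lit 16) (nat_lit 16) = true := by decide +kernel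
theorem mr_PJ : allL (sift a2_24.mul Nat.beq a2_24.one mrJ1_ls) mrP1_g = true := by decide +kernel
theorem mr_PA : allL (sift a2_24.mul Nat.beq a2_24.one mrA1_ls) mrP1_g = true := by decide +kernel
theorem mr_UJ : allL (sift a2_24.mul Nat.beq a2_24.one mrJ1_ls) mrU1_g = true := by decide +kernel
theorem mr_cU : cjIn a2_24.mul Nat.beq a2_24.one mrJ1_ls (lgetD a2_24.one mrD1_x 0) mrU1_g [22, 19, 13810] [7, 2580, 5396] = true := by decide +kernel
theorem mr_cW : cjIn a2_24.mul Nat.beq a2_24.one mrJ1_ls (lgetD a2_24.one mrD1_x 1) mrW1_g [12342, 16927] [10642, 2532] = true := by decide +kernel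
theorem mr_tU : cjIn a2_24.mul Nat.beq a2_24.one mrU1_ls mr_ti mrU1_g [1, 2, 500] [25, 650, 4] = true := by decide +kernel
theorem mr_NU : allL (sift a2_24.mul Nat.beq a2_24.one mrU1_ls) mr_NL = true := by decide +kernel
theorem mr_aU_0 : allR (fun j => force ((mrU1.lv a2_24.mul a2_24.one).U j) (allC a2_24.mul mr_fU mrU2_ls)) (nat_lit 0) (nat_lit 1) = true := by decide +kernel
theorem mr_aU_1 : allR (fun j => force ((mrU1.lv a2_24.mul a2_24.one).U j) (allC a2_24.mul mr_fU mrU2_ls)) (nat_lit 1) (nat_lit 1) = true := by decide +kernel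
theorem mr_twok : all1 (fun i => all1 (mr_twAt i) 0 3) 0 3 = true := by decide +kernel
theorem mr_gw : wdsOK a2_24.mul a2_24.one cMc_g [nat_lit 0x1003000001000002, nat_lit 0x1005000004] (mr_s :: mr_tp :: mr_xl) = true := by decide +kernel

end H29
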