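import Cfsg.Agent.H29.LM
import Cfsg.Agent.H29.A2x8
import Cfsg.Agent.H29.LM2
import Cfsg.Agent.H29.LMO

set_option autoImplicit false
set_option maxRecDepth 100000
set_option linter.style.haveILetI false
set_option linter.unusedVariables false
set_option linter.style.longLine false
set_option linter.unusedTactic false
set_option linter.unreachableTactic false

namespace H29

noncomputable def o8p2_g : List ℕ := [nat_lit 0xff3f5f4108557d50, nat_lit 0x807520c1ece037d0, nat_lit 0x9b6e3b2508042c34, nat_lit 0x8075767308526134, nat_lit 0x8016b3d5cd520292, nat_lit 0x803420d5cd70b3b0, nat_lit 0x804073a1ea57e0b0]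
noncomputable def o8p2_z : ℕ := (nat_lit 0x8040201008040201)
noncomputable def o8p2_zs : List ℕ := [nat_lit 0x8040201008040201]
noncomputable def o8p21_key : ℕ → ℕ := keyP a2_8.mul (nat_lit 0x1) (nat_lit 256)
noncomputable def o8p21_fix : ℕ → Bool := fixP a2_8.mul (nat_lit 0x1)
theorem o8p2_key {Q : Type*} [Group Q] (q : QM Q a2_8 o8p2_g o8p2_z o8p2_zs) : ∃ St, Key q.M St o8p21_key o8p21_fix :=
  q.keyP _ _ (by decide +kernel)
noncomputable def o8p2v1_key : ℕ → ℕ := keyP a2_8.mul (nat_lit 0x1) (nat_lit 256)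
noncomputable def o8p2v1_fix : ℕ → Bool := fixP a2_8.mul (nat_lit 0x1)
noncomputable def o8p2vT1_g : List ℕ := [nat_lit 0xff3f5f4108557d50, nat_lit 0x807520c1ece037d0, nat_lit 0x9b6e3b2508042c34, nat_lit 0x8075767308526134, nat_lit 0x8016b3d5cd520292, nat_lit 0x803420d5cd70b3b0, nat_lit 0x804073a1ea57e0b0]
noncomputable def o8p2vT1_key : ℕ → ℕ := keyT a2_8.mul o8p2v1_key (nat_lit 0x8040201008040201) (nat_lit 0)
noncomputable def o8p2vT1_kt : ℕ → ℕ := pget (nat_lit 0xfefdfbf8f7f4f2f1edecebeae7e6e1e0dfdddad8d6d4d3d1cfcecdccc3c2c1c0bfbcbbb8b6b5b2b1afaeabaaa5a4a1a09e9c9a989795939187868584838281807f7c7a79777472716f6e6968676661605e5c5b59565453514b4a4948434241403e3d3a39363532312d2c2928252421201f1d1b19171513110f0e0d0c0b0a090807060504030200) (nat_lit 8) (nat_lit 0xff)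
noncomputable def o8p2vT1_bt : ℕ → ℕ := pget (nat_lit 0x8583817f7d7b79777573716f6b6b6b676563615f5d5b59575553514f4f4f4b474543413f3d3b39373533312f2f2b2b272523211f1d1b19171513110f0b070300) (nat_lit 8) (nat_lit 0xff)
noncomputable def o8p2vT1 : LvD where
  n := nat_lit 135
  g := o8p2vT1_g
  T := [nat_lit 0xff3f5f4108557d50, nat_lit 0x807520c1ece037d0, nat_lit 0x9b6e3b2508042c34, nat_lit 0x8075767308526134, nat_lit 0x8016b3d5cd520292, nat_lit 0x803420d5cd70b3b0, nat_lit 0x804073a1ea57e0b0, nat_lit 0xae6e0e6f087b2c7e, nat_lit 0x80a42025d9d5e634, nat_lit 0xae750e0b0804371a, nat_lit 0x8016432508673757, nat_lit 0x808576839bc10257, nat_lit 0x808520a1b9c17675, nat_lit 0x8040c243b9e6b352, nat_lit 0x801676c1d9830286, nat_lit 0xff3fbd12b9b7cc03, nat_lit 0xae6e5ddeea28cecf]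
  ab := nat_lit 0x600700000d00a008006006005005004004003003002002001001000000000000000000000000000000000000000000000000
  ia := nat_lit 0xf00e00d00600c00500b00400a003009002008001007000
  ib := nat_lit 0x700700700700700700700700700700700700700700700700700700700700700700700700700700700700700700700700700700700700700700700700700700700700700700700701000e00600d00500c00400b00300a002009001008000007
  ent := pget (nat_lit 0x5e048473c32d2834638220203472c338243293c30e344462020e0c4423c3322c201082603432f282103c4230c45d2c3641c52f382303826f3c2000817114346282721031b0c6183442f202612c3503021d203183c4073c4350c5062c32f0826f1c2002812e08746082723c3142826f2c2382032024329343603c34e142153861c2c30324442343002010120200381112044e3c221282202c36f342541472f0c2000413a104063c37b20450082002c11830450342142c285204243050a1837738321342011c26f2826c2446e2446608429143001c1323c20034100001732462f1026d38314342171836f202212c2702032d2c35d203181045b2435f382000c12f1c247283221432f3c2461c2642052f2c24230360243503c25d2830510500141213c241182170c3472032930355243693c3562443e1c3462c2333047c3457d0832f182512043234261283602c3003c100000)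 (nat_lit 20) (nat_lit 0xfffff)
  key := o8p2vT1_key
  ks := o8p2vT1_kt
  loc := locB o8p2vT1_key o8p2vT1_kt o8p2vT1_bt (nat_lit 2)

noncomputable def o8p2vT1_fix : ℕ → Bool := fixT a2_8.mul o8p2v1_fix (nat_lit 0x8040201008040201) (nat_lit 0x8040201008040201)

noncomputable def o8p2vT2_g : List ℕ := [nat_lit 0x8040e010eae6c201, nat_lit 0x80d205dcd490201, nat_lit 0x806120d52925e601, nat_lit 0xaec0edf321496101]
noncomputable def o8p2vT2_key : ℕ → ℕ := keyT a2_8.mul o8p2v1_key (nat_lit 0xff69ebd7b9240990) (nat_lit 145)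
noncomputable def o8p2vT2_kt : ℕ → ℕ := pget (nat_lit 0xeeedebe8e6e5e3e0cfcdcac8c7c5c2c0afacaba8a7a4a3a08e8c8a88868482806f6c6a69666563604e4c4b49474542402e2d2a29272423200f0d0b0906040200) (nat_lit 8) (nat_lit 0xff)
noncomputable def o8p2vT2_bt : ℕ → ℕ := pget (nat_lit 0xf38e38d30c30b28a28920820718618510410308208100) (nat_lit 6) (nat_lit 0x3f)
noncomputable def o8p2vT2 : LvD where
  n := nat_lit 64
  g := o8p2vT2_g
  T := [nat_lit 0x8040e010eae6c201, nat_lit 0x80d205dcd490201, nat_lit 0x806120d52925e601, nat_lit 0xaec0edf321496101, nat_lit 0xcd8520d580c10201, nat_lit 0x4a6eea10ece02c01, nat_lit 0xaea40e10c2cee601, nat_lit 0x4a0a09f30f67ab01, nat_lit 0x8040201008040201, nat_lit 0xaecf28f3eb836e01, nat_lit 0xae2cedd5cda5ab01, nat_lit 0xaee62810c2aaa401, nat_lit 0x4a2ccc10ec846e01, nat_lit 0xae6eed5d07e76101, nat_lit 0xfcfccf34a676e01, nat_lit 0xaec02df3e1aba101, nat_lit 0x4a0a49f3ed85eb01, nat_lit 0x80a4c3f30f030501, nat_lit 0x686e661042c28201, nat_lit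 0xc06e61060ce0e01, nat_lit 0x78281be42676e01, nat_lit 0x2169ed5a07e06101, nat_lit 0xcde14b73a1cec001, nat_lit 0x4a48439fec6f8501, nat_lit 0x4a4809d52925cf01, nat_lit 0xae6128f3212dc001, nat_lit 0xeb69285508256e01, nat_lit 0xae61285d082d6e01]
  ab := nat_lit 0xa00400100900c00700300b00301501400700100300700401001000f00f00b00900000700300000400c00b00100a002002009002003007002001004006003005005003003001001000000000000000000000000
  ia := nat_lit 0x1a01801601401201100f00d00b009007003002004001000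
  ib := nat_lit 0x1b01901701501301101000e00c00a003007002001004000
  ent := pget (nat_lit 0xdcf0cb143c840802c1dcc0dd34300a0581031c0080101c8c0a11430c910004190b0a32c42c10de00310b0dd3834800ef2448430cb30310d0cf2c284e0c00817470d80c39090b6082d8b0a40c290009500484a0c420300807c08214d0cb3c37430fc2028420f22029040a13030070722c238f0c0141c800a11c384d0dd2c300e0611833000b224274c0d12c38440c0000) (nat_lit 18) (nat_lit 0x3ffff)
  key := o8p2vT2_key
  ks := o8p2vT2_kt
  loc := locB o8p2vT2_key o8p2vT2_kt o8p2vT2_bt (nat_lit 3)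

noncomputable def o8p2vT2_fix : ℕ → Bool := fixT a2_8.mul o8p2v1_fix (nat_lit 0xff69ebd7b9240990) (nat_lit 0xae490baf9b0fce99)

noncomputable def o8p2vT3_g : List ℕ := [nat_lit 0xeb060d7b0ecf6f01, nat_lit 0xbe6069b670fa401]
noncomputable def o8p2vT3_key : ℕ → ℕ := keyT a2_8.mul o8p2v1_key (nat_lit 0x4a40ea0bd9d5021a) (nat_lit 27)
noncomputable def o8p2vT3_kt : ℕ → ℕ := pget (nat_lit 0xefe9e6e0cfcdc6c4ada9a4a06f6964624f4d42402d29262206040200) (nat_lit 8) (nat_lit 0xff)
noncomputable def o8p2vT3_bt : ℕ → ℕ := pget (nat_lit 0xc521062080) (nat_lit 5) (nat_lit 0x1f)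
noncomputable def o8p2vT3 : LvD where
  n := nat_lit 28
  g := o8p2vT3_g
  T := [nat_lit 0xeb060d7b0ecf6f01, nat_lit 0xbe6069b670fa401, nat_lit 0x80a0c010ae42a401, nat_lit 0xebe6ed7b48692901, nat_lit 0xc240ab524acd0201, nat_lit 0x49e6cfd92584a401, nat_lit 0x60a040f04a096f01, nat_lit 0xe020a07005ab2d01, nat_lit 0x6040a0f0aaaf2901, nat_lit 0xe040c070c30deb01, nat_lit 0x8040201008040201, nat_lit 0xa46642342cedcd01, nat_lit 0xe0ed06706866cd01, nat_lit 0x82068612672d6f01, nat_lit 0x60e6aff00aa0e001]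
  ab := nat_lit 0x9005001008007003000006003000003005001000000005001003004001001001002000000000000000000000
  ia := nat_lit 0xd00b008006005001003000
  ib := nat_lit 0x300300300300300300300300300300300300300300300300300300300300300300300300300300300300300300300300300300300300300300300300300300300300300300300300300300300300300300300300e00c009007001005000003
  ent := pget (nat_lit 0x6861dc309c38440830080d430dc304e0826841e810d630771c2c8a1805052305708270610820c0102c10310e19030da207710268c1dc10b21060000) (nat_lit 17) (nat_lit 0x1ffff)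
  key := o8p2vT3_key
  ks := o8p2vT3_kt
  loc := locB o8p2vT3_key o8p2vT3_kt o8p2vT3_bt (nat_lit 5)

noncomputable def o8p2vT3_fix : ℕ → Bool := fixT a2_8.mul o8p2v1_fix (nat_lit 0x4a40ea0bd9d5021a) (nat_lit 0x9b403bc1c2ce02d0)

noncomputable def o8p2vT4_g : List ℕ := [nat_lit 0xf04ab9f87cd0201, nat_lit 0x492986d9aacd6901]
noncomputable def o8p2vT4_key : ℕ → ℕ := keyT a2_8.mul o8p2v1_key (nat_lit 0x8016432508673757) (nat_lit 86)
noncomputable def o8p2vT4_kt : ℕ → ℕ := pget (nat_lit 0xe4e0a4a28b896f6b2f290200) (nat_lit 8) (nat_lit 0xff)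
noncomputable def o8p2vT4_bt : ℕ → ℕ := pget (nat_lit 0xa640) (nat_lit 4) (nat_lit 0xf)
noncomputable def o8p2vT4 : LvD where
  n := nat_lit 12
  g := o8p2vT4_g
  T := [nat_lit 0xf04ab9f87cd0201, nat_lit 0x492986d9aacd6901, nat_lit 0x49cd20d9c1400201, nat_lit 0xd04209d85cd0201, nat_lit 0x4bcdabdbc3400201, nat_lit 0x822ded120c060401, nat_lit 0x86e649160a020601, nat_lit 0xed42827dc369a401, nat_lit 0xeb060d7b08296901, nat_lit 0xafcf493f85a4a001, nat_lit 0xfcd0d9fec066901]
  ab := nat_lit 0x1007004004001006001005005001001003000002002000000000000000000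
  ia := nat_lit 0x3009005008007001004000
  ib := nat_lit 0x400400400400400400400400400400400400400400400400400400400400400400400400400400400400400400400400400400400400400400400400400400400400400400400400400400400400400400400400200a006008001007000004
  ent := pget (nat_lit 0x8102918200c10181a103a0c31142010181c2400200010000) (nat_lit 16) (nat_lit 0xffff)
  key := o8p2vT4_key
  ks := o8p2vT4_kt
  loc := locB o8p2vT4_key o8p2vT4_kt o8p2vT4_bt (nat_lit 6)

noncomputable def o8p2vT4_fix : ℕ → Bool := fixT a2_8.mul o8p2v1_fix (nat_lit 0x8016432508673757) (nat_lit 0x8075767308526134)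

noncomputable def o8p2vT5_g : List ℕ := [nat_lit 0xd06eb9d85cf0201, nat_lit 0x822dc01221402901]
noncomputable def o8p2vT5_key : ℕ → ℕ := keyT a2_8.mul o8p2v1_key (nat_lit 0x8383b7bba5a2c3c) (nat_lit 61)
noncomputable def o8p2vT5_kt : ℕ → ℕ := pget (nat_lit 0xe2c98f4400) (nat_lit 8) (nat_lit 0xff)
noncomputable def o8p2vT5_bt : ℕ → ℕ := pget (nat_lit 0x8) (nat_lit 2) (nat_lit 0x3)
noncomputable def o8p2vT5 : LvD where
  n := nat_lit 5
  g := o8p2vT5_g
  T := [nat_lit 0xd06eb9d85cf0201, nat_lit 0x822dc01221402901, nat_lit 0x4bcd66dbc3420201, nat_lit 0xaba0af3bc12de001, nat_lit 0x240409b40a42a401]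
  ab := nat_lit 0x3003001001000000000000000000
  ia := nat_lit 0x4001002000
  ib := nat_lit 0x2002002002002002002002002002002002002002002002002002002002002002002002002002002002002002002002002002002002002002002002002002002002002002002002002002002002002002002002002002002002001004000002
  ent := pget (nat_lit 0x30c203040818008000) (nat_lit 14) (nat_lit 0x3fff)
  key := o8p2vT5_key
  ks := o8p2vT5_kt
  loc := locB o8p2vT5_key o8p2vT5_kt o8p2vT5_bt (nat_lit 7)

noncomputable def o8p2vT5_fix : ℕ → Bool := fixT a2_8.mul o8p2v1_fix (nat_lit 0x8383b7bba5a2c3c) (nat_lit 0xff30c3038041b7d7)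

noncomputable def o8p2vT6_g : List ℕ := [nat_lit 0xab2d663b08692901, nat_lit 0x4bcd66dbc3420201]
noncomputable def o8p2vT6_key : ℕ → ℕ := keyT a2_8.mul o8p2v1_key (nat_lit 0xae3858deb92d9d99) (nat_lit 152)
noncomputable def o8p2vT6_kt : ℕ → ℕ := pget (nat_lit 0xcba68d00) (nat_lit 8) (nat_lit 0xff)
noncomputable def o8p2vT6_bt : ℕ → ℕ := pget (nat_lit 0x2) (nat_lit 1) (nat_lit 0x1)
noncomputable def o8p2vT6 : LvD where
  n := nat_lit 4
  g := o8p2vT6_g
  T := [nat_lit 0xab2d663b08692901, nat_lit 0x4bcd66dbc3420201, nat_lit 0xed060b7d08426f01, nat_lit 0xd06eb9d85cf0201]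
  ab := nat_lit 0x1001000000000000000000
  ia := nat_lit 0x3001002000
  ib := nat_lit 0x2002002002002002002002002002002002002002002002002002002002002002002002002002002002002002002002002002002002002002002002002002002002002002002002002002002002002002002002002002002002001003000002
  ent := pget (nat_lit 0x2070020304000) (nat_lit 14) (nat_lit 0x3fff)
  key := o8p2vT6_key
  ks := o8p2vT6_kt
  loc := locB o8p2vT6_key o8p2vT6_kt o8p2vT6_bt (nat_lit 7)

noncomputable def o8p2vT6_fix : ℕ → Bool := fixT a2_8.mul o8p2v1_fix (nat_lit 0xae3858deb92d9d99) (nat_lit 0xff6909f0b903ccb7)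

noncomputable def o8p2vT7_g : List ℕ := [nat_lit 0xed060b7d08426f01]
noncomputable def o8p2vT7_key : ℕ → ℕ := keyT a2_8.mul o8p2v1_key (nat_lit 0xbab30e68cdc2920d) (nat_lit 12)
noncomputable def o8p2vT7_kt : ℕ → ℕ := pget (nat_lit 0x1b6300) (nat_lit 7) (nat_lit 0x7f)
noncomputable def o8p2vT7_bt : ℕ → ℕ := pget (nat_lit 0x0) (nat_lit 1) (nat_lit 0x1)
noncomputable def o8p2vT7 : LvD where
  n := nat_lit 3
  g := o8p2vT7_g
  T := [nat_lit 0xed060b7d08426f01, nat_lit 0xab2d663b08692901]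
  ab := nat_lit 0x0
  ia := nat_lit 0x1000
  ib := nat_lit 0x1001001001001001001001001001001001001001001001001001001001001001001001001001001001001001001001001001001001001001001001001001001001001001001001001001001001001001001001001001001001001001000001
  ent := pget (nat_lit 0x104080) (nat_lit 7) (nat_lit 0x7f)
  key := o8p2vT7_key
  ks := o8p2vT7_kt
  loc := locB o8p2vT7_key o8p2vT7_kt o8p2vT7_bt (nat_lit 7)

noncomputable def o8p2vT7_fix : ℕ → Bool := fixT a2_8.mul o8p2v1_fix (nat_lit 0xbab30e68cdc2920d) (nat_lit 0x9b926e94ecc10d2c)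

noncomputable def o8p2vT8_g : List ℕ := []
noncomputable def o8p2vT8_ls : List Lv := []
noncomputable def o8p2vT7_ls : List Lv := o8p2vT7.lv a2_8.mul a2_8.one :: o8p2vT8_ls
noncomputable def o8p2vT6_ls : List Lv := o8p2vT6.lv a2_8.mul a2_8.one :: o8p2vT7_ls
noncomputable def o8p2vT5_ls : List Lv := o8p2vT5.lv a2_8.mul a2_8.one :: o8p2vT6_ls
noncomputable def o8p2vT4_ls : List Lv := o8p2vT4.lv a2_8.mul a2_8.one :: o8p2vT5_ls
noncomputable def o8p2vT3_ls : List Lv := o8p2vT3.lv a2_8.mul a2_8.one :: o8p2vT4_ls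
noncomputable def o8p2vT2_ls : List Lv := o8p2vT2.lv a2_8.mul a2_8.one :: o8p2vT3_ls
noncomputable def o8p2vT1_ls : List Lv := o8p2vT1.lv a2_8.mul a2_8.one :: o8p2vT2_ls
noncomputable def o8p2v_aux : List ℕ := [nat_lit 0xff3f5f4108557d50, nat_lit 0x807520c1ece037d0, nat_lit 0x9b6e3b2508042c34, nat_lit 0x8075767308526134, nat_lit 0x8016b3d5cd520292, nat_lit 0x803420d5cd70b3b0, nat_lit 0x804073a1ea57e0b0, nat_lit 0x8040201008040201, nat_lit 0xff69ebd7b9240990, nat_lit 0xae490baf9b0fce99, nat_lit 0x4a40ea0bd9d5021a, nat_lit 0x9b403bc1c2ce02d0, nat_lit 0x8016432508673757, nat_lit 0x8383b7bba5a2c3c, nat_lit 0xff30c3038041b7d7, nat_lit 0xae3858deb92d9d99, nat_lit 0xff6909f0b903ccb7, nat_lit 0xbab30e68cdc2920d, nat_lit 0x9b926e94ecc10d2c]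
theorem o8p2vT1_ok : o8p2vT1.ok a2_8.mul Nat.beq a2_8.one = true := by decide +kernel
theorem o8p2vT1_next : o8p2vT1.nextOK a2_8.mul a2_8.one o8p2vT2_g (nat_lit 0x1000000900002500005100000300005700008600000a00008600006600000d00007d) = true := by decide +kernel
theorem o8p2vT1_fx : allL o8p2vT1_fix o8p2vT2_g = true := by decide +kernel
theorem o8p2vT1_k_0 : allR (kchk o8p2vT1_key (o8p2vT1.lv a2_8.mul a2_8.one).U o8p2vT1_kt (nat_lit 135)) (nat_lit 0) (nat_lit 135) = true := by decide +kernel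
theorem o8p2vT1_k : ∀ j < nat_lit 135, (kchk o8p2vT1_key (o8p2vT1.lv a2_8.mul a2_8.one).U o8p2vT1_kt (nat_lit 135)) j = true :=
  (allR_step (c := nat_lit 135) (fun _ h => absurd h (Nat.not_lt_zero _)) o8p2vT1_k_0 (by decide))

theorem o8p2vT2_ok : o8p2vT2.ok a2_8.mul Nat.beq a2_8.one = true := by decide +kernel
theorem o8p2vT2_next : o8p2vT2.nextOK a2_8.mul a2_8.one o8p2vT3_g (nat_lit 0x1400001800001f000030000011000033) = true := by decide +kernel
theorem o8p2vT2_fx : allL o8p2vT2_fix o8p2vT3_g = true := by decide +kernel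
theorem o8p2vT2_k_0 : allR (kchk o8p2vT2_key (o8p2vT2.lv a2_8.mul a2_8.one).U o8p2vT2_kt (nat_lit 64)) (nat_lit 0) (nat_lit 64) = true := by decide +kernel
theorem o8p2vT2_k : ∀ j < nat_lit 64, (kchk o8p2vT2_key (o8p2vT2.lv a2_8.mul a2_8.one).U o8p2vT2_kt (nat_lit 64)) j = true :=
  (allR_step (c := nat_lit 64) (fun _ h => absurd h (Nat.not_lt_zero _)) o8p2vT2_k_0 (by decide))

theorem o8p2vT3_ok : o8p2vT3.ok a2_8.mul Nat.beq a2_8.one = true := by decide +kernel
theorem o8p2vT3_next : o8p2vT3.nextOK a2_8.mul a2_8.one o8p2vT4_g (nat_lit 0x1a00000000001b00000300000b00001b) = true := by decide +kernel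
theorem o8p2vT3_fx : allL o8p2vT3_fix o8p2vT4_g = true := by decide +kernel
theorem o8p2vT3_k_0 : allR (kchk o8p2vT3_key (o8p2vT3.lv a2_8.mul a2_8.one).U o8p2vT3_kt (nat_lit 28)) (nat_lit 0) (nat_lit 28) = true := by decide +kernel
theorem o8p2vT3_k : ∀ j < nat_lit 28, (kchk o8p2vT3_key (o8p2vT3.lv a2_8.mul a2_8.one).U o8p2vT3_kt (nat_lit 28)) j = true :=
  (allR_step (c := nat_lit 28) (fun _ h => absurd h (Nat.not_lt_zero _)) o8p2vT3_k_0 (by decide))

theorem o8p2vT4_ok : o8p2vT4.ok a2_8.mul Nat.beq a2_8.one = true := by decide +kernel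
theorem o8p2vT4_next : o8p2vT4.nextOK a2_8.mul a2_8.one o8p2vT5_g (nat_lit 0x5000004000006000003000006) = true := by decide +kernel
theorem o8p2vT4_fx : allL o8p2vT4_fix o8p2vT5_g = true := by decide +kernel
theorem o8p2vT4_k_0 : allR (kchk o8p2vT4_key (o8p2vT4.lv a2_8.mul a2_8.one).U o8p2vT4_kt (nat_lit 12)) (nat_lit 0) (nat_lit 12) = true := by decide +kernel
theorem o8p2vT4_k : ∀ j < nat_lit 12, (kchk o8p2vT4_key (o8p2vT4.lv a2_8.mul a2_8.one).U o8p2vT4_kt (nat_lit 12)) j = true :=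
  (allR_step (c := nat_lit 12) (fun _ h => absurd h (Nat.not_lt_zero _)) o8p2vT4_k_0 (by decide))

theorem o8p2vT5_ok : o8p2vT5.ok a2_8.mul Nat.beq a2_8.one = true := by decide +kernel
theorem o8p2vT5_next : o8p2vT5.nextOK a2_8.mul a2_8.one o8p2vT6_g (nat_lit 0x3000000000002000004000000000004) = true := by decide +kernel
theorem o8p2vT5_fx : allL o8p2vT5_fix o8p2vT6_g = true := by decide +kernel
theorem o8p2vT5_k_0 : allR (kchk o8p2vT5_key (o8p2vT5.lv a2_8.mul a2_8.one).U o8p2vT5_kt (nat_lit 5)) (nat_lit 0) (nat_lit 5) = true := by decide +kernel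
theorem o8p2vT5_k : ∀ j < nat_lit 5, (kchk o8p2vT5_key (o8p2vT5.lv a2_8.mul a2_8.one).U o8p2vT5_kt (nat_lit 5)) j = true :=
  (allR_step (c := nat_lit 5) (fun _ h => absurd h (Nat.not_lt_zero _)) o8p2vT5_k_0 (by decide))

theorem o8p2vT6_ok : o8p2vT6.ok a2_8.mul Nat.beq a2_8.one = true := by decide +kernel
theorem o8p2vT6_next : o8p2vT6.nextOK a2_8.mul a2_8.one o8p2vT7_g (nat_lit 0x2000003000002) = true := by decide +kernel
theorem o8p2vT6_fx : allL o8p2vT6_fix o8p2vT7_g = true := by decide +kernel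
theorem o8p2vT6_k_0 : allR (kchk o8p2vT6_key (o8p2vT6.lv a2_8.mul a2_8.one).U o8p2vT6_kt (nat_lit 4)) (nat_lit 0) (nat_lit 4) = true := by decide +kernel
theorem o8p2vT6_k : ∀ j < nat_lit 4, (kchk o8p2vT6_key (o8p2vT6.lv a2_8.mul a2_8.one).U o8p2vT6_kt (nat_lit 4)) j = true :=
  (allR_step (c := nat_lit 4) (fun _ h => absurd h (Nat.not_lt_zero _)) o8p2vT6_k_0 (by decide))

theorem o8p2vT7_ok : o8p2vT7.ok a2_8.mul Nat.beq a2_8.one = true := by decide +kernel
theorem o8p2vT7_next : o8p2vT7.nextOK a2_8.mul a2_8.one o8p2vT8_g (nat_lit 0x0) = true := by decide +kernel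
theorem o8p2vT7_fx : allL o8p2vT7_fix o8p2vT8_g = true := by decide +kernel
theorem o8p2vT7_k_0 : allR (kchk o8p2vT7_key (o8p2vT7.lv a2_8.mul a2_8.one).U o8p2vT7_kt (nat_lit 3)) (nat_lit 0) (nat_lit 3) = true := by decide +kernel
theorem o8p2vT7_k : ∀ j < nat_lit 3, (kchk o8p2vT7_key (o8p2vT7.lv a2_8.mul a2_8.one).U o8p2vT7_kt (nat_lit 3)) j = true :=
  (allR_step (c := nat_lit 3) (fun _ h => absurd h (Nat.not_lt_zero _)) o8p2vT7_k_0 (by decide))

theorem o8p2v_auxok : slpR a2_8.mul a2_8.one (wdsOK a2_8.mul a2_8.one o8p2v_aux [nat_lit 0x106c, nat_lit 0x106d, nat_lit 0x100801501501903a02902a03906104506b, nat_lit 0x100901501501a00702d06206b, nat_lit 0x1070, nat_lit 0x1071, nat_lit 0x100901a028047071, nat_lit 0x1, nat_lit 0x100801a00703a02902606c070072, nat_lit 0x100200901701701a00703a02902604803304c060069, nat_lit 0x100801501501903a02902a03906104506a, nat_lit 0x100200801703a02900106106d, nat_lit 0x1060, nat_lit 0x104c06d070, nat_lit 0x100000801701a02804706c06d06f,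 nat_lit 0x100001501501a00703a02900104c060069, nat_lit 0x100200901701701a00703a02902606c06f069, nat_lit 0x100000801e03a02902606204506806e, nat_lit 0x100000901701701e02d03906206d06f06a069]) (nat_lit 108) (nat_lit 0x100102803800000600000001000000500000e00e01601200000000d00000000c00000001300000c00000a00000000e00000900000e00000700000000500500000000000000200000700000000400b00000d00000c00000f01b00000000000001900000700000300000200000800000100200300100000201001100301000000200000000000001800000400000100001e03000100001400003800003b00002900003100003a00003601300000000400002500000100000102400e00800c00002c00002d00002700002b00002602700000700000600000000300002600001500001102001f01f00001300000001d00001e00001800000a00001700001d00001200001200000600000600001300001500001200000300e01201200101201201200e00e00000000900000b00000300000400000a000007004000006007007003003001001) o8p2_g = true := by decide +kernel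
theorem o8p2v_low {G : Type*} [Group G] (M : Model G) (h1 : M.mul = a2_8.mul) (h2 : M.eqb = Nat.beq)
    (h3 : M.one = a2_8.one) (vv : ∀ c ∈ o8p2_g, M.In ⊤ c) {St : Subgroup G} (k1 : Key M St o8p2v1_key o8p2v1_fix) [Finite G] :
    174182400 ≤ Nat.card (M.cl o8p2_g) := by
  obtain ⟨R, one, mul, eqb, a1, a2, a3⟩ := M
  dsimp only at h1 h2 h3
  subst h1 h2 h3
  set M : Model G := ⟨R, a2_8.one, a2_8.mul, Nat.beq, a1, a2, a3⟩ with hM
  have va := in_of_slpW (M := M) _ vv o8p2v_auxok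
  obtain ⟨to8p2vT1, hTo8p2vT1⟩ := exists_R va (c := (nat_lit 0x8040201008040201)) (by (try dsimp only [M]); decide +kernel)
  have ko8p2vT1 : Key M (cjS St to8p2vT1) o8p2vT1_key o8p2vT1_fix := k1.keyT hTo8p2vT1 (R_inv_of hTo8p2vT1 (exists_R va (c := (nat_lit 0x8040201008040201)) (by (try dsimp only [M]); decide +kernel)) (by (try dsimp only [M]); decide +kernel)) _
  obtain ⟨to8p2vT2, hTo8p2vT2⟩ := exists_R va (c := (nat_lit 0xff69ebd7b9240990)) (by (try dsimp only [M]); decide +kernel)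
  have ko8p2vT2 : Key M (cjS St to8p2vT2) o8p2vT2_key o8p2vT2_fix := k1.keyT hTo8p2vT2 (R_inv_of hTo8p2vT2 (exists_R va (c := (nat_lit 0xae490baf9b0fce99)) (by (try dsimp only [M]); decide +kernel)) (by (try dsimp only [M]); decide +kernel)) _
  obtain ⟨to8p2vT3, hTo8p2vT3⟩ := exists_R va (c := (nat_lit 0x4a40ea0bd9d5021a)) (by (try dsimp only [M]); decide +kernel)
  have ko8p2vT3 : Key M (cjS St to8p2vT3) o8p2vT3_key o8p2vT3_fix := k1.keyT hTo8p2vT3 (R_inv_of hTo8p2vT3 (exists_R va (c := (nat_lit 0x9b403bc1c2ce02d0)) (by (try dsimp only [M]); decide +kernel)) (by (try dsimp only [M]); decide +kernel)) _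
  obtain ⟨to8p2vT4, hTo8p2vT4⟩ := exists_R va (c := (nat_lit 0x8016432508673757)) (by (try dsimp only [M]); decide +kernel)
  have ko8p2vT4 : Key M (cjS St to8p2vT4) o8p2vT4_key o8p2vT4_fix := k1.keyT hTo8p2vT4 (R_inv_of hTo8p2vT4 (exists_R va (c := (nat_lit 0x8075767308526134)) (by (try dsimp only [M]); decide +kernel)) (by (try dsimp only [M]); decide +kernel)) _
  obtain ⟨to8p2vT5, hTo8p2vT5⟩ := exists_R va (c := (nat_lit 0x8383b7bba5a2c3c)) (by (try dsimp only [M]); decide +kernel)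
  have ko8p2vT5 : Key M (cjS St to8p2vT5) o8p2vT5_key o8p2vT5_fix := k1.keyT hTo8p2vT5 (R_inv_of hTo8p2vT5 (exists_R va (c := (nat_lit 0xff30c3038041b7d7)) (by (try dsimp only [M]); decide +kernel)) (by (try dsimp only [M]); decide +kernel)) _
  obtain ⟨to8p2vT6, hTo8p2vT6⟩ := exists_R va (c := (nat_lit 0xae3858deb92d9d99)) (by (try dsimp only [M]); decide +kernel)
  have ko8p2vT6 : Key M (cjS St to8p2vT6) o8p2vT6_key o8p2vT6_fix := k1.keyT hTo8p2vT6 (R_inv_of hTo8p2vT6 (exists_R va (c := (nat_lit 0xff6909f0b903ccb7)) (by (try dsimp only [M]); decide +kernel)) (by (try dsimp only [M]); decide +kernel)) _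
  obtain ⟨to8p2vT7, hTo8p2vT7⟩ := exists_R va (c := (nat_lit 0xbab30e68cdc2920d)) (by (try dsimp only [M]); decide +kernel)
  have ko8p2vT7 : Key M (cjS St to8p2vT7) o8p2vT7_key o8p2vT7_fix := k1.keyT hTo8p2vT7 (R_inv_of hTo8p2vT7 (exists_R va (c := (nat_lit 0x9b926e94ecc10d2c)) (by (try dsimp only [M]); decide +kernel)) (by (try dsimp only [M]); decide +kernel)) _
  have go8p2vT1 : ∀ c ∈ o8p2vT1_g, M.In ⊤ c := valid_sub va (by (try dsimp only [M]); decide +kernel)
  have go8p2vT2 := LvD.valid_next (D := o8p2vT1) go8p2vT1 o8p2vT1_ok o8p2vT1_next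
  have lo8p2vT1 := LvD.le_next (D := o8p2vT1) go8p2vT1 o8p2vT1_ok o8p2vT1_next
  have go8p2vT3 := LvD.valid_next (D := o8p2vT2) go8p2vT2 o8p2vT2_ok o8p2vT2_next
  have lo8p2vT2 := LvD.le_next (D := o8p2vT2) go8p2vT2 o8p2vT2_ok o8p2vT2_next
  have go8p2vT4 := LvD.valid_next (D := o8p2vT3) go8p2vT3 o8p2vT3_ok o8p2vT3_next
  have lo8p2vT3 := LvD.le_next (D := o8p2vT3) go8p2vT3 o8p2vT3_ok o8p2vT3_next
  have go8p2vT5 := LvD.valid_next (D := o8p2vT4) go8p2vT4 o8p2vT4_ok o8p2vT4_next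
  have lo8p2vT4 := LvD.le_next (D := o8p2vT4) go8p2vT4 o8p2vT4_ok o8p2vT4_next
  have go8p2vT6 := LvD.valid_next (D := o8p2vT5) go8p2vT5 o8p2vT5_ok o8p2vT5_next
  have lo8p2vT5 := LvD.le_next (D := o8p2vT5) go8p2vT5 o8p2vT5_ok o8p2vT5_next
  have go8p2vT7 := LvD.valid_next (D := o8p2vT6) go8p2vT6 o8p2vT6_ok o8p2vT6_next
  have lo8p2vT6 := LvD.le_next (D := o8p2vT6) go8p2vT6 o8p2vT6_ok o8p2vT6_next
  have go8p2vT8 := LvD.valid_next (D := o8p2vT7) go8p2vT7 o8p2vT7_ok o8p2vT7_next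
  have lo8p2vT7 := LvD.le_next (D := o8p2vT7) go8p2vT7 o8p2vT7_ok o8p2vT7_next
  have co8p2vT8 : 1 ≤ Nat.card (M.cl o8p2vT8_g) := Nat.card_pos
  have co8p2vT7 : 3 ≤ Nat.card (M.cl o8p2vT7_g) := le_trans (by (try dsimp only [M]); decide +kernel) (LvD.lower (D := o8p2vT7) go8p2vT7 o8p2vT7_ok co8p2vT8 lo8p2vT7 ko8p2vT7 o8p2vT7_fx o8p2vT7_k)
  have co8p2vT6 : 12 ≤ Nat.card (M.cl o8p2vT6_g) := le_trans (by (try dsimp only [M]); decide +kernel) (LvD.lower (D := o8p2vT6) go8p2vT6 o8p2vT6_ok co8p2vT7 lo8p2vT6 ko8p2vT6 o8p2vT6_fx o8p2vT6_k)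
  have co8p2vT5 : 60 ≤ Nat.card (M.cl o8p2vT5_g) := le_trans (by (try dsimp only [M]); decide +kernel) (LvD.lower (D := o8p2vT5) go8p2vT5 o8p2vT5_ok co8p2vT6 lo8p2vT5 ko8p2vT5 o8p2vT5_fx o8p2vT5_k)
  have co8p2vT4 : 720 ≤ Nat.card (M.cl o8p2vT4_g) := le_trans (by (try dsimp only [M]); decide +kernel) (LvD.lower (D := o8p2vT4) go8p2vT4 o8p2vT4_ok co8p2vT5 lo8p2vT4 ko8p2vT4 o8p2vT4_fx o8p2vT4_k)
  have co8p2vT3 : 20160 ≤ Nat.card (M.cl o8p2vT3_g) := le_trans (by (try dsimp only [M]); decide +kernel) (LvD.lower (D := o8p2vT3) go8p2vT3 o8p2vT3_ok co8p2vT4 lo8p2vT3 ko8p2vT3 o8p2vT3_fx o8p2vT3_k)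
  have co8p2vT2 : 1290240 ≤ Nat.card (M.cl o8p2vT2_g) := le_trans (by (try dsimp only [M]); decide +kernel) (LvD.lower (D := o8p2vT2) go8p2vT2 o8p2vT2_ok co8p2vT3 lo8p2vT2 ko8p2vT2 o8p2vT2_fx o8p2vT2_k)
  have co8p2vT1 : 174182400 ≤ Nat.card (M.cl o8p2vT1_g) := le_trans (by (try dsimp only [M]); decide +kernel) (LvD.lower (D := o8p2vT1) go8p2vT1 o8p2vT1_ok co8p2vT2 lo8p2vT1 ko8p2vT1 o8p2vT1_fx o8p2vT1_k)
  exact co8p2vT1

theorem o8p2v_top {G : Type*} [Group G] [Finite G] {ρ : G →* Matrix (Fin 8) (Fin 8) (ZMod 2)} {hρ : Function.Injective ρ}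
    (hv : ∀ c ∈ o8p2_g, (a2_8.model ρ hρ).In ⊤ c) (hN : Nat.card G = 174182400) : (a2_8.model ρ hρ).cl o8p2_g = ⊤ :=
  let ⟨_, k⟩ := a2_8.keyP' ρ hρ _ _ (by decide +kernel)
  Subgroup.eq_top_of_le_card _ (hN.le.trans (o8p2v_low _ rfl rfl rfl hv k))

noncomputable def o8p2_T : List ℕ := [nat_lit 0xff3f5f6f087b7d7e, nat_lit 0x804020c1d9d502d0, nat_lit 0xae6e0e1008042c01, nat_lit 0x8075202508043734, nat_lit 0x8016761008520257, nat_lit 0x808520d5cdc10201, nat_lit 0x804020a1b904b3b0, nat_lit 0x8040734308570252]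
noncomputable def o8p2_Ti : List ℕ := [nat_lit 0xff3f5f6f087b7d7e, nat_lit 0x804020c1d9d502d0, nat_lit 0xae6e0e1008042c01, nat_lit 0x8075202508043734, nat_lit 0x8016761008520257, nat_lit 0x808520d5cdc10201, nat_lit 0x804020a1b904b3b0, nat_lit 0x8040734308570252]
theorem o8p2_ex {F : Type*} [Field F] [Fintype F] (hF : Fintype.card F = 2) :
    Nonempty (QM (Cfsg.POmega F (Cfsg.quadFormPlus 4 F)) a2_8 o8p2_g o8p2_z o8p2_zs) := by
  obtain ⟨fm⟩ := exists_fm1 hF
  have hT := FM.in_iso (fm := fm) (a := a2_8) (n := 8) (L := o8p2_T) (e := (finSumFinEquiv (m := 4) (n := 4)).symm) (Q := Cfsg.quadFormPlus 4 F)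
    (cB := fun x y => if y = x + 4 then 1 else 0) (fun v => by rw [plus_eq, fm.int_eq ((finSumFinEquiv (m := 4) (n := 4)).symm) (c := fun x y => if y = x + 4 then 1 else 0) (by decide +kernel)])
    (m := 1) (by norm_num) (by decide +kernel)
  have hTi := FM.in_iso (fm := fm) (a := a2_8) (n := 8) (L := o8p2_Ti) (e := (finSumFinEquiv (m := 4) (n := 4)).symm) (Q := Cfsg.quadFormPlus 4 F)
    (cB := fun x y => if y = x + 4 then 1 else 0) (fun v => by rw [plus_eq, fm.int_eq ((finSumFinEquiv (m := 4) (n := 4)).symm) (c := fun x y => if y = x + 4 then 1 else 0) (by decide +kernel)])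
    (m := 1) (by norm_num) (by decide +kernel)
  have hv := FM.in_sub (in_commutator hT hTi (L := o8p2_g) (ab := 0x706060505040403030203010200)
    (show invOK a2_8.mul Nat.beq a2_8.one o8p2_T o8p2_Ti = true by decide +kernel)
    (show cmOK a2_8.mul a2_8.one o8p2_T o8p2_Ti o8p2_g _ = true by decide +kernel))
  have hc := cen_plus (F := F) (cast_eq_zero_of_card (p := 2) (k := 1) hF) (le_refl 4)
  have hN := card_of_cen hc (card_o8p2 hF)
  haveI := Nat.finite_of_card_ne_zero (hN.trans_ne (by norm_num))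
  exact ⟨(QM.ofCen _ _ hv (o8p2v_top hv hN) (m := 1) hc
    (show slpR a2_8.mul a2_8.one (subL [o8p2_z]) (nat_lit 2) (nat_lit 0x1000000) o8p2_g = true by decide +kernel)
    (ps := []) (by decide +kernel) (by norm_num) (by decide +kernel)).choose⟩

end H29
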