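import Cfsg.Agent.H29.O8p2M

set_option autoImplicit false
set_option maxRecDepth 100000
set_option linter.style.haveILetI false
set_option linter.unusedVariables false
set_option linter.style.longLine false
set_option linter.unusedTactic false
set_option linter.unreachableTactic false

namespace H29

noncomputable def o8p2s2_gl : List ℕ := [nat_lit 0xd7aacdfa0f3b5569, nat_lit 0xde5ddc5a3c10341c, nat_lit 0x14ebdb8458869628, nat_lit 0xf95d66e78660aef6, nat_lit 0xd010204058b952ec, nat_lit 0x7bfa9dc20f90f906, nat_lit 0xf958206010b0aea4, nat_lit 0x210484030038084, nat_lit 0x2c29d9237048083, nat_lit 0x2069d83f3c08092, nat_lit 0x55aaf5fa373bd7eb, nat_lit 0x5528207860b9d769]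
noncomputable def o8p2s2_fg : List ℕ := [nat_lit 0x87847e0692e78037, nat_lit 0xb7cf489f52695d33, nat_lit 0x3312ed5a42831a2d, nat_lit 0xb44bcf246eb909b7]
noncomputable def o8p2s2_J : List Job := [.as (nat_lit 0x40) (nat_lit 0x40) (nat_lit 0x40) (nat_lit 0x400000000000000000000000000000000),
  .as (nat_lit 0x20) (nat_lit 0x20) (nat_lit 0x20) (nat_lit 0x100000000000000000000000000000000),
  .as (nat_lit 0x8) (nat_lit 0x8) (nat_lit 0x8) (nat_lit 0x40000000000000000000000000),
  .as (nat_lit 0x4) (nat_lit 0x4) (nat_lit 0x4) (nat_lit 0x10000000000000000),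
  .as (nat_lit 0x2) (nat_lit 0x2) (nat_lit 0x2) (nat_lit 0x140000000000000000000500000400000002),
  .as (nat_lit 0x800) (nat_lit 0x8) (nat_lit 0x8) (nat_lit 0xc0020000000000000000000000000000000),
  .as (nat_lit 0x800) (nat_lit 0x800) (nat_lit 0x4) (nat_lit 0x8000000000000000000000000000000),
  .as (nat_lit 0x800) (nat_lit 0x4) (nat_lit 0x4) (nat_lit 0xc008000000000000000000000000000000),
  .as (nat_lit 0x800) (nat_lit 0x800) (nat_lit 0x2) (nat_lit 0x2000000000000000000000000000000),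
  .as (nat_lit 0x800) (nat_lit 0x2) (nat_lit 0x2) (nat_lit 0xc0cc2000000000000000000000000000000),
  .as (nat_lit 0x400) (nat_lit 0x4) (nat_lit 0x4) (nat_lit 0x30020000000000000000000000000),
  .as (nat_lit 0x400) (nat_lit 0x400) (nat_lit 0x2) (nat_lit 0x3c0000000000000000000000000000000002),
  .as (nat_lit 0x400) (nat_lit 0x2) (nat_lit 0x2) (nat_lit 0x100001003300000000000000000000000002),
  .as (nat_lit 0x200) (nat_lit 0x200) (nat_lit 0x40) (nat_lit 0x330000000000080000000000000000000000),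
  .as (nat_lit 0x200) (nat_lit 0x200) (nat_lit 0x8) (nat_lit 0x3c0000002000000000000000000000),
  .as (nat_lit 0x200) (nat_lit 0x4) (nat_lit 0x4) (nat_lit 0x100004000000c00800000000000000000000),
  .as (nat_lit 0x200) (nat_lit 0x2) (nat_lit 0x2) (nat_lit 0x300c000400000cc200000000000000000000),
  .as (nat_lit 0x200) (nat_lit 0x1) (nat_lit 0x1) (nat_lit 0x140000500004000080000000000000000000),
  .as (nat_lit 0x100) (nat_lit 0x100) (nat_lit 0x8) (nat_lit 0x330000000000080000000000000000),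
  .as (nat_lit 0x100) (nat_lit 0x2) (nat_lit 0x2) (nat_lit 0xc0000110000000003308000000000000001),
  .as (nat_lit 0x80) (nat_lit 0x40) (nat_lit 0x40) (nat_lit 0x1000000000000000000200000000000000),
  .as (nat_lit 0x80) (nat_lit 0x8) (nat_lit 0x8) (nat_lit 0x4000000000000008000000000000),
  .as (nat_lit 0x80) (nat_lit 0x4) (nat_lit 0x4) (nat_lit 0x100010000004000000000000000002),
  .as (nat_lit 0x80) (nat_lit 0x2) (nat_lit 0x2) (nat_lit 0x100001004000000000000332000000000000),
  .as (nat_lit 0x40) (nat_lit 0x40) (nat_lit 0x8) (nat_lit 0x10000000000000000000008000000000),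
  .as (nat_lit 0x40) (nat_lit 0x8) (nat_lit 0x8) (nat_lit 0x1000000000000000008000000000),
  .as (nat_lit 0x40) (nat_lit 0x40) (nat_lit 0x4) (nat_lit 0x338004000003cc0033000000002000000000),
  .as (nat_lit 0x40) (nat_lit 0x4) (nat_lit 0x4) (nat_lit 0x128000000001400411010000002000000000),
  .as (nat_lit 0x40) (nat_lit 0x40) (nat_lit 0x2) (nat_lit 0x303c01000000000000000f00000800000000),
  .as (nat_lit 0x40) (nat_lit 0x2) (nat_lit 0x2) (nat_lit 0x141c01009000000000000401030800000000),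
  .as (nat_lit 0x40) (nat_lit 0x40) (nat_lit 0x1) (nat_lit 0x2000400000000000000f00000200000000),
  .as (nat_lit 0x40) (nat_lit 0x1) (nat_lit 0x1) (nat_lit 0x400400200000000),
  .as (nat_lit 0x20) (nat_lit 0x20) (nat_lit 0x8) (nat_lit 0x33c310000003c30030c00000000008000000),
  .as (nat_lit 0x20) (nat_lit 0x8) (nat_lit 0x8) (nat_lit 0x194010160401401010040000000008000000),
  .as (nat_lit 0x20) (nat_lit 0x20) (nat_lit 0x4) (nat_lit 0x3c0304300c00000000000000000002000000),
  .as (nat_lit 0x20) (nat_lit 0x4) (nat_lit 0x4) (nat_lit 0x140004100010000000400000000002000000),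
  .as (nat_lit 0x20) (nat_lit 0x20) (nat_lit 0x2) (nat_lit 0x20001000003030000000000000000000002),
  .as (nat_lit 0x20) (nat_lit 0x2) (nat_lit 0x2) (nat_lit 0x20c00080401000100000000040030000002),
  .as (nat_lit 0x20) (nat_lit 0x1) (nat_lit 0x1) (nat_lit 0x144000510004000010001000000000800000),
  .as (nat_lit 0x10) (nat_lit 0x8) (nat_lit 0x8) (nat_lit 0x8100000000000404000000080000),
  .as (nat_lit 0x10) (nat_lit 0x10) (nat_lit 0x4) (nat_lit 0x30300000000000000002),
  .as (nat_lit 0x8) (nat_lit 0x8) (nat_lit 0x4) (nat_lit 0x8010000000000c0c000000002000),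
  .as (nat_lit 0x8) (nat_lit 0x4) (nat_lit 0x4) (nat_lit 0x108000000008040400000000002001),
  .as (nat_lit 0x8) (nat_lit 0x8) (nat_lit 0x2) (nat_lit 0xc000000200000000000000030c000000003),
  .as (nat_lit 0x8) (nat_lit 0x2) (nat_lit 0x2) (nat_lit 0x142400006040000000000700104400040002),
  .as (nat_lit 0x4) (nat_lit 0x4) (nat_lit 0x2) (nat_lit 0x3cc300000c000000008040000000c3000002),
  .as (nat_lit 0x4) (nat_lit 0x2) (nat_lit 0x2) (nat_lit 0x2a4500040811020011000000081040000000),
  .as (nat_lit 0x2) (nat_lit 0x2) (nat_lit 0x1) (nat_lit 0x3820c000c204000000000030020100310001),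
  .as (nat_lit 0x2) (nat_lit 0x1) (nat_lit 0x1) (nat_lit 0x110002),
  .as (nat_lit 0x200) (nat_lit 0x10) (nat_lit 0x8) (nat_lit 0xc301000c300300000000000000000000000),
  .as (nat_lit 0x40) (nat_lit 0x20) (nat_lit 0x8) (nat_lit 0x10c410000000040001000000000000000000),
  .as (nat_lit 0x40) (nat_lit 0x10) (nat_lit 0x8) (nat_lit 0x3010000000000000000100000000000000),
  .as (nat_lit 0x20) (nat_lit 0x10) (nat_lit 0x8) (nat_lit 0x30d000000030c00c300040000000000000),
  .as (nat_lit 0x40) (nat_lit 0x4) (nat_lit 0x2) (nat_lit 0x35730c040c0033010cc040c00c0000000003),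
  .as (nat_lit 0x8) (nat_lit 0x4) (nat_lit 0x2) (nat_lit 0x110400000000170005c003c10c3004000000),
  .as (nat_lit 0x40) (nat_lit 0x4) (nat_lit 0x1) (nat_lit 0x155000030000f00041001000000000000003),
  .as (nat_lit 0x4) (nat_lit 0x2) (nat_lit 0x1) (nat_lit 0xcc00000030000001030c000000030400001),
  .fu (nat_lit 0) [nat_lit 0, nat_lit 0] [] (nat_lit 0x904000000000000000300000000000300000),
  .fu (nat_lit 0) [nat_lit 1, nat_lit 1] [] (nat_lit 0x23124c01400003fc000000ff03f00f0300000),
  .fu (nat_lit 0) [nat_lit 2, nat_lit 2] [nat_lit 3] (nat_lit 0x18189200d5b68c443031f03f8c00c0fce7cc3d),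
  .fu (nat_lit 0) [nat_lit 4, nat_lit 4] [nat_lit 5, nat_lit 3] (nat_lit 0x1900db68107d80328300ef002ec0f00fc340002),
  .fu (nat_lit 0) [nat_lit 6, nat_lit 2] [nat_lit 2, nat_lit 6] (nat_lit 0x389003f690c0000004fcf0ffc00000000000),
  .fu (nat_lit 0) [nat_lit 4, nat_lit 7] [nat_lit 7, nat_lit 4, nat_lit 5] (nat_lit 0x10030515040844000000f300434030000c70002),
  .fu (nat_lit 1) [nat_lit 8, nat_lit 8] [] (nat_lit 0x8000132100000003000000000440000040000000),
  .fu (nat_lit 1) [nat_lit 9, nat_lit 10] [nat_lit 10, nat_lit 9] (nat_lit 0x13f3d0dfcf0c000001044000000000000001),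
  .fu (nat_lit 2) [nat_lit 11, nat_lit 11] [] (nat_lit 0x2000002000c0104000000000000400330000300000),
  .fu (nat_lit 3) [nat_lit 12, nat_lit 12] [] (nat_lit 0x800000000000300300000000000000000000300004),
  .fu (nat_lit 3) [nat_lit 13, nat_lit 13] [nat_lit 14] (nat_lit 0x60000003c00c03c003330cc30300c30000040300302),
  .fu (nat_lit 3) [nat_lit 15, nat_lit 15] [nat_lit 14] (nat_lit 0x240000003c00303000c000000000000010000000c000),
  .fu (nat_lit 3) [nat_lit 16, nat_lit 12] [nat_lit 12, nat_lit 16, nat_lit 17] (nat_lit 0x10000000033f00005904010c004300530030000040400),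
  .fu (nat_lit 3) [nat_lit 15, nat_lit 12] [nat_lit 12, nat_lit 15, nat_lit 17] (nat_lit 0x1000000000c10c0000340000000000400000100040000),
  .fu (nat_lit 3) [nat_lit 18, nat_lit 19] [nat_lit 19, nat_lit 18, nat_lit 14] (nat_lit 0x40000003ff304c3cc30f300c0000000000000000000),
  .fu (nat_lit 3) [nat_lit 13, nat_lit 20] [nat_lit 20, nat_lit 13, nat_lit 14] (nat_lit 0x400000035100400000cc0c0cc210030c000100300c1),
  .fu (nat_lit 3) [nat_lit 15, nat_lit 13] [nat_lit 13, nat_lit 15, nat_lit 14] (nat_lit 0x40000000330cc1cc370001000000034040000043000)]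
noncomputable def o8p2s2_l1 : List ℕ := [nat_lit 0x0, nat_lit 0x40000000000000000000000000000000000000, nat_lit 0x1545155411445045154411001045555411415, nat_lit 0x5000400101554005511010055454114010111, nat_lit 0x100000000000000000000000000000000000000, nat_lit 0x40504410100505000541411415511040001041, nat_lit 0x51005500511550050550544414050055510401, nat_lit 0x41045410010510000505011045115540511005, nat_lit 0x100004001505040014004114401010, nat_lit 0x50000000000100000001445, nat_lit 0x100000001505040014004114401010, nat_lit 0x40004000141440000010040004010500510001, nat_lit 0x40004500100410104005040050441404400004, nat_lit 0x40005010505110405455014050415541401045, nat_lit 0x101010500111040005154044105504401400114, nat_lit 0x40004100100510001500000454510545510015, nat_lit 0x105000000004405005000500001, nat_lit 0x40004000100000001505040404040111001414, nat_lit 0x100000550400400000410504414500004, nat_lit 0x1410100550011441415405044450501044, nat_lit 0x40004410100450001441415011144454401045,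 nat_lit 0x101011400511150005150044514444005401100, nat_lit 0x1410100550001441415405044450500045, nat_lit 0x40004000100100001505050400000110001014, nat_lit 0x40004410100550001441414405104454400045, nat_lit 0x100000100000414000004000004, nat_lit 0x40004000100100001505040001140110001010, nat_lit 0x450001100000004514440111005, nat_lit 0x100000000000004040000000000, nat_lit 0x40004000100100001505040400000110001014, nat_lit 0x1145040014005115000010, nat_lit 0x101010500110400004041044115514015100104, nat_lit 0x100, nat_lit 0x40004000100100005505040400004110401015, nat_lit 0x1505040014004115410010, nat_lit 0x141014100010500001140444505445041001105, nat_lit 0x1505040014010115411011, nat_lit 0x40004000100000000405040014404114401010, nat_lit 0x1105040014004115410010, nat_lit 0x141014100000510000401444501554151401105, nat_lit 0x101011000510450000455044150501554401101, nat_lit 0x101010100110540000041444441451051001000, nat_lit 0x40004000100140005505540440000150000001, nat_lit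 0x40001505040010014555001011, nat_lit 0x40004000100040000404000054004114400004, nat_lit 0x40001505040010010114400015, nat_lit 0x40004000100010001505040010140114000010, nat_lit 0x101010100110500001544404511441055401115, nat_lit 0x40001105040050004005400014, nat_lit 0x40004000100000001505044404045111401014, nat_lit 0x40004000100000000405040014000114001010, nat_lit 0x40, nat_lit 0x40004000100000001505040014000114001010, nat_lit 0x101010100110500001544004511445155000105, nat_lit 0x10000000000000, nat_lit 0x100000000000, nat_lit 0x400000, nat_lit 0x4040400000, nat_lit 0x4000400000, nat_lit 0x40004000100000001505044404040110001014, nat_lit 0x40004000100000001505040004000111000010, nat_lit 0x101010100110500001544404511441154400115, nat_lit 0x4000000000000, nat_lit 0x101004, nat_lit 0x10, nat_lit 0x4, nat_lit 0x40000000000, nat_lit 0x10000, nat_lit 0x11001000, nat_lit 0x1000, nat_lit 0x1001000]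
noncomputable def o8p2s2 : SchD where
  P := ⟨nat_lit 2, nat_lit 1, nat_lit 12, nat_lit 12, nat_lit 7, nat_lit 127, (pget (nat_lit 0x8d00116002240043800850010600204003f8007d000f6001e4003b00000000e9001ca00384006e800d9001aa003440066800cb000020031000000000000181002f2005d400b480165002b60055400a480147002700000000000000000261004b200904011880225004220081400f8801e00000000000000000000003a10072200d8401a0803290002200c040170000000000000000000000010005a100ac2014040266804a300886010000000000000000000000000000020007c100eb201b8403088006900b0000000000000000000000000000000000000a0901222000240000808000000000000000000000000000000000000004000e11018120004405000000000000000000000000000000000000000000020010090008203000000000000000000000000000000000000000000000001140100900000000000000000000000000000000000000000000000000000000001) (nat_lit 19) (nat_lit 0x7ffff))⟩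
  m1 := nat_lit 71
  nf := nat_lit 21
  rv := (pget (nat_lit 0x8f8e8d8c8b8a8988878685848281807f7e7d7c7b7a787574737271706f6e6d6c6867666564636261605b5a59585755544e4d4c4b4a494841403f3e3c3433302726241a180d0000) (nat_lit 8) (nat_lit 0xff))
  dk := (pget (nat_lit 0x79563d323125190c90909090) (nat_lit 8) (nat_lit 0xff))
  gl := o8p2s2_gl
  fg := o8p2s2_fg
  fa := (pget (nat_lit 0x3ffff950000) (nat_lit 2) (nat_lit 0x3))
  fr := (pget (nat_lit 0x10004a00080008040800020001480c4a5008a0001400890c4a8003c0600900) (nat_lit 12) (nat_lit 0xfff))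
  fs := (pget (nat_lit 0x9117a5a000803c8c08400694410850ef1c00a00411980d9047a800d3baf0110) (nat_lit 12) (nat_lit 0xfff))
  a := nat_lit 1
  es := [nat_lit 1, nat_lit 4]
  F := nat_lit 225
  c := nat_lit 2
  J := o8p2s2_J
  l1 := lget o8p2s2_l1
  l2 := fun e => Bool.rec (motive := fun _ => ℕ) ((fun e => Bool.rec (motive := fun _ => ℕ) ((fun _ => nat_lit 0) e) (nat_lit 0x8000200000002a0a080008000222040020) (Nat.beq e (nat_lit 1))) e) (nat_lit 0x2020200220a00002a88808a228822a880422a) (Nat.beq e (nat_lit 4))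

noncomputable def o8p2s2L1_g : List ℕ := [nat_lit 0xd7aacdfa0f3b5569, nat_lit 0xde5ddc5a3c10341c, nat_lit 0x14ebdb8458869628, nat_lit 0xf95d66e78660aef6]
noncomputable def o8p2s2L1_key : ℕ → ℕ := keyT a2_8.mul o8p21_key (nat_lit 0x73dcd2d9d5ea29bd) (nat_lit 188)
noncomputable def o8p2s2L1_kt : ℕ → ℕ := pget (nat_lit 0xd500) (nat_lit 8) (nat_lit 0xff)
noncomputable def o8p2s2L1_bt : ℕ → ℕ := pget (nat_lit 0x0) (nat_lit 1) (nat_lit 0x1)
noncomputable def o8p2s2L1 : LvD where
  n := nat_lit 2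
  g := o8p2s2L1_g
  T := [nat_lit 0xd7aacdfa0f3b5569, nat_lit 0xde5ddc5a3c10341c, nat_lit 0x14ebdb8458869628, nat_lit 0xf95d66e78660aef6, nat_lit 0xc137f50faa5a9676, nat_lit 0x9fbe09040a0fa0ff, nat_lit 0x2c29d9237048083, nat_lit 0x96696606678614aa, nat_lit 0x55aaf5fa373bd7eb, nat_lit 0x2cb7b30db95f7b1c, nat_lit 0x52f648730308050a, nat_lit 0x52249da1040f050d]
  ab := nat_lit 0x3007002009008003003003006002002002004001001001000000000000000000000000
  ia := nat_lit 0xa009003007002005001000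
  ib := nat_lit 0xb003009002007001005000
  ent := pget (nat_lit 0x2080) (nat_lit 7) (nat_lit 0x7f)
  key := o8p2s2L1_key
  ks := o8p2s2L1_kt
  loc := locB o8p2s2L1_key o8p2s2L1_kt o8p2s2L1_bt (nat_lit 8)

noncomputable def o8p2s2L1_fix : ℕ → Bool := fixT a2_8.mul o8p21_fix (nat_lit 0x73dcd2d9d5ea29bd) (nat_lit 0x75944ab9d7cf789f)

noncomputable def o8p2s2L2_g : List ℕ := [nat_lit 0xc137f50faa5a9676, nat_lit 0x87facdaa5f860584, nat_lit 0xd940187830b73383, nat_lit 0xd940187830b73383, nat_lit 0x5060e0160af8778]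
noncomputable def o8p2s2L2_key : ℕ → ℕ := keyT a2_8.mul o8p21_key (nat_lit 0xfabc3aa295a0557) (nat_lit 86)
noncomputable def o8p2s2L2_kt : ℕ → ℕ := pget (nat_lit 0xd5bd6800) (nat_lit 8) (nat_lit 0xff)
noncomputable def o8p2s2L2_bt : ℕ → ℕ := pget (nat_lit 0x8) (nat_lit 2) (nat_lit 0x3)
noncomputable def o8p2s2L2 : LvD where
  n := nat_lit 4
  g := o8p2s2L2_g
  T := [nat_lit 0xc137f50faa5a9676, nat_lit 0x87facdaa5f860584, nat_lit 0xd940187830b73383, nat_lit 0xd940187830b73383, nat_lit 0x5060e0160af8778, nat_lit 0x5240481060bed069, nat_lit 0xb407078580de1eb, nat_lit 0xd7284878083b5569, nat_lit 0x526e66696090d010, nat_lit 0x8040201008040201, nat_lit 0xd984dc8330733378, nat_lit 0x1a0661690f5af0fa, nat_lit 0xaea40e1ec2cef90f, nat_lit 0x7b5fdb30ece02c21]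
  ab := nat_lit 0x4008000003004008006003006007004004004005002002002000000000000000000000000000000
  ia := nat_lit 0xc00a008004006003006002001000
  ib := nat_lit 0xd00b004008003006002006001000
  ent := pget (nat_lit 0x70820204000) (nat_lit 14) (nat_lit 0x3fff)
  key := o8p2s2L2_key
  ks := o8p2s2L2_kt
  loc := locB o8p2s2L2_key o8p2s2L2_kt o8p2s2L2_bt (nat_lit 7)

noncomputable def o8p2s2L2_fix : ℕ → Bool := fixT a2_8.mul o8p21_fix (nat_lit 0xfabc3aa295a0557) (nat_lit 0xcd385fbe07528550)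

noncomputable def o8p2s2L3_g : List ℕ := [nat_lit 0x8728b3faf3030583, nat_lit 0x210484030038084, nat_lit 0x8006660108420210, nat_lit 0xc1c20e78a4af4301, nat_lit 0xd0c2a5920f3c5269, nat_lit 0x5240481060bed069]
noncomputable def o8p2s2L3_key : ℕ → ℕ := keyT a2_8.mul o8p21_key (nat_lit 0x343fd5d28255af94) (nat_lit 149)
noncomputable def o8p2s2L3_kt : ℕ → ℕ := pget (nat_lit 0xead5bd8268573f00) (nat_lit 8) (nat_lit 0xff)
noncomputable def o8p2s2L3_bt : ℕ → ℕ := pget (nat_lit 0xd10) (nat_lit 3) (nat_lit 0x7)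
noncomputable def o8p2s2L3 : LvD where
  n := nat_lit 8
  g := o8p2s2L3_g
  T := [nat_lit 0x8728b3faf3030583, nat_lit 0x210484030038084, nat_lit 0x8006660108420210, nat_lit 0xc1c20e78a4af4301, nat_lit 0xd0c2a5920f3c5269, nat_lit 0x5240481060bed069, nat_lit 0x240481060868001, nat_lit 0x528dbfa9b818783, nat_lit 0x43c26678cc2dc101, nat_lit 0x2caaf5923742ae83, nat_lit 0x2010e06671280c2, nat_lit 0x283db8430908040, nat_lit 0x5528b3faf3b9d7eb, nat_lit 0xaeaa9d925fc02c83]
  ab := nat_lit 0x7003000005002001001002007008006003006000000000000000000000000000000000000000000000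
  ia := nat_lit 0xd00c00a009005004008003002001007000
  ib := nat_lit 0x700700700700700700700700700700700700700700700700700700700700700700700700700700700700700700700700700700700700700700700700700700700700700700700700700700700700d00c00b009005004003008002001000007
  ent := pget (nat_lit 0x202078610101038203078410000) (nat_lit 15) (nat_lit 0x7fff)
  key := o8p2s2L3_key
  ks := o8p2s2L3_kt
  loc := locB o8p2s2L3_key o8p2s2L3_kt o8p2s2L3_bt (nat_lit 6)

noncomputable def o8p2s2L3_fix : ℕ → Bool := fixT a2_8.mul o8p21_fix (nat_lit 0x343fd5d28255af94) (nat_lit 0x247ea566b3432c5f)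

noncomputable def o8p2s2L4_g : List ℕ := [nat_lit 0xc183f56e1e3b43c2, nat_lit 0xd7aadc781e3b55eb, nat_lit 0x9669488449861428, nat_lit 0x240481060868001, nat_lit 0x14aaf592371296eb, nat_lit 0xd7eb9d6e1e2d55aa]
noncomputable def o8p2s2L4_key : ℕ → ℕ := keyT a2_8.mul o8p21_key (nat_lit 0x21b7f6e0bd2d0d09) (nat_lit 8)
noncomputable def o8p2s2L4_kt : ℕ → ℕ := pget (nat_lit 0xfcd5bd9468412900) (nat_lit 8) (nat_lit 0xff)
noncomputable def o8p2s2L4_bt : ℕ → ℕ := pget (nat_lit 0xd10) (nat_lit 3) (nat_lit 0x7)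
noncomputable def o8p2s2L4 : LvD where
  n := nat_lit 8
  g := o8p2s2L4_g
  T := [nat_lit 0xc183f56e1e3b43c2, nat_lit 0xd7aadc781e3b55eb, nat_lit 0x9669488449861428, nat_lit 0x240481060868001, nat_lit 0x14aaf592371296eb, nat_lit 0xd7eb9d6e1e2d55aa, nat_lit 0xc1c2f5fa5faf4383, nat_lit 0x96aa9d925f9014eb, nat_lit 0x5528207860b9d769, nat_lit 0x8040201008040201, nat_lit 0x9628481008121469, nat_lit 0x434009fa212dc101, nat_lit 0xc10120ec49b94340]
  ab := nat_lit 0x5007001004000005008008004006003004002005000000000000000000000000000000000000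
  ia := nat_lit 0xc00b00a008007006005004003002001000
  ib := nat_lit 0xc00b00a008007006005004003002001000
  ent := pget (nat_lit 0x8200040a0f0820103c5081408000) (nat_lit 15) (nat_lit 0x7fff)
  key := o8p2s2L4_key
  ks := o8p2s2L4_kt
  loc := locB o8p2s2L4_key o8p2s2L4_kt o8p2s2L4_bt (nat_lit 6)

noncomputable def o8p2s2L4_fix : ℕ → Bool := fixT a2_8.mul o8p21_fix (nat_lit 0x21b7f6e0bd2d0d09) (nat_lit 0xf0e606fc8703cf86)

noncomputable def o8p2s2L5_g : List ℕ := [nat_lit 0x5528207860b9d769, nat_lit 0x8001208449900240, nat_lit 0xc10120ec49b94340]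
noncomputable def o8p2s2L5_key : ℕ → ℕ := keyT a2_8.mul o8p21_key (nat_lit 0x2957abbd4b9099d0) (nat_lit 209)
noncomputable def o8p2s2L5_kt : ℕ → ℕ := pget (nat_lit 0xfcd52900) (nat_lit 8) (nat_lit 0xff)
noncomputable def o8p2s2L5_bt : ℕ → ℕ := pget (nat_lit 0x8) (nat_lit 2) (nat_lit 0x3)
noncomputable def o8p2s2L5 : LvD where
  n := nat_lit 4
  g := o8p2s2L5_g
  T := [nat_lit 0x5528207860b9d769, nat_lit 0x8001208449900240, nat_lit 0xc10120ec49b94340, nat_lit 0xc1402078082d4301, nat_lit 0x1428201060909669, nat_lit 0x556920ec212dd728]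
  ab := nat_lit 0x4002003000001002000000000000000000
  ia := nat_lit 0x5004003002001000
  ib := nat_lit 0x5004003002001000
  ent := pget (nat_lit 0x8101c100) (nat_lit 8) (nat_lit 0xff)
  key := o8p2s2L5_key
  ks := o8p2s2L5_kt
  loc := locB o8p2s2L5_key o8p2s2L5_kt o8p2s2L5_bt (nat_lit 7)

noncomputable def o8p2s2L5_fix : ℕ → Bool := fixT a2_8.mul o8p21_fix (nat_lit 0x2957abbd4b9099d0) (nat_lit 0xab0586af73940b75)

noncomputable def o8p2s2L6_g : List ℕ := [nat_lit 0x556920ec212dd728]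
noncomputable def o8p2s2L6_key : ℕ → ℕ := keyT a2_8.mul o8p21_key (nat_lit 0x2128412055c12dd7) (nat_lit 214)
noncomputable def o8p2s2L6_kt : ℕ → ℕ := pget (nat_lit 0xd500) (nat_lit 8) (nat_lit 0xff)
noncomputable def o8p2s2L6_bt : ℕ → ℕ := pget (nat_lit 0x0) (nat_lit 1) (nat_lit 0x1)
noncomputable def o8p2s2L6 : LvD where
  n := nat_lit 2
  g := o8p2s2L6_g
  T := [nat_lit 0x556920ec212dd728, nat_lit 0x8040201008040201]
  ab := nat_lit 0x0
  ia := nat_lit 0x0
  ib := nat_lit 0x0
  ent := pget (nat_lit 0x2) (nat_lit 1) (nat_lit 0x1)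
  key := o8p2s2L6_key
  ks := o8p2s2L6_kt
  loc := locB o8p2s2L6_key o8p2s2L6_kt o8p2s2L6_bt (nat_lit 8)

noncomputable def o8p2s2L6_fix : ℕ → Bool := fixT a2_8.mul o8p21_fix (nat_lit 0x2128412055c12dd7) (nat_lit 0x24b010fa50d22d90)

noncomputable def o8p2s2L7_g : List ℕ := []
noncomputable def o8p2s2L7_ls : List Lv := []
noncomputable def o8p2s2L6_ls : List Lv := o8p2s2L6.lv a2_8.mul a2_8.one :: o8p2s2L7_ls
noncomputable def o8p2s2L5_ls : List Lv := o8p2s2L5.lv a2_8.mul a2_8.one :: o8p2s2L6_ls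
noncomputable def o8p2s2L4_ls : List Lv := o8p2s2L4.lv a2_8.mul a2_8.one :: o8p2s2L5_ls
noncomputable def o8p2s2L3_ls : List Lv := o8p2s2L3.lv a2_8.mul a2_8.one :: o8p2s2L4_ls
noncomputable def o8p2s2L2_ls : List Lv := o8p2s2L2.lv a2_8.mul a2_8.one :: o8p2s2L3_ls
noncomputable def o8p2s2L1_ls : List Lv := o8p2s2L1.lv a2_8.mul a2_8.one :: o8p2s2L2_ls
noncomputable def o8p2s2_aux : List ℕ := [nat_lit 0xd7aacdfa0f3b5569, nat_lit 0xde5ddc5a3c10341c, nat_lit 0x14ebdb8458869628, nat_lit 0xf95d66e78660aef6, nat_lit 0xd010204058b952ec, nat_lit 0x7bfa9dc20f90f906, nat_lit 0xf958206010b0aea4, nat_lit 0x210484030038084, nat_lit 0x2c29d9237048083, nat_lit 0x2069d83f3c08092, nat_lit 0x55aaf5fa373bd7eb, nat_lit 0x5528207860b9d769, nat_lit 0x87847e0692e78037, nat_lit 0xb7cf489f52695d33, nat_lit 0x3312ed5a42831a2d, nat_lit 0xb44bcf246eb909b7, nat_lit 0x73dcd2d9d5ea29bd, nat_lit 0x75944ab9d7cf789f, nat_lit 0xfabc3aa295a0557, nat_lit 0xcd385fbe07528550, nat_lit 0x343fd5d28255af94,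 nat_lit 0x247ea566b3432c5f, nat_lit 0x21b7f6e0bd2d0d09, nat_lit 0xf0e606fc8703cf86, nat_lit 0x2957abbd4b9099d0, nat_lit 0xab0586af73940b75, nat_lit 0x2128412055c12dd7, nat_lit 0x24b010fa50d22d90]
theorem o8p2s2_sh : o8p2s2.shapeOK = true := by decide +kernel
theorem o8p2s2_fin : o8p2s2.finOK = true := by decide +kernel
theorem o8p2s2_rel_0 : allR (o8p2s2.relOK a2_8.mul (eqbQ a2_8.mul Nat.beq a2_8.one o8p2_zs) a2_8.one) (nat_lit 0) (nat_lit 12) = true := by decide +kernel
theorem o8p2s2_rel : ∀ j < nat_lit 12, (o8p2s2.relOK a2_8.mul (eqbQ a2_8.mul Nat.beq a2_8.one o8p2_zs) a2_8.one) j = true :=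
  (allR_step (c := nat_lit 12) (fun _ h => absurd h (Nat.not_lt_zero _)) o8p2s2_rel_0 (by decide))

theorem o8p2s2_fus_0 : allR (o8p2s2.fusOK a2_8.mul (eqbQ a2_8.mul Nat.beq a2_8.one o8p2_zs) a2_8.one) (nat_lit 0) (nat_lit 21) = true := by decide +kernel
theorem o8p2s2_fus : ∀ j < nat_lit 21, (o8p2s2.fusOK a2_8.mul (eqbQ a2_8.mul Nat.beq a2_8.one o8p2_zs) a2_8.one) j = true :=
  (allR_step (c := nat_lit 21) (fun _ h => absurd h (Nat.not_lt_zero _)) o8p2s2_fus_0 (by decide))

theorem o8p2s2_job_0 : allR o8p2s2.jobOK (nat_lit 0) (nat_lit 74) = true := by decide +kernel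
theorem o8p2s2_job : ∀ j < nat_lit 74, o8p2s2.jobOK j = true :=
  (allR_step (c := nat_lit 74) (fun _ h => absurd h (Nat.not_lt_zero _)) o8p2s2_job_0 (by decide))

theorem o8p2s2L1_ok : o8p2s2L1.ok a2_8.mul (eqbQ a2_8.mul Nat.beq a2_8.one o8p2_zs) a2_8.one = true := by decide +kernel
theorem o8p2s2L1_next : o8p2s2L1.nextOK a2_8.mul a2_8.one o8p2s2L2_g (nat_lit 0x1000007000001000000000003000001000000000003000001000001000000000001000000000005000001) = true := by decide +kernel
theorem o8p2s2L1_fx : allL o8p2s2L1_fix o8p2s2L2_g = true := by decide +kernel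
theorem o8p2s2L1_k_0 : allR (kchk o8p2s2L1_key (o8p2s2L1.lv a2_8.mul a2_8.one).U o8p2s2L1_kt (nat_lit 2)) (nat_lit 0) (nat_lit 2) = true := by decide +kernel
theorem o8p2s2L1_k : ∀ j < nat_lit 2, (kchk o8p2s2L1_key (o8p2s2L1.lv a2_8.mul a2_8.one).U o8p2s2L1_kt (nat_lit 2)) j = true :=
  (allR_step (c := nat_lit 2) (fun _ h => absurd h (Nat.not_lt_zero _)) o8p2s2L1_k_0 (by decide))

theorem o8p2s2L2_ok : o8p2s2L2.ok a2_8.mul (eqbQ a2_8.mul Nat.beq a2_8.one o8p2_zs) a2_8.one = true := by decide +kernel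
theorem o8p2s2L2_next : o8p2s2L2.nextOK a2_8.mul a2_8.one o8p2s2L3_g (nat_lit 0x600000100000300000100000300000200000800000200000000000a000001000002000000000001000003000004000003) = true := by decide +kernel
theorem o8p2s2L2_fx : allL o8p2s2L2_fix o8p2s2L3_g = true := by decide +kernel
theorem o8p2s2L2_k_0 : allR (kchk o8p2s2L2_key (o8p2s2L2.lv a2_8.mul a2_8.one).U o8p2s2L2_kt (nat_lit 4)) (nat_lit 0) (nat_lit 4) = true := by decide +kernel
theorem o8p2s2L2_k : ∀ j < nat_lit 4, (kchk o8p2s2L2_key (o8p2s2L2.lv a2_8.mul a2_8.one).U o8p2s2L2_kt (nat_lit 4)) j = true :=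
  (allR_step (c := nat_lit 4) (fun _ h => absurd h (Nat.not_lt_zero _)) o8p2s2L2_k_0 (by decide))

theorem o8p2s2L3_ok : o8p2s2L3.ok a2_8.mul (eqbQ a2_8.mul Nat.beq a2_8.one o8p2_zs) a2_8.one = true := by decide +kernel
theorem o8p2s2L3_next : o8p2s2L3.nextOK a2_8.mul a2_8.one o8p2s2L4_g (nat_lit 0x600000c000002000003000003000007000000000007000007000006000008000002000007000004000000000005000003000001) = true := by decide +kernel
theorem o8p2s2L3_fx : allL o8p2s2L3_fix o8p2s2L4_g = true := by decide +kernel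
theorem o8p2s2L3_k_0 : allR (kchk o8p2s2L3_key (o8p2s2L3.lv a2_8.mul a2_8.one).U o8p2s2L3_kt (nat_lit 8)) (nat_lit 0) (nat_lit 8) = true := by decide +kernel
theorem o8p2s2L3_k : ∀ j < nat_lit 8, (kchk o8p2s2L3_key (o8p2s2L3.lv a2_8.mul a2_8.one).U o8p2s2L3_kt (nat_lit 8)) j = true :=
  (allR_step (c := nat_lit 8) (fun _ h => absurd h (Nat.not_lt_zero _)) o8p2s2L3_k_0 (by decide))

theorem o8p2s2L4_ok : o8p2s2L4.ok a2_8.mul (eqbQ a2_8.mul Nat.beq a2_8.one o8p2_zs) a2_8.one = true := by decide +kernel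
theorem o8p2s2L4_next : o8p2s2L4.nextOK a2_8.mul a2_8.one o8p2s2L5_g (nat_lit 0x700000500000700000a000004000001000005000004) = true := by decide +kernel
theorem o8p2s2L4_fx : allL o8p2s2L4_fix o8p2s2L5_g = true := by decide +kernel
theorem o8p2s2L4_k_0 : allR (kchk o8p2s2L4_key (o8p2s2L4.lv a2_8.mul a2_8.one).U o8p2s2L4_kt (nat_lit 8)) (nat_lit 0) (nat_lit 8) = true := by decide +kernel
theorem o8p2s2L4_k : ∀ j < nat_lit 8, (kchk o8p2s2L4_key (o8p2s2L4.lv a2_8.mul a2_8.one).U o8p2s2L4_kt (nat_lit 8)) j = true :=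
  (allR_step (c := nat_lit 8) (fun _ h => absurd h (Nat.not_lt_zero _)) o8p2s2L4_k_0 (by decide))

theorem o8p2s2L5_ok : o8p2s2L5.ok a2_8.mul (eqbQ a2_8.mul Nat.beq a2_8.one o8p2_zs) a2_8.one = true := by decide +kernel
theorem o8p2s2L5_next : o8p2s2L5.nextOK a2_8.mul a2_8.one o8p2s2L6_g (nat_lit 0x3000003000002) = true := by decide +kernel
theorem o8p2s2L5_fx : allL o8p2s2L5_fix o8p2s2L6_g = true := by decide +kernel
theorem o8p2s2L5_k_0 : allR (kchk o8p2s2L5_key (o8p2s2L5.lv a2_8.mul a2_8.one).U o8p2s2L5_kt (nat_lit 4)) (nat_lit 0) (nat_lit 4) = true := by decide +kernel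
theorem o8p2s2L5_k : ∀ j < nat_lit 4, (kchk o8p2s2L5_key (o8p2s2L5.lv a2_8.mul a2_8.one).U o8p2s2L5_kt (nat_lit 4)) j = true :=
  (allR_step (c := nat_lit 4) (fun _ h => absurd h (Nat.not_lt_zero _)) o8p2s2L5_k_0 (by decide))

theorem o8p2s2L6_ok : o8p2s2L6.ok a2_8.mul (eqbQ a2_8.mul Nat.beq a2_8.one o8p2_zs) a2_8.one = true := by decide +kernel
theorem o8p2s2L6_next : o8p2s2L6.nextOK a2_8.mul a2_8.one o8p2s2L7_g (nat_lit 0x0) = true := by decide +kernel
theorem o8p2s2L6_fx : allL o8p2s2L6_fix o8p2s2L7_g = true := by decide +kernel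
theorem o8p2s2L6_k_0 : allR (kchk o8p2s2L6_key (o8p2s2L6.lv a2_8.mul a2_8.one).U o8p2s2L6_kt (nat_lit 2)) (nat_lit 0) (nat_lit 2) = true := by decide +kernel
theorem o8p2s2L6_k : ∀ j < nat_lit 2, (kchk o8p2s2L6_key (o8p2s2L6.lv a2_8.mul a2_8.one).U o8p2s2L6_kt (nat_lit 2)) j = true :=
  (allR_step (c := nat_lit 2) (fun _ h => absurd h (Nat.not_lt_zero _)) o8p2s2L6_k_0 (by decide))

theorem o8p2s2_auxok : slpR a2_8.mul a2_8.one (wdsOK a2_8.mul a2_8.one o8p2s2_aux [nat_lit 0x100300a01101902a03305404c05305e05f063, nat_lit 0x100300901201700102601d03200206406105a064062, nat_lit 0x100400a01100f01703203103705e05b, nat_lit 0x100a01100e01703305404c05306005b064, nat_lit 0x100300601100e01a03302903203806105b048059, nat_lit 0x100400901a02d053002060063, nat_lit 0x100400a01101d03d06105f, nat_lit 0x100400901701f02a03303203805905c063, nat_lit 0x100901100f02403303c03a06105a, nat_lit 0x100301100e02101a02903304b000064, nat_lit 0x100400601100f01a01d01d04b000064059061, nat_lit 0x100300a02101a03304b03705e05f063,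 nat_lit 0x100400601a01a03302903c00206106305f, nat_lit 0x100401101902404b06005b, nat_lit 0x1004021019054031059, nat_lit 0x100400a01a01a02102603c03706006305f, nat_lit 0x100300601100f01a01002a03300004c061064059063, nat_lit 0x100402601d05403a03706105905b, nat_lit 0x100400901100f01701f01d01d04b04005b, nat_lit 0x100401100e02101a02402905403a060, nat_lit 0x100300a01201702d02603203103804c06406105a, nat_lit 0x100300a02102903203a06006305c048, nat_lit 0x100400601201700103302903c04006006405c, nat_lit 0x100601201a01002901d03c040061063, nat_lit 0x101100e01700102601d000038061, nat_lit 0x102101d04b03205f, nat_lit 0x100400601101702504004c060061063, nat_lit 0x100901903303203103804c060064066]) (nat_lit 96) (nat_lit 0x3103801d01c03704800000000500000000300000000a00000500800000000600000300000500000000400000000000700900e00000000e00000600000c00000000800a00000000200100100000401800000100000000b00c00b00000200000000000000200000300000500100000000d00700000c00000000a00a00900000000100000000000002600000200001c00002300101a00e00d00601700000200000a00000401400000200100001a00601101100001000000e00000200000000000002000001700001800000400001500001e00000200001301601b01b00800001701700700801300000400001600001600001500000f00c00e00e00000000c00000300000400000400000400a00400000b00b007007005004008002001001005005)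 o8p2_g = true := by decide +kernel
theorem o8p2s2_sbd {G : Type*} [Group G] (M : Model G) (h1 : M.mul = a2_8.mul) (h2 : M.eqb = (eqbQ a2_8.mul Nat.beq a2_8.one o8p2_zs))
    (h3 : M.one = a2_8.one) (vv : ∀ c ∈ o8p2_g, M.In ⊤ c) {St : Subgroup G} (k1 : Key M St o8p21_key o8p21_fix) [Finite G]
    (hN : Nat.card G = 174182400) : SBd 2 2 G := by
  obtain ⟨R, one, mul, eqb, a1, a2, a3⟩ := M
  dsimp only at h1 h2 h3
  subst h1 h2 h3
  set M : Model G := ⟨R, a2_8.one, a2_8.mul, (eqbQ a2_8.mul Nat.beq a2_8.one o8p2_zs), a1, a2, a3⟩ with hM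
  have va := in_of_slpW (M := M) _ vv o8p2s2_auxok
  obtain ⟨to8p2s2L1, hTo8p2s2L1⟩ := exists_R va (c := (nat_lit 0x73dcd2d9d5ea29bd)) (by (try dsimp only [M]); decide +kernel)
  have ko8p2s2L1 : Key M (cjS St to8p2s2L1) o8p2s2L1_key o8p2s2L1_fix := k1.keyT hTo8p2s2L1 (R_inv_of hTo8p2s2L1 (exists_R va (c := (nat_lit 0x75944ab9d7cf789f)) (by (try dsimp only [M]); decide +kernel)) (by (try dsimp only [M]); decide +kernel)) _
  obtain ⟨to8p2s2L2, hTo8p2s2L2⟩ := exists_R va (c := (nat_lit 0xfabc3aa295a0557)) (by (try dsimp only [M]); decide +kernel)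
  have ko8p2s2L2 : Key M (cjS St to8p2s2L2) o8p2s2L2_key o8p2s2L2_fix := k1.keyT hTo8p2s2L2 (R_inv_of hTo8p2s2L2 (exists_R va (c := (nat_lit 0xcd385fbe07528550)) (by (try dsimp only [M]); decide +kernel)) (by (try dsimp only [M]); decide +kernel)) _
  obtain ⟨to8p2s2L3, hTo8p2s2L3⟩ := exists_R va (c := (nat_lit 0x343fd5d28255af94)) (by (try dsimp only [M]); decide +kernel)
  have ko8p2s2L3 : Key M (cjS St to8p2s2L3) o8p2s2L3_key o8p2s2L3_fix := k1.keyT hTo8p2s2L3 (R_inv_of hTo8p2s2L3 (exists_R va (c := (nat_lit 0x247ea566b3432c5f)) (by (try dsimp only [M]); decide +kernel)) (by (try dsimp only [M]); decide +kernel)) _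
  obtain ⟨to8p2s2L4, hTo8p2s2L4⟩ := exists_R va (c := (nat_lit 0x21b7f6e0bd2d0d09)) (by (try dsimp only [M]); decide +kernel)
  have ko8p2s2L4 : Key M (cjS St to8p2s2L4) o8p2s2L4_key o8p2s2L4_fix := k1.keyT hTo8p2s2L4 (R_inv_of hTo8p2s2L4 (exists_R va (c := (nat_lit 0xf0e606fc8703cf86)) (by (try dsimp only [M]); decide +kernel)) (by (try dsimp only [M]); decide +kernel)) _
  obtain ⟨to8p2s2L5, hTo8p2s2L5⟩ := exists_R va (c := (nat_lit 0x2957abbd4b9099d0)) (by (try dsimp only [M]); decide +kernel)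
  have ko8p2s2L5 : Key M (cjS St to8p2s2L5) o8p2s2L5_key o8p2s2L5_fix := k1.keyT hTo8p2s2L5 (R_inv_of hTo8p2s2L5 (exists_R va (c := (nat_lit 0xab0586af73940b75)) (by (try dsimp only [M]); decide +kernel)) (by (try dsimp only [M]); decide +kernel)) _
  obtain ⟨to8p2s2L6, hTo8p2s2L6⟩ := exists_R va (c := (nat_lit 0x2128412055c12dd7)) (by (try dsimp only [M]); decide +kernel)
  have ko8p2s2L6 : Key M (cjS St to8p2s2L6) o8p2s2L6_key o8p2s2L6_fix := k1.keyT hTo8p2s2L6 (R_inv_of hTo8p2s2L6 (exists_R va (c := (nat_lit 0x24b010fa50d22d90)) (by (try dsimp only [M]); decide +kernel)) (by (try dsimp only [M]); decide +kernel)) _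
  have go8p2s2L1 : ∀ c ∈ o8p2s2L1_g, M.In ⊤ c := valid_sub va (by (try dsimp only [M]); decide +kernel)
  have go8p2s2L2 := LvD.valid_next (D := o8p2s2L1) go8p2s2L1 o8p2s2L1_ok o8p2s2L1_next
  have lo8p2s2L1 := LvD.le_next (D := o8p2s2L1) go8p2s2L1 o8p2s2L1_ok o8p2s2L1_next
  have go8p2s2L3 := LvD.valid_next (D := o8p2s2L2) go8p2s2L2 o8p2s2L2_ok o8p2s2L2_next
  have lo8p2s2L2 := LvD.le_next (D := o8p2s2L2) go8p2s2L2 o8p2s2L2_ok o8p2s2L2_next
  have go8p2s2L4 := LvD.valid_next (D := o8p2s2L3) go8p2s2L3 o8p2s2L3_ok o8p2s2L3_next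
  have lo8p2s2L3 := LvD.le_next (D := o8p2s2L3) go8p2s2L3 o8p2s2L3_ok o8p2s2L3_next
  have go8p2s2L5 := LvD.valid_next (D := o8p2s2L4) go8p2s2L4 o8p2s2L4_ok o8p2s2L4_next
  have lo8p2s2L4 := LvD.le_next (D := o8p2s2L4) go8p2s2L4 o8p2s2L4_ok o8p2s2L4_next
  have go8p2s2L6 := LvD.valid_next (D := o8p2s2L5) go8p2s2L5 o8p2s2L5_ok o8p2s2L5_next
  have lo8p2s2L5 := LvD.le_next (D := o8p2s2L5) go8p2s2L5 o8p2s2L5_ok o8p2s2L5_next
  have go8p2s2L7 := LvD.valid_next (D := o8p2s2L6) go8p2s2L6 o8p2s2L6_ok o8p2s2L6_next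
  have lo8p2s2L6 := LvD.le_next (D := o8p2s2L6) go8p2s2L6 o8p2s2L6_ok o8p2s2L6_next
  have co8p2s2L7 : 1 ≤ Nat.card (M.cl o8p2s2L7_g) := Nat.card_pos
  have co8p2s2L6 : 2 ≤ Nat.card (M.cl o8p2s2L6_g) := le_trans (by (try dsimp only [M]); decide +kernel) (LvD.lower (D := o8p2s2L6) go8p2s2L6 o8p2s2L6_ok co8p2s2L7 lo8p2s2L6 ko8p2s2L6 o8p2s2L6_fx o8p2s2L6_k)
  have co8p2s2L5 : 8 ≤ Nat.card (M.cl o8p2s2L5_g) := le_trans (by (try dsimp only [M]); decide +kernel) (LvD.lower (D := o8p2s2L5) go8p2s2L5 o8p2s2L5_ok co8p2s2L6 lo8p2s2L5 ko8p2s2L5 o8p2s2L5_fx o8p2s2L5_k)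
  have co8p2s2L4 : 64 ≤ Nat.card (M.cl o8p2s2L4_g) := le_trans (by (try dsimp only [M]); decide +kernel) (LvD.lower (D := o8p2s2L4) go8p2s2L4 o8p2s2L4_ok co8p2s2L5 lo8p2s2L4 ko8p2s2L4 o8p2s2L4_fx o8p2s2L4_k)
  have co8p2s2L3 : 512 ≤ Nat.card (M.cl o8p2s2L3_g) := le_trans (by (try dsimp only [M]); decide +kernel) (LvD.lower (D := o8p2s2L3) go8p2s2L3 o8p2s2L3_ok co8p2s2L4 lo8p2s2L3 ko8p2s2L3 o8p2s2L3_fx o8p2s2L3_k)
  have co8p2s2L2 : 2048 ≤ Nat.card (M.cl o8p2s2L2_g) := le_trans (by (try dsimp only [M]); decide +kernel) (LvD.lower (D := o8p2s2L2) go8p2s2L2 o8p2s2L2_ok co8p2s2L3 lo8p2s2L2 ko8p2s2L2 o8p2s2L2_fx o8p2s2L2_k)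
  have co8p2s2L1 : 4096 ≤ Nat.card (M.cl o8p2s2L1_g) := le_trans (by (try dsimp only [M]); decide +kernel) (LvD.lower (D := o8p2s2L1) go8p2s2L1 o8p2s2L1_ok co8p2s2L2 lo8p2s2L1 ko8p2s2L1 o8p2s2L1_fx o8p2s2L1_k)
  exact SchD.sbd M o8p2s2 (n := 12) (by norm_num) hN (valid_sub va (by (try dsimp only [M]); decide +kernel)) (valid_sub va (by (try dsimp only [M]); decide +kernel))
    (le_trans (by norm_num) (co8p2s2L1.trans (Subgroup.card_le_of_le (Model.cl_mono (subL_spec (by (try dsimp only [M]); decide +kernel))))))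
    (by decide +kernel) o8p2s2_sh o8p2s2_rel o8p2s2_fus o8p2s2_job o8p2s2_fin

end H29
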