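import Cfsg.Agent.H29.O8p2M

set_option autoImplicit false
set_option maxRecDepth 100000
set_option linter.style.haveILetI false
set_option linter.unusedVariables false
set_option linter.style.longLine false
set_option linter.unusedTactic false
set_option linter.unreachableTactic false

namespace H29

noncomputable def o8p2s3_gl : List ℕ := [nat_lit 0x67685808181a0ec3, nat_lit 0xf6f9fa37871aaefc, nat_lit 0xe628601008060c01, nat_lit 0x424bd09dbb32818, nat_lit 0xbd6882c3c2c00ed2]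
noncomputable def o8p2s3_fg : List ℕ := [nat_lit 0x7e0ed0dbd2926810, nat_lit 0xbd7d82ed7bd59dfc, nat_lit 0xdc9d48967bcce0fc]
noncomputable def o8p2s3_J : List Job := [.as (nat_lit 0x80) (nat_lit 0x40) (nat_lit 0x4) (nat_lit 0x8000000),
  .as (nat_lit 0x20) (nat_lit 0x10) (nat_lit 0x4) (nat_lit 0x20000),
  .as (nat_lit 0x10) (nat_lit 0x4) (nat_lit 0x8) (nat_lit 0x5110000),
  .as (nat_lit 0x100) (nat_lit 0x10) (nat_lit 0x4) (nat_lit 0x2000000),
  .as (nat_lit 0x40) (nat_lit 0x10) (nat_lit 0x4) (nat_lit 0x2800000),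
  .as (nat_lit 0x40) (nat_lit 0x4) (nat_lit 0x1) (nat_lit 0x40000),
  .as (nat_lit 0x10) (nat_lit 0x4) (nat_lit 0x1) (nat_lit 0x1000),
  .fu (nat_lit 0) [nat_lit 0, nat_lit 0, nat_lit 0] [] (nat_lit 0x22a0084),
  .fu (nat_lit 0) [nat_lit 0, nat_lit 1] [nat_lit 1, nat_lit 0] (nat_lit 0x82020),
  .fu (nat_lit 0) [nat_lit 2, nat_lit 3] [nat_lit 3, nat_lit 2] (nat_lit 0x808000),
  .fu (nat_lit 1) [nat_lit 4, nat_lit 4, nat_lit 4] [] (nat_lit 0x8),
  .fu (nat_lit 1) [nat_lit 5, nat_lit 5, nat_lit 5] [] (nat_lit 0x4020800),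
  .fu (nat_lit 2) [nat_lit 6, nat_lit 7] [nat_lit 7, nat_lit 6] (nat_lit 0x41200)]
noncomputable def o8p2s3_l1 : List ℕ := [nat_lit 0x0, nat_lit 0x800000, nat_lit 0x8a000, nat_lit 0x822088, nat_lit 0x8005000, nat_lit 0x2000018, nat_lit 0x4000, nat_lit 0x200600, nat_lit 0x20, nat_lit 0x1000, nat_lit 0x154, nat_lit 0x900, nat_lit 0x200, nat_lit 0x8]
noncomputable def o8p2s3 : SchD where
  P := ⟨nat_lit 3, nat_lit 2, nat_lit 5, nat_lit 11, nat_lit 4, nat_lit 15, (pget (nat_lit 0xd806402e015009000002080f40020300000000052800410000000000000c0840000000000000001) (nat_lit 13) (nat_lit 0x1fff))⟩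
  m1 := nat_lit 14
  nf := nat_lit 8
  rv := (pget (nat_lit 0x317b56928bd8a31400) (nat_lit 5) (nat_lit 0x1f))
  dk := (pget (nat_lit 0x105e739) (nat_lit 5) (nat_lit 0x1f))
  gl := o8p2s3_gl
  fg := o8p2s3_fg
  fa := (pget (nat_lit 0xa500) (nat_lit 2) (nat_lit 0x3))
  fr := (pget (nat_lit 0x3008012100084) (nat_lit 7) (nat_lit 0x7f))
  fs := (pget (nat_lit 0x61298002041800054a) (nat_lit 10) (nat_lit 0x3ff))
  a := nat_lit 0
  es := []
  F := nat_lit 121
  c := nat_lit 2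
  J := o8p2s3_J
  l1 := lget o8p2s3_l1
  l2 := fun _ => nat_lit 0

noncomputable def o8p2s3L1_g : List ℕ := [nat_lit 0x67685808181a0ec3, nat_lit 0xf6f9fa37871aaefc, nat_lit 0xe628601008060c01]
noncomputable def o8p2s3L1_key : ℕ → ℕ := keyT a2_8.mul o8p21_key (nat_lit 0xab94a439d411ca1) (nat_lit 160)
noncomputable def o8p2s3L1_kt : ℕ → ℕ := pget (nat_lit 0xfefcdad4b9b1a9a8a09a967a7363625d514c40373526241f110e00) (nat_lit 8) (nat_lit 0xff)
noncomputable def o8p2s3L1_bt : ℕ → ℕ := pget (nat_lit 0xcde5062080) (nat_lit 5) (nat_lit 0x1f)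
noncomputable def o8p2s3L1 : LvD where
  n := nat_lit 27
  g := o8p2s3L1_g
  T := [nat_lit 0x67685808181a0ec3, nat_lit 0xf6f9fa37871aaefc, nat_lit 0xe628601008060c01, nat_lit 0xe7287818101e0cc2, nat_lit 0x76b9eb85be1e3f5f, nat_lit 0xa4684810080a0e01, nat_lit 0x5a55693b851aa0f0, nat_lit 0x4b844987b01e335d, nat_lit 0x8040201008040201]
  ab := nat_lit 0x3000001004003002002001001000000000000000000000000
  ia := nat_lit 0x7006005002004001003000
  ib := nat_lit 0x3003003003003003003003003003003003003003003003003003003003003003003003003003003003003003003003003003003003003003003003003003003003003003003003003003003003003003003003006007002005001004000003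
  ent := pget (nat_lit 0x7040083914248e10830ca30450c248c12c308a385910248611c30c01820181000080204028271c358a128508020221c350812c40963840000) (nat_lit 17) (nat_lit 0x1ffff)
  key := o8p2s3L1_key
  ks := o8p2s3L1_kt
  loc := locB o8p2s3L1_key o8p2s3L1_kt o8p2s3L1_bt (nat_lit 5)

noncomputable def o8p2s3L1_fix : ℕ → Bool := fixT a2_8.mul o8p21_fix (nat_lit 0xab94a439d411ca1) (nat_lit 0xaea00bd5944314a4)

noncomputable def o8p2s3L2_g : List ℕ := [nat_lit 0xb30ec0c3c28066d2, nat_lit 0xd724a4c3c2aa28d2]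
noncomputable def o8p2s3L2_key : ℕ → ℕ := keyT a2_8.mul o8p21_key (nat_lit 0xa525d0e71e49a485) (nat_lit 132)
noncomputable def o8p2s3L2_kt : ℕ → ℕ := pget (nat_lit 0x191500) (nat_lit 7) (nat_lit 0x7f)
noncomputable def o8p2s3L2_bt : ℕ → ℕ := pget (nat_lit 0x0) (nat_lit 1) (nat_lit 0x1)
noncomputable def o8p2s3L2 : LvD where
  n := nat_lit 3
  g := o8p2s3L2_g
  T := [nat_lit 0xb30ec0c3c28066d2, nat_lit 0xd724a4c3c2aa28d2, nat_lit 0x424bd09dbb32818, nat_lit 0x600ed909db996618]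
  ab := nat_lit 0x1001000000000000000000
  ia := nat_lit 0x3001002000
  ib := nat_lit 0x2002002002002002002002002002002002002002002002002002002002002002002002002002002002002002002002002002002002002002002002002002002002002002002002002002002002002002002002002002002002001003000002
  ent := pget (nat_lit 0x6080) (nat_lit 7) (nat_lit 0x7f)
  key := o8p2s3L2_key
  ks := o8p2s3L2_kt
  loc := locB o8p2s3L2_key o8p2s3L2_kt o8p2s3L2_bt (nat_lit 7)

noncomputable def o8p2s3L2_fix : ℕ → Bool := fixT a2_8.mul o8p21_fix (nat_lit 0xa525d0e71e49a485) (nat_lit 0xc0bd815d3b432d82)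

noncomputable def o8p2s3L3_g : List ℕ := [nat_lit 0x4a40f309dbd70218]
noncomputable def o8p2s3L3_key : ℕ → ℕ := keyT a2_8.mul o8p21_key (nat_lit 0x33e1d9deb9b02d99) (nat_lit 152)
noncomputable def o8p2s3L3_kt : ℕ → ℕ := pget (nat_lit 0xd31900) (nat_lit 8) (nat_lit 0xff)
noncomputable def o8p2s3L3_bt : ℕ → ℕ := pget (nat_lit 0x0) (nat_lit 1) (nat_lit 0x1)
noncomputable def o8p2s3L3 : LvD where
  n := nat_lit 3
  g := o8p2s3L3_g
  T := [nat_lit 0x4a40f309dbd70218, nat_lit 0x9940eac3c2ce02d2]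
  ab := nat_lit 0x0
  ia := nat_lit 0x1000
  ib := nat_lit 0x1001001001001001001001001001001001001001001001001001001001001001001001001001001001001001001001001001001001001001001001001001001001001001001001001001001001001001001001001001001001001001000001
  ent := pget (nat_lit 0x104080) (nat_lit 7) (nat_lit 0x7f)
  key := o8p2s3L3_key
  ks := o8p2s3L3_kt
  loc := locB o8p2s3L3_key o8p2s3L3_kt o8p2s3L3_bt (nat_lit 8)

noncomputable def o8p2s3L3_fix : ℕ → Bool := fixT a2_8.mul o8p21_fix (nat_lit 0x33e1d9deb9b02d99) (nat_lit 0xb32109bed707ecdb)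

noncomputable def o8p2s3L4_g : List ℕ := []
noncomputable def o8p2s3L4_ls : List Lv := []
noncomputable def o8p2s3L3_ls : List Lv := o8p2s3L3.lv a2_8.mul a2_8.one :: o8p2s3L4_ls
noncomputable def o8p2s3L2_ls : List Lv := o8p2s3L2.lv a2_8.mul a2_8.one :: o8p2s3L3_ls
noncomputable def o8p2s3L1_ls : List Lv := o8p2s3L1.lv a2_8.mul a2_8.one :: o8p2s3L2_ls
noncomputable def o8p2s3_aux : List ℕ := [nat_lit 0x67685808181a0ec3, nat_lit 0xf6f9fa37871aaefc, nat_lit 0xe628601008060c01, nat_lit 0x424bd09dbb32818, nat_lit 0xbd6882c3c2c00ed2, nat_lit 0x7e0ed0dbd2926810, nat_lit 0xbd7d82ed7bd59dfc, nat_lit 0xdc9d48967bcce0fc, nat_lit 0xab94a439d411ca1, nat_lit 0xaea00bd5944314a4, nat_lit 0xa525d0e71e49a485, nat_lit 0xc0bd815d3b432d82, nat_lit 0x33e1d9deb9b02d99, nat_lit 0xb32109bed707ecdb]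
theorem o8p2s3_sh : o8p2s3.shapeOK = true := by decide +kernel
theorem o8p2s3_fin : o8p2s3.finOK = true := by decide +kernel
theorem o8p2s3_rel_0 : allR (o8p2s3.relOK a2_8.mul (eqbQ a2_8.mul Nat.beq a2_8.one o8p2_zs) a2_8.one) (nat_lit 0) (nat_lit 5) = true := by decide +kernel
theorem o8p2s3_rel : ∀ j < nat_lit 5, (o8p2s3.relOK a2_8.mul (eqbQ a2_8.mul Nat.beq a2_8.one o8p2_zs) a2_8.one) j = true :=
  (allR_step (c := nat_lit 5) (fun _ h => absurd h (Nat.not_lt_zero _)) o8p2s3_rel_0 (by decide))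

theorem o8p2s3_fus_0 : allR (o8p2s3.fusOK a2_8.mul (eqbQ a2_8.mul Nat.beq a2_8.one o8p2_zs) a2_8.one) (nat_lit 0) (nat_lit 8) = true := by decide +kernel
theorem o8p2s3_fus : ∀ j < nat_lit 8, (o8p2s3.fusOK a2_8.mul (eqbQ a2_8.mul Nat.beq a2_8.one o8p2_zs) a2_8.one) j = true :=
  (allR_step (c := nat_lit 8) (fun _ h => absurd h (Nat.not_lt_zero _)) o8p2s3_fus_0 (by decide))

theorem o8p2s3_job_0 : allR o8p2s3.jobOK (nat_lit 0) (nat_lit 13) = true := by decide +kernel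
theorem o8p2s3_job : ∀ j < nat_lit 13, o8p2s3.jobOK j = true :=
  (allR_step (c := nat_lit 13) (fun _ h => absurd h (Nat.not_lt_zero _)) o8p2s3_job_0 (by decide))

theorem o8p2s3L1_ok : o8p2s3L1.ok a2_8.mul (eqbQ a2_8.mul Nat.beq a2_8.one o8p2_zs) a2_8.one = true := by decide +kernel
theorem o8p2s3L1_next : o8p2s3L1.nextOK a2_8.mul a2_8.one o8p2s3L2_g (nat_lit 0xd00000500000d000004000005000001) = true := by decide +kernel
theorem o8p2s3L1_fx : allL o8p2s3L1_fix o8p2s3L2_g = true := by decide +kernel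
theorem o8p2s3L1_k_0 : allR (kchk o8p2s3L1_key (o8p2s3L1.lv a2_8.mul a2_8.one).U o8p2s3L1_kt (nat_lit 27)) (nat_lit 0) (nat_lit 27) = true := by decide +kernel
theorem o8p2s3L1_k : ∀ j < nat_lit 27, (kchk o8p2s3L1_key (o8p2s3L1.lv a2_8.mul a2_8.one).U o8p2s3L1_kt (nat_lit 27)) j = true :=
  (allR_step (c := nat_lit 27) (fun _ h => absurd h (Nat.not_lt_zero _)) o8p2s3L1_k_0 (by decide))

theorem o8p2s3L2_ok : o8p2s3L2.ok a2_8.mul (eqbQ a2_8.mul Nat.beq a2_8.one o8p2_zs) a2_8.one = true := by decide +kernel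
theorem o8p2s3L2_next : o8p2s3L2.nextOK a2_8.mul a2_8.one o8p2s3L3_g (nat_lit 0x1000001) = true := by decide +kernel
theorem o8p2s3L2_fx : allL o8p2s3L2_fix o8p2s3L3_g = true := by decide +kernel
theorem o8p2s3L2_k_0 : allR (kchk o8p2s3L2_key (o8p2s3L2.lv a2_8.mul a2_8.one).U o8p2s3L2_kt (nat_lit 3)) (nat_lit 0) (nat_lit 3) = true := by decide +kernel
theorem o8p2s3L2_k : ∀ j < nat_lit 3, (kchk o8p2s3L2_key (o8p2s3L2.lv a2_8.mul a2_8.one).U o8p2s3L2_kt (nat_lit 3)) j = true :=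
  (allR_step (c := nat_lit 3) (fun _ h => absurd h (Nat.not_lt_zero _)) o8p2s3L2_k_0 (by decide))

theorem o8p2s3L3_ok : o8p2s3L3.ok a2_8.mul (eqbQ a2_8.mul Nat.beq a2_8.one o8p2_zs) a2_8.one = true := by decide +kernel
theorem o8p2s3L3_next : o8p2s3L3.nextOK a2_8.mul a2_8.one o8p2s3L4_g (nat_lit 0x0) = true := by decide +kernel
theorem o8p2s3L3_fx : allL o8p2s3L3_fix o8p2s3L4_g = true := by decide +kernel
theorem o8p2s3L3_k_0 : allR (kchk o8p2s3L3_key (o8p2s3L3.lv a2_8.mul a2_8.one).U o8p2s3L3_kt (nat_lit 3)) (nat_lit 0) (nat_lit 3) = true := by decide +kernel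
theorem o8p2s3L3_k : ∀ j < nat_lit 3, (kchk o8p2s3L3_key (o8p2s3L3.lv a2_8.mul a2_8.one).U o8p2s3L3_kt (nat_lit 3)) j = true :=
  (allR_step (c := nat_lit 3) (fun _ h => absurd h (Nat.not_lt_zero _)) o8p2s3L3_k_0 (by decide))

theorem o8p2s3_auxok : slpR a2_8.mul a2_8.one (wdsOK a2_8.mul a2_8.one o8p2s3_aux [nat_lit 0x100401001601a026029053043060064, nat_lit 0x100400a01101801f03605503102f06105a, nat_lit 0x100400701b01b02102402a05503003a, nat_lit 0x100501101b02402a04103105205a, nat_lit 0x100400a01802a02b05403b06005105c, nat_lit 0x101001b02a029043061064066, nat_lit 0x100400701000f01b01b02102902905403106105a, nat_lit 0x100500701000f01800102b00200306105a, nat_lit 0x100b01800102a03305306106405c, nat_lit 0x100400701000f02102a02905503102f061000, nat_lit 0x100701000f01b01b02b029053041051065, nat_lit 0x100400b01000f03604103a06005d000, nat_lit 0x100400b01101802a03305503102f05b05d000, nat_lit 0x100400a01b01b02402a05503b05405b061000]) (nat_lit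 96) (nat_lit 0x6406401d01c03e03f02d04f00000000500000000300000000800000500600000000400000900000300000000200600600000000f00000800000d00000000900b00200000100300700000200100100000300f00000c00000b00a00000200000000000000200000300000600100000000501000000400000000200200900000000802700000200001900000302400000100001100900901000800000100000000000001e00000200000200001b00700000c02400001400002700002700002600002001a00500001200400000f00000200000000000001900001100001300000400001000001700000200000e00c01401400000100f00f00f00f00000100000000b000003000005000005000005009000001004004009009005005003002006000) o8p2_g = true := by decide +kernel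
theorem o8p2s3_sbd {G : Type*} [Group G] (M : Model G) (h1 : M.mul = a2_8.mul) (h2 : M.eqb = (eqbQ a2_8.mul Nat.beq a2_8.one o8p2_zs))
    (h3 : M.one = a2_8.one) (vv : ∀ c ∈ o8p2_g, M.In ⊤ c) {St : Subgroup G} (k1 : Key M St o8p21_key o8p21_fix) [Finite G]
    (hN : Nat.card G = 174182400) : SBd 3 0 G := by
  obtain ⟨R, one, mul, eqb, a1, a2, a3⟩ := M
  dsimp only at h1 h2 h3
  subst h1 h2 h3
  set M : Model G := ⟨R, a2_8.one, a2_8.mul, (eqbQ a2_8.mul Nat.beq a2_8.one o8p2_zs), a1, a2, a3⟩ with hM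
  have va := in_of_slpW (M := M) _ vv o8p2s3_auxok
  obtain ⟨to8p2s3L1, hTo8p2s3L1⟩ := exists_R va (c := (nat_lit 0xab94a439d411ca1)) (by (try dsimp only [M]); decide +kernel)
  have ko8p2s3L1 : Key M (cjS St to8p2s3L1) o8p2s3L1_key o8p2s3L1_fix := k1.keyT hTo8p2s3L1 (R_inv_of hTo8p2s3L1 (exists_R va (c := (nat_lit 0xaea00bd5944314a4)) (by (try dsimp only [M]); decide +kernel)) (by (try dsimp only [M]); decide +kernel)) _
  obtain ⟨to8p2s3L2, hTo8p2s3L2⟩ := exists_R va (c := (nat_lit 0xa525d0e71e49a485)) (by (try dsimp only [M]); decide +kernel)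
  have ko8p2s3L2 : Key M (cjS St to8p2s3L2) o8p2s3L2_key o8p2s3L2_fix := k1.keyT hTo8p2s3L2 (R_inv_of hTo8p2s3L2 (exists_R va (c := (nat_lit 0xc0bd815d3b432d82)) (by (try dsimp only [M]); decide +kernel)) (by (try dsimp only [M]); decide +kernel)) _
  obtain ⟨to8p2s3L3, hTo8p2s3L3⟩ := exists_R va (c := (nat_lit 0x33e1d9deb9b02d99)) (by (try dsimp only [M]); decide +kernel)
  have ko8p2s3L3 : Key M (cjS St to8p2s3L3) o8p2s3L3_key o8p2s3L3_fix := k1.keyT hTo8p2s3L3 (R_inv_of hTo8p2s3L3 (exists_R va (c := (nat_lit 0xb32109bed707ecdb)) (by (try dsimp only [M]); decide +kernel)) (by (try dsimp only [M]); decide +kernel)) _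
  have go8p2s3L1 : ∀ c ∈ o8p2s3L1_g, M.In ⊤ c := valid_sub va (by (try dsimp only [M]); decide +kernel)
  have go8p2s3L2 := LvD.valid_next (D := o8p2s3L1) go8p2s3L1 o8p2s3L1_ok o8p2s3L1_next
  have lo8p2s3L1 := LvD.le_next (D := o8p2s3L1) go8p2s3L1 o8p2s3L1_ok o8p2s3L1_next
  have go8p2s3L3 := LvD.valid_next (D := o8p2s3L2) go8p2s3L2 o8p2s3L2_ok o8p2s3L2_next
  have lo8p2s3L2 := LvD.le_next (D := o8p2s3L2) go8p2s3L2 o8p2s3L2_ok o8p2s3L2_next
  have go8p2s3L4 := LvD.valid_next (D := o8p2s3L3) go8p2s3L3 o8p2s3L3_ok o8p2s3L3_next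
  have lo8p2s3L3 := LvD.le_next (D := o8p2s3L3) go8p2s3L3 o8p2s3L3_ok o8p2s3L3_next
  have co8p2s3L4 : 1 ≤ Nat.card (M.cl o8p2s3L4_g) := Nat.card_pos
  have co8p2s3L3 : 3 ≤ Nat.card (M.cl o8p2s3L3_g) := le_trans (by (try dsimp only [M]); decide +kernel) (LvD.lower (D := o8p2s3L3) go8p2s3L3 o8p2s3L3_ok co8p2s3L4 lo8p2s3L3 ko8p2s3L3 o8p2s3L3_fx o8p2s3L3_k)
  have co8p2s3L2 : 9 ≤ Nat.card (M.cl o8p2s3L2_g) := le_trans (by (try dsimp only [M]); decide +kernel) (LvD.lower (D := o8p2s3L2) go8p2s3L2 o8p2s3L2_ok co8p2s3L3 lo8p2s3L2 ko8p2s3L2 o8p2s3L2_fx o8p2s3L2_k)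
  have co8p2s3L1 : 243 ≤ Nat.card (M.cl o8p2s3L1_g) := le_trans (by (try dsimp only [M]); decide +kernel) (LvD.lower (D := o8p2s3L1) go8p2s3L1 o8p2s3L1_ok co8p2s3L2 lo8p2s3L1 ko8p2s3L1 o8p2s3L1_fx o8p2s3L1_k)
  exact SchD.sbd M o8p2s3 (n := 5) (by norm_num) hN (valid_sub va (by (try dsimp only [M]); decide +kernel)) (valid_sub va (by (try dsimp only [M]); decide +kernel))
    (le_trans (by norm_num) (co8p2s3L1.trans (Subgroup.card_le_of_le (Model.cl_mono (subL_spec (by (try dsimp only [M]); decide +kernel))))))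
    (by decide +kernel) o8p2s3_sh o8p2s3_rel o8p2s3_fus o8p2s3_job o8p2s3_fin

end H29
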