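import Cfsg.Agent.H29.O8p2M

set_option autoImplicit false
set_option maxRecDepth 100000
set_option linter.style.haveILetI false
set_option linter.unusedVariables false
set_option linter.style.longLine false
set_option linter.unusedTactic false
set_option linter.unreachableTactic false

namespace H29

noncomputable def o8p2s5_gl : List ℕ := [nat_lit 0xba0db97b293b5abd, nat_lit 0xe0b75d0d9fcd21f6]
noncomputable def o8p2s5_fg : List ℕ := [nat_lit 0x907b06707586db14, nat_lit 0xa4803476839bf330]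
noncomputable def o8p2s5_J : List Job := [.fu (nat_lit 0) [nat_lit 0, nat_lit 1] [nat_lit 1, nat_lit 0] (nat_lit 0x80),
  .fu (nat_lit 0) [nat_lit 1, nat_lit 1, nat_lit 1, nat_lit 1, nat_lit 1] [] (nat_lit 0x210),
  .fu (nat_lit 1) [nat_lit 2, nat_lit 2, nat_lit 2, nat_lit 2, nat_lit 2] [] (nat_lit 0x620)]
noncomputable def o8p2s5_l1 : List ℕ := [nat_lit 0x0, nat_lit 0x500, nat_lit 0x18, nat_lit 0x2c0]
noncomputable def o8p2s5 : SchD where
  P := ⟨nat_lit 5, nat_lit 3, nat_lit 2, nat_lit 13, nat_lit 2, nat_lit 3, (pget (nat_lit 0xe2001) (nat_lit 6) (nat_lit 0x3f))⟩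
  m1 := nat_lit 4
  nf := nat_lit 3
  rv := (pget (nat_lit 0xe0) (nat_lit 2) (nat_lit 0x3))
  dk := (pget (nat_lit 0x24) (nat_lit 3) (nat_lit 0x7))
  gl := o8p2s5_gl
  fg := o8p2s5_fg
  fa := (pget (nat_lit 0x4) (nat_lit 1) (nat_lit 0x1))
  fr := (pget (nat_lit 0x118) (nat_lit 4) (nat_lit 0xf))
  fs := (pget (nat_lit 0x12908) (nat_lit 6) (nat_lit 0x3f))
  a := nat_lit 0
  es := []
  F := nat_lit 195
  c := nat_lit 3
  J := o8p2s5_J
  l1 := lget o8p2s5_l1
  l2 := fun _ => nat_lit 0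

noncomputable def o8p2s5L1_g : List ℕ := [nat_lit 0xba0db97b293b5abd, nat_lit 0xe0b75d0d9fcd21f6]
noncomputable def o8p2s5L1_key : ℕ → ℕ := keyT a2_8.mul o8p21_key (nat_lit 0x349fd5529db4c241) (nat_lit 64)
noncomputable def o8p2s5L1_kt : ℕ → ℕ := pget (nat_lit 0xf1a7392e00) (nat_lit 8) (nat_lit 0xff)
noncomputable def o8p2s5L1_bt : ℕ → ℕ := pget (nat_lit 0xc) (nat_lit 2) (nat_lit 0x3)
noncomputable def o8p2s5L1 : LvD where
  n := nat_lit 5
  g := o8p2s5L1_g
  T := [nat_lit 0xba0db97b293b5abd, nat_lit 0xe0b75d0d9fcd21f6, nat_lit 0xbafec012d0c05d7, nat_lit 0xff1469d71a21db7b, nat_lit 0xaaa1ea468f3abeb, nat_lit 0xc3d794e7dc5a3c96]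
  ab := nat_lit 0x4004001001002002000000000000000000
  ia := nat_lit 0x5001003000
  ib := nat_lit 0x3003003003003003003003003003003003003003003003003003003003003003003003003003003003003003003003003003003003003003003003003003003003003003003003003003003003003003003003003003003003001005000003
  ent := pget (nat_lit 0x1208500080208000) (nat_lit 15) (nat_lit 0x7fff)
  key := o8p2s5L1_key
  ks := o8p2s5L1_kt
  loc := locB o8p2s5L1_key o8p2s5L1_kt o8p2s5L1_bt (nat_lit 7)

noncomputable def o8p2s5L1_fix : ℕ → Bool := fixT a2_8.mul o8p21_fix (nat_lit 0x349fd5529db4c241) (nat_lit 0x84ce2596e63348cf)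

noncomputable def o8p2s5L2_g : List ℕ := [nat_lit 0xc3d794e7dc5a3c96]
noncomputable def o8p2s5L2_key : ℕ → ℕ := keyT a2_8.mul o8p21_key (nat_lit 0x3cff99bd099d4196) (nat_lit 151)
noncomputable def o8p2s5L2_kt : ℕ → ℕ := pget (nat_lit 0xd4977d6000) (nat_lit 8) (nat_lit 0xff)
noncomputable def o8p2s5L2_bt : ℕ → ℕ := pget (nat_lit 0xc) (nat_lit 2) (nat_lit 0x3)
noncomputable def o8p2s5L2 : LvD where
  n := nat_lit 5
  g := o8p2s5L2_g
  T := [nat_lit 0xc3d794e7dc5a3c96, nat_lit 0xbe037e7075d0f542, nat_lit 0xe0b75d0d9fcd21f6]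
  ab := nat_lit 0x1001000000000000
  ia := nat_lit 0x2000
  ib := nat_lit 0x2002002002002002002002002002002002002002002002002002002002002002002002002002002002002002002002002002002002002002002002002002002002002002002002002002002002002002002002002002002002002002000002
  ent := pget (nat_lit 0x1008300098210000) (nat_lit 15) (nat_lit 0x7fff)
  key := o8p2s5L2_key
  ks := o8p2s5L2_kt
  loc := locB o8p2s5L2_key o8p2s5L2_kt o8p2s5L2_bt (nat_lit 7)

noncomputable def o8p2s5L2_fix : ℕ → Bool := fixT a2_8.mul o8p21_fix (nat_lit 0x3cff99bd099d4196) (nat_lit 0xcf5d14e757240d5f)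

noncomputable def o8p2s5L3_g : List ℕ := []
noncomputable def o8p2s5L3_ls : List Lv := []
noncomputable def o8p2s5L2_ls : List Lv := o8p2s5L2.lv a2_8.mul a2_8.one :: o8p2s5L3_ls
noncomputable def o8p2s5L1_ls : List Lv := o8p2s5L1.lv a2_8.mul a2_8.one :: o8p2s5L2_ls
noncomputable def o8p2s5_aux : List ℕ := [nat_lit 0xba0db97b293b5abd, nat_lit 0xe0b75d0d9fcd21f6, nat_lit 0x907b06707586db14, nat_lit 0xa4803476839bf330, nat_lit 0x349fd5529db4c241, nat_lit 0x84ce2596e63348cf, nat_lit 0x3cff99bd099d4196, nat_lit 0xcf5d14e757240d5f]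
theorem o8p2s5_sh : o8p2s5.shapeOK = true := by decide +kernel
theorem o8p2s5_fin : o8p2s5.finOK = true := by decide +kernel
theorem o8p2s5_rel_0 : allR (o8p2s5.relOK a2_8.mul (eqbQ a2_8.mul Nat.beq a2_8.one o8p2_zs) a2_8.one) (nat_lit 0) (nat_lit 2) = true := by decide +kernel
theorem o8p2s5_rel : ∀ j < nat_lit 2, (o8p2s5.relOK a2_8.mul (eqbQ a2_8.mul Nat.beq a2_8.one o8p2_zs) a2_8.one) j = true :=
  (allR_step (c := nat_lit 2) (fun _ h => absurd h (Nat.not_lt_zero _)) o8p2s5_rel_0 (by decide))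

theorem o8p2s5_fus_0 : allR (o8p2s5.fusOK a2_8.mul (eqbQ a2_8.mul Nat.beq a2_8.one o8p2_zs) a2_8.one) (nat_lit 0) (nat_lit 3) = true := by decide +kernel
theorem o8p2s5_fus : ∀ j < nat_lit 3, (o8p2s5.fusOK a2_8.mul (eqbQ a2_8.mul Nat.beq a2_8.one o8p2_zs) a2_8.one) j = true :=
  (allR_step (c := nat_lit 3) (fun _ h => absurd h (Nat.not_lt_zero _)) o8p2s5_fus_0 (by decide))

theorem o8p2s5_job_0 : allR o8p2s5.jobOK (nat_lit 0) (nat_lit 3) = true := by decide +kernel
theorem o8p2s5_job : ∀ j < nat_lit 3, o8p2s5.jobOK j = true :=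
  (allR_step (c := nat_lit 3) (fun _ h => absurd h (Nat.not_lt_zero _)) o8p2s5_job_0 (by decide))

theorem o8p2s5L1_ok : o8p2s5L1.ok a2_8.mul (eqbQ a2_8.mul Nat.beq a2_8.one o8p2_zs) a2_8.one = true := by decide +kernel
theorem o8p2s5L1_next : o8p2s5L1.nextOK a2_8.mul a2_8.one o8p2s5L2_g (nat_lit 0x4000005000004) = true := by decide +kernel
theorem o8p2s5L1_fx : allL o8p2s5L1_fix o8p2s5L2_g = true := by decide +kernel
theorem o8p2s5L1_k_0 : allR (kchk o8p2s5L1_key (o8p2s5L1.lv a2_8.mul a2_8.one).U o8p2s5L1_kt (nat_lit 5)) (nat_lit 0) (nat_lit 5) = true := by decide +kernel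
theorem o8p2s5L1_k : ∀ j < nat_lit 5, (kchk o8p2s5L1_key (o8p2s5L1.lv a2_8.mul a2_8.one).U o8p2s5L1_kt (nat_lit 5)) j = true :=
  (allR_step (c := nat_lit 5) (fun _ h => absurd h (Nat.not_lt_zero _)) o8p2s5L1_k_0 (by decide))

theorem o8p2s5L2_ok : o8p2s5L2.ok a2_8.mul (eqbQ a2_8.mul Nat.beq a2_8.one o8p2_zs) a2_8.one = true := by decide +kernel
theorem o8p2s5L2_next : o8p2s5L2.nextOK a2_8.mul a2_8.one o8p2s5L3_g (nat_lit 0x0) = true := by decide +kernel
theorem o8p2s5L2_fx : allL o8p2s5L2_fix o8p2s5L3_g = true := by decide +kernel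
theorem o8p2s5L2_k_0 : allR (kchk o8p2s5L2_key (o8p2s5L2.lv a2_8.mul a2_8.one).U o8p2s5L2_kt (nat_lit 5)) (nat_lit 0) (nat_lit 5) = true := by decide +kernel
theorem o8p2s5L2_k : ∀ j < nat_lit 5, (kchk o8p2s5L2_key (o8p2s5L2.lv a2_8.mul a2_8.one).U o8p2s5L2_kt (nat_lit 5)) j = true :=
  (allR_step (c := nat_lit 5) (fun _ h => absurd h (Nat.not_lt_zero _)) o8p2s5L2_k_0 (by decide))

theorem o8p2s5_auxok : slpR a2_8.mul a2_8.one (wdsOK a2_8.mul a2_8.one o8p2s5_aux [nat_lit 0x100200900d01402002002e04d03d05e06105a060, nat_lit 0x100300800e01e01c02804603f03c05d059061, nat_lit 0x100300900d01402002001901c02404d03d06105a05f, nat_lit 0x100300e01e02804603f03b05d057062, nat_lit 0x100900102e02303b03505d057061063, nat_lit 0x100300500d01900102502504603d02c05b062, nat_lit 0x100200800d01401902001c02e03700005d05e062055, nat_lit 0x100200d01501902e02804603e03c05d06004b055]) (nat_lit 93) (nat_lit 0x3d03a01e01100000000500000000300000000700000c0050000000030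0000a00000200000700100000000a00001000000800000000100600b00300500000000000800900000000000000000200001300000800100000001300a00000100000001000000100000000d00100000c00000000100000000000001d00000200001400001a00101202001f01700000200000000000000900000200001900000100600700800000800000300001400000001201200000a00900900000700000001d00001600002000002000001f00001901600000701700001200001000000100000101501301201601001000000b00000900000400000a00000e00000200000400600b00b000001006006006006006006000001001001006006) o8p2_g = true := by decide +kernel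
theorem o8p2s5_sbd {G : Type*} [Group G] (M : Model G) (h1 : M.mul = a2_8.mul) (h2 : M.eqb = (eqbQ a2_8.mul Nat.beq a2_8.one o8p2_zs))
    (h3 : M.one = a2_8.one) (vv : ∀ c ∈ o8p2_g, M.In ⊤ c) {St : Subgroup G} (k1 : Key M St o8p21_key o8p21_fix) [Finite G]
    (hN : Nat.card G = 174182400) : SBd 5 0 G := by
  obtain ⟨R, one, mul, eqb, a1, a2, a3⟩ := M
  dsimp only at h1 h2 h3
  subst h1 h2 h3
  set M : Model G := ⟨R, a2_8.one, a2_8.mul, (eqbQ a2_8.mul Nat.beq a2_8.one o8p2_zs), a1, a2, a3⟩ with hM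
  have va := in_of_slpW (M := M) _ vv o8p2s5_auxok
  obtain ⟨to8p2s5L1, hTo8p2s5L1⟩ := exists_R va (c := (nat_lit 0x349fd5529db4c241)) (by (try dsimp only [M]); decide +kernel)
  have ko8p2s5L1 : Key M (cjS St to8p2s5L1) o8p2s5L1_key o8p2s5L1_fix := k1.keyT hTo8p2s5L1 (R_inv_of hTo8p2s5L1 (exists_R va (c := (nat_lit 0x84ce2596e63348cf)) (by (try dsimp only [M]); decide +kernel)) (by (try dsimp only [M]); decide +kernel)) _
  obtain ⟨to8p2s5L2, hTo8p2s5L2⟩ := exists_R va (c := (nat_lit 0x3cff99bd099d4196)) (by (try dsimp only [M]); decide +kernel)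
  have ko8p2s5L2 : Key M (cjS St to8p2s5L2) o8p2s5L2_key o8p2s5L2_fix := k1.keyT hTo8p2s5L2 (R_inv_of hTo8p2s5L2 (exists_R va (c := (nat_lit 0xcf5d14e757240d5f)) (by (try dsimp only [M]); decide +kernel)) (by (try dsimp only [M]); decide +kernel)) _
  have go8p2s5L1 : ∀ c ∈ o8p2s5L1_g, M.In ⊤ c := valid_sub va (by (try dsimp only [M]); decide +kernel)
  have go8p2s5L2 := LvD.valid_next (D := o8p2s5L1) go8p2s5L1 o8p2s5L1_ok o8p2s5L1_next
  have lo8p2s5L1 := LvD.le_next (D := o8p2s5L1) go8p2s5L1 o8p2s5L1_ok o8p2s5L1_next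
  have go8p2s5L3 := LvD.valid_next (D := o8p2s5L2) go8p2s5L2 o8p2s5L2_ok o8p2s5L2_next
  have lo8p2s5L2 := LvD.le_next (D := o8p2s5L2) go8p2s5L2 o8p2s5L2_ok o8p2s5L2_next
  have co8p2s5L3 : 1 ≤ Nat.card (M.cl o8p2s5L3_g) := Nat.card_pos
  have co8p2s5L2 : 5 ≤ Nat.card (M.cl o8p2s5L2_g) := le_trans (by (try dsimp only [M]); decide +kernel) (LvD.lower (D := o8p2s5L2) go8p2s5L2 o8p2s5L2_ok co8p2s5L3 lo8p2s5L2 ko8p2s5L2 o8p2s5L2_fx o8p2s5L2_k)
  have co8p2s5L1 : 25 ≤ Nat.card (M.cl o8p2s5L1_g) := le_trans (by (try dsimp only [M]); decide +kernel) (LvD.lower (D := o8p2s5L1) go8p2s5L1 o8p2s5L1_ok co8p2s5L2 lo8p2s5L1 ko8p2s5L1 o8p2s5L1_fx o8p2s5L1_k)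
  exact SchD.sbd M o8p2s5 (n := 2) (by norm_num) hN (valid_sub va (by (try dsimp only [M]); decide +kernel)) (valid_sub va (by (try dsimp only [M]); decide +kernel))
    (le_trans (by norm_num) (co8p2s5L1.trans (Subgroup.card_le_of_le (Model.cl_mono (subL_spec (by (try dsimp only [M]); decide +kernel))))))
    (by decide +kernel) o8p2s5_sh o8p2s5_rel o8p2s5_fus o8p2s5_job o8p2s5_fin

end H29
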