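import Cfsg.Agent.H29.OnOD

set_option autoImplicit false
set_option maxRecDepth 100000
set_option linter.style.haveILetI false
set_option linter.unusedVariables false
set_option linter.style.longLine false
set_option linter.unusedTactic false
set_option linter.unreachableTactic false

namespace H29

theorem onO_c1 : band (band (Nat.beq (onO_ev [5, 4, 5, 6, 3, 4, 5, 3, 4, 5, 3, 4, 5, 6, 5, 2, 3, 4]) onO_Y) (Nat.beq (onO_ev [5, 3, 2]) onO_G))
    (band (Nat.beq (onO_ev [0, 3, 0, 7]) onO_T) (Nat.beq (onO_ev [1, 3, 0, 2, 3, 2]) onO_T2)) = true := by decide +kernel
theorem onO_c2 : wdsOK a7_45.mul a7_45.one onO_A [nat_lit 0x1002006005004000004003002006007, nat_lit 0x1002007003004006007000004005006, nat_lit 0x1007003000003000, nat_lit 0x1002007003002000003000, nat_lit 0x1003002004000004003006005004003005006001003002, nat_lit 0x1005, nat_lit 0x1005002006005000006000005006, nat_lit 0x1005007006005007000006005001006] on45_g = true := by decide +kernel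
theorem onO_c3 : relsZ a7_45.mul a7_45.one onO_A on45_zs onn_R = true := by decide +kernel
theorem onO_c4 : band (band ((eqbQ a7_45.mul Nat.beq a7_45.one on45_zs) (onO_evA [5, 4, 5, 6, 3, 4, 5, 3, 4, 5, 3, 4, 5, 6, 5, 2, 3, 4]) onO_Y) ((eqbQ a7_45.mul Nat.beq a7_45.one on45_zs) (onO_evA [5, 3, 2]) onO_G))
    ((eqbQ a7_45.mul Nat.beq a7_45.one on45_zs) (onO_evA [0, 3, 0, 7]) onO_T2) = true := by decide +kernel
theorem onO_c5 : (onO_GL.all fun e => force (onO_ev e.2) fun u => force (a7_45.mul onO_G u) fun a => force (a7_45.mul u onO_G) ((eqbQ a7_45.mul Nat.beq a7_45.one on45_zs) a)) = true := by decide +kernel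
theorem onO_c6 : (onO_BL.all fun e => force (onO_ev e.2.1) fun u => force (a7_45.mul onO_G u) fun a =>
    force (onO_ev (H28.expand onH e.2.2)) fun v => force (a7_45.mul u v) ((eqbQ a7_45.mul Nat.beq a7_45.one on45_zs) a)) = true := by decide +kernel
theorem onO_c7 : slpR a7_45.mul a7_45.one (wdsOK a7_45.mul a7_45.one on45_g [nat_lit 0x10c600c02002704d0520a90b10b7, nat_lit 0x10c600202002704d0520a90b10b7, nat_lit 0x100200d, nat_lit 0x100200d001027, nat_lit 0x100c018, nat_lit 0x1002, nat_lit 0x100200d01e027076000066, nat_lit 0x1013]) (nat_lit 196) (nat_lit 0x3402f01601601000000000900700000700001100000300000200000f00000600e01100600000600200001800000800700000700000e00600a00500000400000200000200000400700000e00000600000000400400000d00000200800c00a00005500002b00001100001100000001902800004004c00000100000000000000000000400003300000d00000d00001303100000301e00000001a04200402c00000000303c00000000303d01a03c00001801301701700000f00001000000300000600003300702500903300000300000600001b00001a00000102b00300002c02b00000001b02901a00000702700001000000b00000c02300000102200d00000500000101c00900200001c00000700200c00000000301600000001500200100001500001200000500000300000100000000000000000005400004100000300004500005800000300500100004b00001604702100001a03402603400000200000000000004e00003500000400004500000c00000c00001101400000700000103302f02b00000000202900003200202f03500000103703802902900001b00000a00001900000001700001201100003600000802c00700001200000900000500000100f00c00000200000b02b00e00002a00000800302300000300000500000300600800000100101b01a00000402000001f00001e00000101c01501b01c00800000000401200001200000800001500900600000300700000700500000000100101000f000008005000001003002005000004000000002000002007007006000000003000000000000000000000000)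 [onO_Y, onO_T, on45_z] = true := by decide +kernel

end H29
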