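import Cfsg.Agent.H29.OnOD

set_option autoImplicit false
set_option maxRecDepth 100000
set_option linter.style.haveILetI false
set_option linter.unusedVariables false
set_option linter.style.longLine false
set_option linter.unusedTactic false
set_option linter.unreachableTactic false

namespace H29

theorem onO_t0_0 : ((onQ_cw.take 6).all (onO_tU [])) = true := by decide +kernel
theorem onO_t0_1 : ((onQ_cw.drop 6).all (onO_tU [])) = true := by decide +kernel
theorem onO_t1_0 : ((onQ_cw.take 6).all (onO_tU [0, 3, 0])) = true := by decide +kernel
theorem onO_t1_1 : ((onQ_cw.drop 6).all (onO_tU [0, 3, 0])) = true := by decide +kernel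
theorem onO_t2_0 : ((onQ_cw.take 6).all (onO_tU [1, 3, 0, 2])) = true := by decide +kernel
theorem onO_t2_1 : ((onQ_cw.drop 6).all (onO_tU [1, 3, 0, 2])) = true := by decide +kernel
theorem onO_t3_0 : ((onQ_cw.take 6).all (onO_tU [6, 1, 5, 6, 0, 7, 5, 6])) = true := by decide +kernel

end H29
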