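import Cfsg.Agent.H29.OnOD
import Cfsg.Agent.H29.OnOC1
import Cfsg.Agent.H29.OnOC2
import Cfsg.Agent.H29.OnOC3

set_option autoImplicit false
set_option maxRecDepth 100000
set_option linter.style.haveILetI false
set_option linter.unusedVariables false
set_option linter.style.longLine false
set_option linter.unusedTactic false
set_option linter.unreachableTactic false

namespace H29

theorem onO_t : ∀ e ∈ onO_GL, onQ_cw.all (onO_tU e.2) = true :=
  List.forall_mem_cons.2 ⟨by rw [← List.take_append_drop 6 onQ_cw, List.all_append, onO_t0_0, onO_t0_1]; rfl,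
  List.forall_mem_cons.2 ⟨by rw [← List.take_append_drop 6 onQ_cw, List.all_append, onO_t1_0, onO_t1_1]; rfl,
  List.forall_mem_cons.2 ⟨by rw [← List.take_append_drop 6 onQ_cw, List.all_append, onO_t2_0, onO_t2_1]; rfl,
  List.forall_mem_cons.2 ⟨by rw [← List.take_append_drop 6 onQ_cw, List.all_append, onO_t3_0, onO_t3_1]; rfl,
  List.forall_mem_cons.2 ⟨by rw [← List.take_append_drop 6 onQ_cw, List.all_append, onO_t4_0, onO_t4_1]; rfl,
  List.forall_mem_cons.2 ⟨by rw [← List.take_append_drop 6 onQ_cw, List.all_append, onO_t5_0, onO_t5_1]; rfl,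
  List.forall_mem_nil _⟩⟩⟩⟩⟩⟩

theorem onO_ft {a : ℕ} {k : ℕ → Bool} (h : force a k = true) : k a = true := h

open H27 H28 in
theorem onO_out {G : Type*} [Group G] [Finite G] [IsSimpleGroup G] (M : Model G) (h1 : M.mul = a7_45.mul) (h2 : M.eqb = (eqbQ a7_45.mul Nat.beq a7_45.one on45_zs))
    (h3 : M.one = a7_45.one) {xs ys : List G} (hx : ∀ i, M.R (lgetD a7_45.one on45_g i) (xs.getD i 1))
    (hy : ∀ i, M.R (lgetD a7_45.one onO_A i) (ys.getD i 1)) (φ : G →* G) (hφ : xs.map φ = ys) (hz : M.R on45_z 1)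
    (ht : M.cl on45_g = ⊤) (hN : Nat.card G = 460815505920)
    (hC : ∀ x, x * ev xs [5, 4, 5, 6, 3, 4, 5, 3, 4, 5, 3, 4, 5, 6, 5, 2, 3, 4] = ev xs [5, 4, 5, 6, 3, 4, 5, 3, 4, 5, 3, 4, 5, 6, 5, 2, 3, 4] * x → x ∈ Subgroup.zpowers (ev xs [5, 4, 5, 6, 3, 4, 5, 3, 4, 5, 3, 4, 5, 6, 5, 2, 3, 4]))
    (hT : (∀ e ∈ onO_GL, ev xs [5, 3, 2] * ev xs e.2 = ev xs e.2 * ev xs [5, 3, 2]) →
      (∀ e ∈ onO_BL, ev xs [5, 3, 2] * ev xs e.2.1 = ev xs e.2.1 * ev xs (expand onH e.2.2)) →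
      ∀ x, x * ev xs [5, 3, 2] = ev xs [5, 3, 2] * x → ∃ e ∈ onO_GL, ∃ w ∈ onQ_cw, x = ev xs e.2 * ev xs (expand onH w)) :
    Nat.card (Cfsg.Out G) = 2 := by
  have c5 : ∀ e ∈ onO_GL, M.eqb (M.mul onO_G (onO_ev e.2)) (M.mul (onO_ev e.2) onO_G) = true := fun e he => by
    have := onO_ft (List.all_eq_true.1 onO_c5 e he)
    have := onO_ft this
    have := onO_ft this
    rw [h1, h2]; exact this
  have c6 : ∀ e ∈ onO_BL, M.eqb (M.mul onO_G (onO_ev e.2.1)) (M.mul (onO_ev e.2.1) (onO_ev (expand onH e.2.2))) = true := fun e he => by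
    have := onO_ft (List.all_eq_true.1 onO_c6 e he)
    have := onO_ft this
    have := onO_ft this
    have := onO_ft this
    rw [h1, h2]; exact this
  have ct : ∀ e ∈ onO_GL, ∀ w ∈ onQ_cw, onO_tB (M.mul (onO_ev e.2) (onO_ev (expand onH w))) = true := fun e he w hw => by
    have := List.all_eq_true.1 (onO_t e he) w hw
    unfold onO_tU at this
    have := onO_ft this
    have := onO_ft this
    have := onO_ft this
    rw [h1]; exact this
  obtain ⟨R, one, mul, eqb, a1, a2, a3⟩ := M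
  dsimp only at h1 h2 h3
  subst h1 h2 h3
  set M : Model G := ⟨R, a7_45.one, a7_45.mul, (eqbQ a7_45.mul Nat.beq a7_45.one on45_zs), a1, a2, a3⟩ with hM
  have e1 : ∀ w, M.R (onO_ev w) (ev xs w) := fun w => M.R_prodL (φ := fun i => xs.getD i 1) fun i _ => hx i
  have e2 : ∀ w, M.R (onO_evA w) (φ (ev xs w)) := fun w => by
    rw [← ev_map, hφ]; exact M.R_prodL (φ := fun i => ys.getD i 1) fun i _ => hy i
  have c1 := onO_c1
  have c4 := onO_c4
  simp only [band_iff] at c1 c4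
  have hY : M.R onO_Y (ev xs [5, 4, 5, 6, 3, 4, 5, 3, 4, 5, 3, 4, 5, 6, 5, 2, 3, 4]) := Nat.eq_of_beq_eq_true c1.1.1 ▸ e1 _
  have hG : M.R onO_G (ev xs [5, 3, 2]) := Nat.eq_of_beq_eq_true c1.1.2 ▸ e1 _
  have hH : M.R onO_T (ev xs [0, 3, 0, 7]) := Nat.eq_of_beq_eq_true c1.2.1 ▸ e1 _
  have hH2 : M.R onO_T2 (ev xs [1, 3, 0, 2, 3, 2]) := Nat.eq_of_beq_eq_true c1.2.2 ▸ e1 _
  have f1 := M.eq_of (e2 [5, 4, 5, 6, 3, 4, 5, 3, 4, 5, 3, 4, 5, 6, 5, 2, 3, 4]) hY c4.1.1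
  have f2 := M.eq_of (e2 [5, 3, 2]) hG c4.1.2
  have f3 := M.eq_of (e2 [0, 3, 0, 7]) hH2 c4.2
  have hT := hT (fun e he => M.eq_of (M.R_mul hG (e1 e.2)) (M.R_mul (e1 e.2) hG) (c5 e he))
    (fun e he => M.eq_of (M.R_mul hG (e1 e.2.1)) (M.R_mul (e1 e.2.1) (e1 (expand onH e.2.2))) (c6 e he))
  generalize ev xs [5, 4, 5, 6, 3, 4, 5, 3, 4, 5, 3, 4, 5, 6, 5, 2, 3, 4] = y at *
  generalize ev xs [5, 3, 2] = g at *
  generalize ev xs [0, 3, 0, 7] = h at *
  have hT : ∀ x, x * g ^ 1 = g ^ 1 * x → ∃ c, M.R c x ∧ onO_tB c = true := fun x hx => by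
    obtain ⟨e, he, w, hw, rfl⟩ := hT x (by simpa using hx)
    exact ⟨_, M.R_mul (e1 e.2) (e1 (expand onH w)), ct e he w hw⟩
  have ho : orderOf y = 19 := orderOf_of_ordOK (ps := [19]) hY (by (try dsimp only [M]); decide +kernel) (by norm_num) (by norm_num)
    (mem_of_primeFactorsList (by norm_num) (by simp [Nat.primeFactorsList_prime (show Nat.Prime 19 by norm_num)]))
  have hinj : Function.Injective φ := by
    rcases φ.normal_ker.eq_bot_or_eq_top with e | e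
    · exact (MonoidHom.ker_eq_bot_iff _).1 e
    · have : y = 1 := f1.symm.trans (e.ge (Subgroup.mem_top y))
      rw [this, orderOf_one] at ho
      cases ho
  let α : MulAut G := MulEquiv.ofBijective φ (Finite.injective_iff_bijective.1 hinj)
  have hY' : M.R onO_Y (α y) := M.R_congr hY f1.symm
  have hH' : M.R onO_T2 (α h) := M.R_congr hH2 f3.symm
  have hgen : Subgroup.closure {y, h} = ⊤ := top_le_iff.1 (ht ▸ Model.cl_le (in_of_slpW (M := M) _ (by
    simp only [List.forall_mem_cons]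
    exact ⟨⟨y, Subgroup.subset_closure (by simp), hY⟩, ⟨h, Subgroup.subset_closure (by simp), hH⟩,
      ⟨1, one_mem _, hz⟩, by simp⟩) onO_c7))
  refine out_two_of_cases hgen (not_inner (t := g ^ 1) hY hH hY' hH' (by rw [pow_one]; exact f2) fun x hx => ?_) ?_
  · obtain ⟨c, h4, h5⟩ := hT x hx
    exact ⟨c, h4, (band_iff.1 h5).2⟩
  refine aut_cases (by norm_num) ho (by rw [hN]; norm_num) hC (normB_spec (k := 8) hG hY (by (try dsimp only [M]); decide +kernel) (by norm_num)) (by norm_num)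
    (normB_spec (k := 1) hH (M.R_congr hG (pow_one g).symm) (by (try dsimp only [M]); decide +kernel) (by norm_num)) hY hG hH hY' hH'
    (r1 := onO_r1) (r2 := onO_r2) (k := 6) (rels_lt (by decide)) (rels_lt (by decide)) (by (try dsimp only [M]); decide +kernel) (by (try dsimp only [M]); decide +kernel) (by norm_num) (by norm_num)
    fun x hx => ?_
  obtain ⟨c, h4, h5⟩ := hT x hx
  exact ⟨c, h4, (band_iff.1 h5).1⟩

theorem on_out : Nat.card (Cfsg.Out Cfsg.Spor.ON) = 2 := by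
  obtain ⟨q, hq⟩ := on45_ex
  haveI := on_simple
  obtain ⟨ys, l1, l2, l3⟩ := q.rels (in_of_slpW (M := q.M) 0 (ab := 0) q.valid onO_c2) onO_c3
  obtain ⟨φ, hφ⟩ := onB.hom (ys := ys) l1 l2
  exact onO_out q.M rfl rfl rfl hq l3 φ hφ ⟨q.z, q.hz, q.ker.ge (Subgroup.mem_zpowers _)⟩ q.cl_top on_card on_cy on_cg

end H29
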