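import Cfsg.Agent.H29.OnQ

set_option autoImplicit false
set_option maxRecDepth 100000
set_option linter.style.haveILetI false
set_option linter.unusedVariables false
set_option linter.style.longLine false
set_option linter.unusedTactic false
set_option linter.unreachableTactic false

namespace H29

open H27 H28 MulAction

/-- The points that are visibly moved by the word `w`. -/
noncomputable def mvM (K : ℕ) (Ns : List Net) (w : List ℕ) (c : ℕ) : ℕ :=
  Nat.rec (motive := fun _ => ℕ) 0 (fun i ih => force (idp i K) fun I => force (appW Ns w I) fun J =>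
    force ih fun r => Nat.lor r (Nat.xor I J)) c

theorem mvM_fix {n K j : ℕ} {Ns : List Net} {w : List ℕ} (hok : ∀ g, (nth .nil Ns g).Ok n) (hf : fnW Ns w j = j)
    (c : ℕ) : (mvM K Ns w c).testBit j = false := by
  induction c with
  | zero => exact Nat.zero_testBit j
  | succ c ih =>
    have : mvM K Ns w (c + 1) = mvM K Ns w c ||| (idp c K ^^^ appW Ns w (idp c K)) := rfl
    rw [this, Nat.testBit_or, ih, Nat.testBit_xor, testBit_appW hok, hf]; simp

/-- All fixed points of the word `w` are listed in `J`. -/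
noncomputable def fxChk (K n : ℕ) (Ns : List Net) (w J : List ℕ) : Bool :=
  Nat.beq (Nat.land (Nat.lor (mvM K Ns w K) (orL J)) (ones n)) (ones n)

theorem cent_pt {G Ω : Type*} [Group G] [MulAction G Ω] {n K : ℕ} {e : ℕ → Ω} {xs : List G} {Ns : List Net}
    (M : Mdl n e xs Ns) (hv : Enum.validL n Ns = true) (hn : 0 < n) {w J : List ℕ} (h0 : Nat.beq (fnW Ns w 0) 0 = true)
    (h : fxChk K n Ns w J = true) {x : G} (hx : x * ev xs w = ev xs w * x) : ∃ j ∈ J, x • e 0 = e j := by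
  obtain ⟨j, hj, h1⟩ := M.acts.closed (g := x) (M.top ▸ Subgroup.mem_top x) hn
  have hok := ok_of_validL hv
  have h2 : fnW Ns w j = j := M.inj (fnW_lt hok w hj) hj (by
    rw [← ev_smul M.acts w hj, ← h1, ← mul_smul, ← hx, mul_smul, ev_smul M.acts w hn, Nat.eq_of_beq_eq_true h0])
  have h3 := congrArg (fun z => Nat.testBit z j) (Nat.eq_of_beq_eq_true h)
  change ((mvM K Ns w K ||| orL J) &&& ones n).testBit j = (ones n).testBit j at h3
  rw [Nat.testBit_and, Nat.testBit_or, mvM_fix hok h2, (testBit_ones n j).2 hj] at h3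
  exact ⟨j, (testBit_orL J j).1 (by simpa using h3), h1⟩

theorem on_mem {u : List ℕ} {j : ℕ} {x : Cfsg.Spor.ON} (hu : Nat.beq (fnW onn_Nb u 0) j = true)
    (hx : x • pts onHom 0 = pts onHom j) : (ev onX u)⁻¹ * x ∈ OnH := by
  rw [OnH, ← on_stab, mem_stabilizer_iff, mul_smul, hx, inv_smul_eq_iff, ev_smul onM.acts u (by norm_num),
    Nat.eq_of_beq_eq_true hu]

theorem onW_coe (w : List ℕ) : (onW w : Cfsg.Spor.ON) = ev onX (expand onH w) := ev_expand _ _ _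

def onO_GL : List (ℕ × List ℕ) := [(0, []), (24, [0, 3, 0]), (25, [1, 3, 0, 2]), (111120, [6, 1, 5, 6, 0, 7, 5, 6]), (111168, [6, 1, 5, 6, 2, 3, 0, 7, 5, 6]), (111169, [6, 1, 5, 6, 3, 0, 7, 5, 6, 2])]
def onO_BL : List (ℕ × List ℕ × List ℕ) := [(6, [0, 5, 0], [5, 3, 0, 1]), (40, [0, 5, 3, 0], [5, 3, 1, 0]), (41, [1, 5, 3, 0], [5, 3, 0, 1])]
theorem onO_fy : fxChk 17 122760 onn_Nb [5, 4, 5, 6, 3, 4, 5, 3, 4, 5, 3, 4, 5, 6, 5, 2, 3, 4] [0] = true := by decide +kernel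
theorem onO_fg : fxChk 17 122760 onn_Nb [5, 3, 2] (onO_GL.map Prod.fst ++ onO_BL.map Prod.fst) = true := by decide +kernel
theorem onO_pg : (onO_GL.all fun e => Nat.beq (fnW onn_Nb e.2 0) e.1) = true := by decide +kernel
theorem onO_pb : (onO_BL.all fun e => Nat.beq (fnW onn_Nb e.2.1 0) e.1) = true := by decide +kernel

theorem on_cy (x : Cfsg.Spor.ON) (hx : x * ev onX [5, 4, 5, 6, 3, 4, 5, 3, 4, 5, 3, 4, 5, 6, 5, 2, 3, 4] = ev onX [5, 4, 5, 6, 3, 4, 5, 3, 4, 5, 3, 4, 5, 6, 5, 2, 3, 4] * x) :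
    x ∈ Subgroup.zpowers (ev onX [5, 4, 5, 6, 3, 4, 5, 3, 4, 5, 3, 4, 5, 6, 5, 2, 3, 4]) := by
  obtain ⟨j, hj, h1⟩ := cent_pt onM onn_valb (by norm_num) (by decide +kernel) onO_fy hx
  rw [List.mem_singleton.1 hj] at h1
  have h2 : x ∈ OnH := on_stab.le h1
  have e := onW_coe [3, 2, 3, 4, 1, 2, 3, 1, 2, 3, 1, 2, 3, 4, 3, 0, 1, 2]
  obtain ⟨k, hk⟩ := onH_cent.1 ⟨x, h2⟩ (Subtype.ext (by rw [Subgroup.coe_mul, Subgroup.coe_mul, e]; exact hx))
  exact ⟨k, by have := congrArg Subtype.val hk; rwa [Subgroup.coe_zpow, e] at this⟩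

theorem on_cg (hG : ∀ e ∈ onO_GL, ev onX [5, 3, 2] * ev onX e.2 = ev onX e.2 * ev onX [5, 3, 2])
    (hB : ∀ e ∈ onO_BL, ev onX [5, 3, 2] * ev onX e.2.1 = ev onX e.2.1 * ev onX (expand onH e.2.2))
    (x : Cfsg.Spor.ON) (hx : x * ev onX [5, 3, 2] = ev onX [5, 3, 2] * x) :
    ∃ e ∈ onO_GL, ∃ w ∈ onQ_cw, x = ev onX e.2 * ev onX (expand onH w) := by
  obtain ⟨j, hj, h1⟩ := cent_pt onM onn_valb (by norm_num) (by decide +kernel) onO_fg hx
  have e0 := onW_coe [3, 1, 0]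
  have key : ∀ {u v : Cfsg.Spor.ON}, ev onX [5, 3, 2] * u = u * v → u⁻¹ * x * ev onX [5, 3, 2] = v * (u⁻¹ * x) := by
    intro u v h
    rw [mul_assoc, hx, ← mul_assoc, ← mul_assoc, inv_mul_eq_of_eq_mul h.symm.symm |>.symm]
    group
  rcases List.mem_append.1 hj with h | h
  · obtain ⟨e, he, rfl⟩ := List.mem_map.1 h
    have h2 := on_mem (List.all_eq_true.1 onO_pg e he) h1
    obtain ⟨w, hw, h3⟩ := onH_cent.2.1 ⟨_, h2⟩ (Subtype.ext (by
      rw [Subgroup.coe_mul, Subgroup.coe_mul, e0]; exact key (hG e he)))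
    refine ⟨e, he, w, hw, ?_⟩
    rw [← onW_coe, ← h3]; simp
  · obtain ⟨e, he, rfl⟩ := List.mem_map.1 h
    have h2 := on_mem (List.all_eq_true.1 onO_pb e he) h1
    refine absurd (Subtype.ext ?_) (onH_cent.2.2 e.2.2 ((by decide : ∀ e ∈ onO_BL, e.2.2 ∈ onQ_bad) e he) ⟨_, h2⟩)
    rw [Subgroup.coe_mul, Subgroup.coe_mul, e0, onW_coe]; exact key (hB e he)

end H29
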