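import Cfsg.Agent.H29.RfID

set_option autoImplicit false
set_option maxRecDepth 100000
set_option linter.style.haveILetI false
set_option linter.unusedVariables false
set_option linter.style.longLine false
set_option linter.unusedTactic false
set_option linter.unreachableTactic false

namespace H29

theorem rfA4_ok : rfA4.ok a2_52.mul Nat.beq a2_52.one = true := by decide +kernel
theorem rfA4_next : rfA4.nextOK a2_52.mul a2_52.one rfA5_g (nat_lit 0x6000001000006) = true := by decide +kernel
theorem rfA4_fx : allL rfA4_fix rfA5_g = true := by decide +kernel
theorem rfA4_k_0 : allR (kchk rfA4_key (rfA4.lv a2_52.mul a2_52.one).U rfA4_kt (nat_lit 8)) (nat_lit 0) (nat_lit 8) = true := by decide +kernel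
theorem rfA5_ok : rfA5.ok a2_52.mul Nat.beq a2_52.one = true := by decide +kernel
theorem rfA5_next : rfA5.nextOK a2_52.mul a2_52.one rfA6_g (nat_lit 0x2000001) = true := by decide +kernel
theorem rfA5_fx : allL rfA5_fix rfA6_g = true := by decide +kernel
theorem rfA5_k_0 : allR (kchk rfA5_key (rfA5.lv a2_52.mul a2_52.one).U rfA5_kt (nat_lit 2)) (nat_lit 0) (nat_lit 2) = true := by decide +kernel
theorem rfA6_ok : rfA6.ok a2_52.mul Nat.beq a2_52.one = true := by decide +kernel
theorem rfA6_next : rfA6.nextOK a2_52.mul a2_52.one rfA7_g (nat_lit 0x0) = true := by decide +kernel
theorem rfA6_fx : allL rfA6_fix rfA7_g = true := by decide +kernel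
theorem rfA6_k_0 : allR (kchk rfA6_key (rfA6.lv a2_52.mul a2_52.one).U rfA6_kt (nat_lit 2)) (nat_lit 0) (nat_lit 2) = true := by decide +kernel
theorem rfA_auxok : slpR a2_52.mul a2_52.one (wdsOK a2_52.mul a2_52.one rfA_aux [nat_lit 0x100d02803803807b07307d07b, nat_lit 0x100201700b03803807b06407300c, nat_lit 0x100201702201103804b05907305f, nat_lit 0x100201601701104b03107605f00105f, nat_lit 0x100200d01704205d042, nat_lit 0x100d02800b032032076001064, nat_lit 0x100201601c02c03807b073077000, nat_lit 0x100200402201103005107606307b, nat_lit 0x100d01c01c03005107b063065059, nat_lit 0x100201601c01402c04b07707b073079, nat_lit 0x100200401702202c02d07707607a063, nat_lit 0x101602201c039076076058, nat_lit 0x100b04b059060073, nat_lit 0x100200402201103002d059073000]) (nat_lit 122) (nat_lit 0x7c05b05f05700a00001200001100000700001000000e00000800000100001b01000700507003d00000700400001800000000200000a00900900000e00d00d00000100000000a00000300000200000000b00000601500000f00001500000000000003001102f02e00001000000002601300e00000100000000300000300000600000800700300100000100501c00001b01a00301900001800601d00000000500000100000000200200000000001101e00000500000500003b00000400000800000803a02203a03401d00002a00000000000102802d02302302702900002a02501100000500000300000100000000000000000000700000500000900000e00001c00000f00001402302100000b00000600000000501e01301900000000000000200000001a01801a01600000101500f01301100001300000500000200100001101000e00400000500000100500c00000a00000b00a00a00a007000002000008007007000001003005002000000002)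 tt_T = true := by decide +kernel

end H29
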