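import Cfsg.Agent.H29.Rr3D

set_option autoImplicit false
set_option maxRecDepth 100000
set_option linter.style.haveILetI false
set_option linter.unusedVariables false
set_option linter.style.longLine false
set_option linter.unusedTactic false
set_option linter.unreachableTactic false

namespace H29

theorem rrJ1_ok : rrJ1.ok a2_28.mul Nat.beq a2_28.one = true := by decide +kernel
theorem rrJ1_next : rrJ1.nextOK a2_28.mul a2_28.one rrJ2_g (nat_lit 0x500000200004b00002e000017000020) = true := by decide +kernel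
theorem rrJ1_fx : allL rrJ1_fix rrJ2_g = true := by decide +kernel
theorem rrJ1_s_0 : allR (schk a2_28.mul Nat.beq a2_28.one rrJ1_g (rrJ1.lv a2_28.mul a2_28.one) rrJ2_ls) (nat_lit 0) (nat_lit 78) = true := by decide +kernel
theorem rrJ1_k_0 : allR (kchk rrJ1_key (rrJ1.lv a2_28.mul a2_28.one).U rrJ1_kt (nat_lit 78)) (nat_lit 0) (nat_lit 78) = true := by decide +kernel
theorem rrJ2_ok : rrJ2.ok a2_28.mul Nat.beq a2_28.one = true := by decide +kernel
theorem rrJ2_next : rrJ2.nextOK a2_28.mul a2_28.one rrJ3_g (nat_lit 0xd00000000000d00001500000500000f) = true := by decide +kernel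
theorem rrJ2_fx : allL rrJ2_fix rrJ3_g = true := by decide +kernel
theorem rrJ2_s_0 : allR (schk a2_28.mul Nat.beq a2_28.one rrJ2_g (rrJ2.lv a2_28.mul a2_28.one) rrJ3_ls) (nat_lit 0) (nat_lit 25) = true := by decide +kernel
theorem rrJ2_k_0 : allR (kchk rrJ2_key (rrJ2.lv a2_28.mul a2_28.one).U rrJ2_kt (nat_lit 25)) (nat_lit 0) (nat_lit 25) = true := by decide +kernel
theorem rrJ3_ok : rrJ3.ok a2_28.mul Nat.beq a2_28.one = true := by decide +kernel
theorem rrJ3_next : rrJ3.nextOK a2_28.mul a2_28.one rrJ4_g (nat_lit 0x3000002) = true := by decide +kernel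
theorem rrJ3_fx : allL rrJ3_fix rrJ4_g = true := by decide +kernel
theorem rrJ3_s_0 : allR (schk a2_28.mul Nat.beq a2_28.one rrJ3_g (rrJ3.lv a2_28.mul a2_28.one) rrJ4_ls) (nat_lit 0) (nat_lit 4) = true := by decide +kernel
theorem rrJ3_k_0 : allR (kchk rrJ3_key (rrJ3.lv a2_28.mul a2_28.one).U rrJ3_kt (nat_lit 4)) (nat_lit 0) (nat_lit 4) = true := by decide +kernel
theorem rrJ4_ok : rrJ4.ok a2_28.mul Nat.beq a2_28.one = true := by decide +kernel
theorem rrJ4_next : rrJ4.nextOK a2_28.mul a2_28.one rrJ5_g (nat_lit 0x0) = true := by decide +kernel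
theorem rrJ4_fx : allL rrJ4_fix rrJ5_g = true := by decide +kernel
theorem rrJ4_s_0 : allR (schk a2_28.mul Nat.beq a2_28.one rrJ4_g (rrJ4.lv a2_28.mul a2_28.one) rrJ5_ls) (nat_lit 0) (nat_lit 2) = true := by decide +kernel
theorem rrJ4_k_0 : allR (kchk rrJ4_key (rrJ4.lv a2_28.mul a2_28.one).U rrJ4_kt (nat_lit 2)) (nat_lit 0) (nat_lit 2) = true := by decide +kernel
theorem rrU1_ok : rrU1.ok a2_28.mul Nat.beq a2_28.one = true := by decide +kernel
theorem rrU1_next : rrU1.nextOK a2_28.mul a2_28.one rrU2_g (nat_lit 0xa00000b000018) = true := by decide +kernel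
theorem rrU1_fx : allL rrU1_fix rrU2_g = true := by decide +kernel
theorem rrU1_s_0 : allR (schk a2_28.mul Nat.beq a2_28.one rrU1_g (rrU1.lv a2_28.mul a2_28.one) rrU2_ls) (nat_lit 0) (nat_lit 25) = true := by decide +kernel
theorem rrU1_k_0 : allR (kchk rrU1_key (rrU1.lv a2_28.mul a2_28.one).U rrU1_kt (nat_lit 25)) (nat_lit 0) (nat_lit 25) = true := by decide +kernel
theorem rrU2_ok : rrU2.ok a2_28.mul Nat.beq a2_28.one = true := by decide +kernel
theorem rrU2_next : rrU2.nextOK a2_28.mul a2_28.one rrU3_g (nat_lit 0x2000000000003) = true := by decide +kernel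
theorem rrU2_fx : allL rrU2_fix rrU3_g = true := by decide +kernel

end H29
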