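import Cfsg.Agent.H29.Rr3D

set_option autoImplicit false
set_option maxRecDepth 100000
set_option linter.style.haveILetI false
set_option linter.unusedVariables false
set_option linter.style.longLine false
set_option linter.unusedTactic false
set_option linter.unreachableTactic false

namespace H29

theorem rrD5_dc_5 : allR (dcAt2 a2_28.mul Nat.beq a2_28.one rrK1_ls rrQ1_ls rrD5_x ruA2_g rrD5_ms rrD5_tb (nat_lit 1755)) (nat_lit 750) (nat_lit 150) = true := by decide +kernel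
theorem rrD5_dc_6 : allR (dcAt2 a2_28.mul Nat.beq a2_28.one rrK1_ls rrQ1_ls rrD5_x ruA2_g rrD5_ms rrD5_tb (nat_lit 1755)) (nat_lit 900) (nat_lit 150) = true := by decide +kernel
theorem rrD5_dc_7 : allR (dcAt2 a2_28.mul Nat.beq a2_28.one rrK1_ls rrQ1_ls rrD5_x ruA2_g rrD5_ms rrD5_tb (nat_lit 1755)) (nat_lit 1050) (nat_lit 150) = true := by decide +kernel
theorem rrD5_dc_8 : allR (dcAt2 a2_28.mul Nat.beq a2_28.one rrK1_ls rrQ1_ls rrD5_x ruA2_g rrD5_ms rrD5_tb (nat_lit 1755)) (nat_lit 1200) (nat_lit 150) = true := by decide +kernel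
theorem rrD5_dc_9 : allR (dcAt2 a2_28.mul Nat.beq a2_28.one rrK1_ls rrQ1_ls rrD5_x ruA2_g rrD5_ms rrD5_tb (nat_lit 1755)) (nat_lit 1350) (nat_lit 150) = true := by decide +kernel
theorem rrD5_dc_10 : allR (dcAt2 a2_28.mul Nat.beq a2_28.one rrK1_ls rrQ1_ls rrD5_x ruA2_g rrD5_ms rrD5_tb (nat_lit 1755)) (nat_lit 1500) (nat_lit 150) = true := by decide +kernel
theorem rrD5_dc_11 : allR (dcAt2 a2_28.mul Nat.beq a2_28.one rrK1_ls rrQ1_ls rrD5_x ruA2_g rrD5_ms rrD5_tb (nat_lit 1755)) (nat_lit 1650) (nat_lit 105) = true := by decide +kernel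
theorem rrD6_0 : Nat.beq (dcU2 a2_28.mul a2_28.one rrJ1_ls rrD6_x rrD6_ms 0) a2_28.one = true := by decide +kernel
theorem rrD6_dc_0 : allR (dcAt2 a2_28.mul Nat.beq a2_28.one rrJ1_ls rrQ1_ls rrD6_x ruA2_g rrD6_ms rrD6_tb (nat_lit 1755)) (nat_lit 0) (nat_lit 150) = true := by decide +kernel
theorem rrD6_dc_1 : allR (dcAt2 a2_28.mul Nat.beq a2_28.one rrJ1_ls rrQ1_ls rrD6_x ruA2_g rrD6_ms rrD6_tb (nat_lit 1755)) (nat_lit 150) (nat_lit 150) = true := by decide +kernel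
theorem rrD6_dc_2 : allR (dcAt2 a2_28.mul Nat.beq a2_28.one rrJ1_ls rrQ1_ls rrD6_x ruA2_g rrD6_ms rrD6_tb (nat_lit 1755)) (nat_lit 300) (nat_lit 150) = true := by decide +kernel
theorem rrD6_dc_3 : allR (dcAt2 a2_28.mul Nat.beq a2_28.one rrJ1_ls rrQ1_ls rrD6_x ruA2_g rrD6_ms rrD6_tb (nat_lit 1755)) (nat_lit 450) (nat_lit 150) = true := by decide +kernel
theorem rrD6_dc_4 : allR (dcAt2 a2_28.mul Nat.beq a2_28.one rrJ1_ls rrQ1_ls rrD6_x ruA2_g rrD6_ms rrD6_tb (nat_lit 1755)) (nat_lit 600) (nat_lit 150) = true := by decide +kernel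
theorem rrD6_dc_5 : allR (dcAt2 a2_28.mul Nat.beq a2_28.one rrJ1_ls rrQ1_ls rrD6_x ruA2_g rrD6_ms rrD6_tb (nat_lit 1755)) (nat_lit 750) (nat_lit 150) = true := by decide +kernel
theorem rrD6_dc_6 : allR (dcAt2 a2_28.mul Nat.beq a2_28.one rrJ1_ls rrQ1_ls rrD6_x ruA2_g rrD6_ms rrD6_tb (nat_lit 1755)) (nat_lit 900) (nat_lit 150) = true := by decide +kernel
theorem rrD6_dc_7 : allR (dcAt2 a2_28.mul Nat.beq a2_28.one rrJ1_ls rrQ1_ls rrD6_x ruA2_g rrD6_ms rrD6_tb (nat_lit 1755)) (nat_lit 1050) (nat_lit 150) = true := by decide +kernel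

end H29
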