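import Cfsg.Agent.H29.Rr3D

set_option autoImplicit false
set_option maxRecDepth 100000
set_option linter.style.haveILetI false
set_option linter.unusedVariables false
set_option linter.style.longLine false
set_option linter.unusedTactic false
set_option linter.unreachableTactic false

namespace H29

theorem rrD6_dc_8 : allR (dcAt2 a2_28.mul Nat.beq a2_28.one rrJ1_ls rrQ1_ls rrD6_x ruA2_g rrD6_ms rrD6_tb (nat_lit 1755)) (nat_lit 1200) (nat_lit 150) = true := by decide +kernel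
theorem rrD6_dc_9 : allR (dcAt2 a2_28.mul Nat.beq a2_28.one rrJ1_ls rrQ1_ls rrD6_x ruA2_g rrD6_ms rrD6_tb (nat_lit 1755)) (nat_lit 1350) (nat_lit 150) = true := by decide +kernel
theorem rrD6_dc_10 : allR (dcAt2 a2_28.mul Nat.beq a2_28.one rrJ1_ls rrQ1_ls rrD6_x ruA2_g rrD6_ms rrD6_tb (nat_lit 1755)) (nat_lit 1500) (nat_lit 150) = true := by decide +kernel
theorem rrD6_dc_11 : allR (dcAt2 a2_28.mul Nat.beq a2_28.one rrJ1_ls rrQ1_ls rrD6_x ruA2_g rrD6_ms rrD6_tb (nat_lit 1755)) (nat_lit 1650) (nat_lit 105) = true := by decide +kernel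
theorem rrD5_mv : all1 (mvAt a2_28.mul Nat.beq a2_28.one rrK1_ls rrQ1_ls 20480 5 rrD5_x rrD5_i [4444, 3104, 2454, 2591] (lget [7418, 10866, 13073, 2455, 0, 19992, 16410, 10488, 10806, 0, 756, 15045, 19425, 10598, 0, 15324, 15716, 4493, 12195, 0])) 0 rrD5_x.length = true := by decide +kernel
theorem rrD1_mv : all1 (mvAt2 a2_28.mul Nat.beq a2_28.one rrL1_ls rr_nm 3 rrD1_x rrD1_i [4671, 3293, 7204, 439, 2064]) 0 rrD1_x.length = true := by decide +kernel
theorem rrD2_0 : Nat.beq (dcU2 a2_28.mul a2_28.one rrM1_ls rrD2_x rrD2_ms 0) a2_28.one = true := by decide +kernel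
theorem rrD2_dc_0 : allR (dcAt2 a2_28.mul Nat.beq a2_28.one rrM1_ls rrN1_ls rrD2_x ruA2_g rrD2_ms rrD2_tb (nat_lit 14976)) (nat_lit 0) (nat_lit 200) = true := by decide +kernel
theorem rrD2_dc_1 : allR (dcAt2 a2_28.mul Nat.beq a2_28.one rrM1_ls rrN1_ls rrD2_x ruA2_g rrD2_ms rrD2_tb (nat_lit 14976)) (nat_lit 200) (nat_lit 200) = true := by decide +kernel
theorem rrD2_dc_2 : allR (dcAt2 a2_28.mul Nat.beq a2_28.one rrM1_ls rrN1_ls rrD2_x ruA2_g rrD2_ms rrD2_tb (nat_lit 14976)) (nat_lit 400) (nat_lit 200) = true := by decide +kernel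
theorem rrD2_dc_3 : allR (dcAt2 a2_28.mul Nat.beq a2_28.one rrM1_ls rrN1_ls rrD2_x ruA2_g rrD2_ms rrD2_tb (nat_lit 14976)) (nat_lit 600) (nat_lit 200) = true := by decide +kernel
theorem rrD2_dc_4 : allR (dcAt2 a2_28.mul Nat.beq a2_28.one rrM1_ls rrN1_ls rrD2_x ruA2_g rrD2_ms rrD2_tb (nat_lit 14976)) (nat_lit 800) (nat_lit 200) = true := by decide +kernel
theorem rrD2_dc_5 : allR (dcAt2 a2_28.mul Nat.beq a2_28.one rrM1_ls rrN1_ls rrD2_x ruA2_g rrD2_ms rrD2_tb (nat_lit 14976)) (nat_lit 1000) (nat_lit 200) = true := by decide +kernel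
theorem rrD2_dc_6 : allR (dcAt2 a2_28.mul Nat.beq a2_28.one rrM1_ls rrN1_ls rrD2_x ruA2_g rrD2_ms rrD2_tb (nat_lit 14976)) (nat_lit 1200) (nat_lit 200) = true := by decide +kernel
theorem rrD2_dc_7 : allR (dcAt2 a2_28.mul Nat.beq a2_28.one rrM1_ls rrN1_ls rrD2_x ruA2_g rrD2_ms rrD2_tb (nat_lit 14976)) (nat_lit 1400) (nat_lit 200) = true := by decide +kernel
theorem rrD2_dc_8 : allR (dcAt2 a2_28.mul Nat.beq a2_28.one rrM1_ls rrN1_ls rrD2_x ruA2_g rrD2_ms rrD2_tb (nat_lit 14976)) (nat_lit 1600) (nat_lit 200) = true := by decide +kernel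

end H29
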