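import Cfsg.Agent.H29.Rr3D

set_option autoImplicit false
set_option maxRecDepth 100000
set_option linter.style.haveILetI false
set_option linter.unusedVariables false
set_option linter.style.longLine false
set_option linter.unusedTactic false
set_option linter.unreachableTactic false

namespace H29

theorem rrD2_dc_9 : allR (dcAt2 a2_28.mul Nat.beq a2_28.one rrM1_ls rrN1_ls rrD2_x ruA2_g rrD2_ms rrD2_tb (nat_lit 14976)) (nat_lit 1800) (nat_lit 200) = true := by decide +kernel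
theorem rrD2_dc_10 : allR (dcAt2 a2_28.mul Nat.beq a2_28.one rrM1_ls rrN1_ls rrD2_x ruA2_g rrD2_ms rrD2_tb (nat_lit 14976)) (nat_lit 2000) (nat_lit 200) = true := by decide +kernel
theorem rrD2_dc_11 : allR (dcAt2 a2_28.mul Nat.beq a2_28.one rrM1_ls rrN1_ls rrD2_x ruA2_g rrD2_ms rrD2_tb (nat_lit 14976)) (nat_lit 2200) (nat_lit 200) = true := by decide +kernel
theorem rrD2_dc_12 : allR (dcAt2 a2_28.mul Nat.beq a2_28.one rrM1_ls rrN1_ls rrD2_x ruA2_g rrD2_ms rrD2_tb (nat_lit 14976)) (nat_lit 2400) (nat_lit 200) = true := by decide +kernel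
theorem rrD2_dc_13 : allR (dcAt2 a2_28.mul Nat.beq a2_28.one rrM1_ls rrN1_ls rrD2_x ruA2_g rrD2_ms rrD2_tb (nat_lit 14976)) (nat_lit 2600) (nat_lit 200) = true := by decide +kernel
theorem rrD2_dc_14 : allR (dcAt2 a2_28.mul Nat.beq a2_28.one rrM1_ls rrN1_ls rrD2_x ruA2_g rrD2_ms rrD2_tb (nat_lit 14976)) (nat_lit 2800) (nat_lit 200) = true := by decide +kernel
theorem rrD2_dc_15 : allR (dcAt2 a2_28.mul Nat.beq a2_28.one rrM1_ls rrN1_ls rrD2_x ruA2_g rrD2_ms rrD2_tb (nat_lit 14976)) (nat_lit 3000) (nat_lit 200) = true := by decide +kernel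
theorem rrD2_dc_16 : allR (dcAt2 a2_28.mul Nat.beq a2_28.one rrM1_ls rrN1_ls rrD2_x ruA2_g rrD2_ms rrD2_tb (nat_lit 14976)) (nat_lit 3200) (nat_lit 200) = true := by decide +kernel
theorem rrD2_dc_17 : allR (dcAt2 a2_28.mul Nat.beq a2_28.one rrM1_ls rrN1_ls rrD2_x ruA2_g rrD2_ms rrD2_tb (nat_lit 14976)) (nat_lit 3400) (nat_lit 200) = true := by decide +kernel
theorem rrD2_dc_18 : allR (dcAt2 a2_28.mul Nat.beq a2_28.one rrM1_ls rrN1_ls rrD2_x ruA2_g rrD2_ms rrD2_tb (nat_lit 14976)) (nat_lit 3600) (nat_lit 200) = true := by decide +kernel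
theorem rrD2_dc_19 : allR (dcAt2 a2_28.mul Nat.beq a2_28.one rrM1_ls rrN1_ls rrD2_x ruA2_g rrD2_ms rrD2_tb (nat_lit 14976)) (nat_lit 3800) (nat_lit 200) = true := by decide +kernel
theorem rrD2_dc_20 : allR (dcAt2 a2_28.mul Nat.beq a2_28.one rrM1_ls rrN1_ls rrD2_x ruA2_g rrD2_ms rrD2_tb (nat_lit 14976)) (nat_lit 4000) (nat_lit 200) = true := by decide +kernel
theorem rrD2_dc_21 : allR (dcAt2 a2_28.mul Nat.beq a2_28.one rrM1_ls rrN1_ls rrD2_x ruA2_g rrD2_ms rrD2_tb (nat_lit 14976)) (nat_lit 4200) (nat_lit 200) = true := by decide +kernel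
theorem rrD2_dc_22 : allR (dcAt2 a2_28.mul Nat.beq a2_28.one rrM1_ls rrN1_ls rrD2_x ruA2_g rrD2_ms rrD2_tb (nat_lit 14976)) (nat_lit 4400) (nat_lit 200) = true := by decide +kernel
theorem rrD2_dc_23 : allR (dcAt2 a2_28.mul Nat.beq a2_28.one rrM1_ls rrN1_ls rrD2_x ruA2_g rrD2_ms rrD2_tb (nat_lit 14976)) (nat_lit 4600) (nat_lit 200) = true := by decide +kernel
theorem rrD2_dc_24 : allR (dcAt2 a2_28.mul Nat.beq a2_28.one rrM1_ls rrN1_ls rrD2_x ruA2_g rrD2_ms rrD2_tb (nat_lit 14976)) (nat_lit 4800) (nat_lit 200) = true := by decide +kernel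

end H29
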