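import Cfsg.Agent.H29.Rr3D

set_option autoImplicit false
set_option maxRecDepth 100000
set_option linter.style.haveILetI false
set_option linter.unusedVariables false
set_option linter.style.longLine false
set_option linter.unusedTactic false
set_option linter.unreachableTactic false

namespace H29

theorem rrD2_dc_25 : allR (dcAt2 a2_28.mul Nat.beq a2_28.one rrM1_ls rrN1_ls rrD2_x ruA2_g rrD2_ms rrD2_tb (nat_lit 14976)) (nat_lit 5000) (nat_lit 200) = true := by decide +kernel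
theorem rrD2_dc_26 : allR (dcAt2 a2_28.mul Nat.beq a2_28.one rrM1_ls rrN1_ls rrD2_x ruA2_g rrD2_ms rrD2_tb (nat_lit 14976)) (nat_lit 5200) (nat_lit 200) = true := by decide +kernel
theorem rrD2_dc_27 : allR (dcAt2 a2_28.mul Nat.beq a2_28.one rrM1_ls rrN1_ls rrD2_x ruA2_g rrD2_ms rrD2_tb (nat_lit 14976)) (nat_lit 5400) (nat_lit 200) = true := by decide +kernel
theorem rrD2_dc_28 : allR (dcAt2 a2_28.mul Nat.beq a2_28.one rrM1_ls rrN1_ls rrD2_x ruA2_g rrD2_ms rrD2_tb (nat_lit 14976)) (nat_lit 5600) (nat_lit 200) = true := by decide +kernel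
theorem rrD2_dc_29 : allR (dcAt2 a2_28.mul Nat.beq a2_28.one rrM1_ls rrN1_ls rrD2_x ruA2_g rrD2_ms rrD2_tb (nat_lit 14976)) (nat_lit 5800) (nat_lit 200) = true := by decide +kernel
theorem rrD2_dc_30 : allR (dcAt2 a2_28.mul Nat.beq a2_28.one rrM1_ls rrN1_ls rrD2_x ruA2_g rrD2_ms rrD2_tb (nat_lit 14976)) (nat_lit 6000) (nat_lit 200) = true := by decide +kernel
theorem rrD2_dc_31 : allR (dcAt2 a2_28.mul Nat.beq a2_28.one rrM1_ls rrN1_ls rrD2_x ruA2_g rrD2_ms rrD2_tb (nat_lit 14976)) (nat_lit 6200) (nat_lit 200) = true := by decide +kernel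
theorem rrD2_dc_32 : allR (dcAt2 a2_28.mul Nat.beq a2_28.one rrM1_ls rrN1_ls rrD2_x ruA2_g rrD2_ms rrD2_tb (nat_lit 14976)) (nat_lit 6400) (nat_lit 200) = true := by decide +kernel
theorem rrD2_dc_33 : allR (dcAt2 a2_28.mul Nat.beq a2_28.one rrM1_ls rrN1_ls rrD2_x ruA2_g rrD2_ms rrD2_tb (nat_lit 14976)) (nat_lit 6600) (nat_lit 200) = true := by decide +kernel
theorem rrD2_dc_34 : allR (dcAt2 a2_28.mul Nat.beq a2_28.one rrM1_ls rrN1_ls rrD2_x ruA2_g rrD2_ms rrD2_tb (nat_lit 14976)) (nat_lit 6800) (nat_lit 200) = true := by decide +kernel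
theorem rrD2_dc_35 : allR (dcAt2 a2_28.mul Nat.beq a2_28.one rrM1_ls rrN1_ls rrD2_x ruA2_g rrD2_ms rrD2_tb (nat_lit 14976)) (nat_lit 7000) (nat_lit 200) = true := by decide +kernel
theorem rrD2_dc_36 : allR (dcAt2 a2_28.mul Nat.beq a2_28.one rrM1_ls rrN1_ls rrD2_x ruA2_g rrD2_ms rrD2_tb (nat_lit 14976)) (nat_lit 7200) (nat_lit 200) = true := by decide +kernel
theorem rrD2_dc_37 : allR (dcAt2 a2_28.mul Nat.beq a2_28.one rrM1_ls rrN1_ls rrD2_x ruA2_g rrD2_ms rrD2_tb (nat_lit 14976)) (nat_lit 7400) (nat_lit 200) = true := by decide +kernel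
theorem rrD2_dc_38 : allR (dcAt2 a2_28.mul Nat.beq a2_28.one rrM1_ls rrN1_ls rrD2_x ruA2_g rrD2_ms rrD2_tb (nat_lit 14976)) (nat_lit 7600) (nat_lit 200) = true := by decide +kernel
theorem rrD2_dc_39 : allR (dcAt2 a2_28.mul Nat.beq a2_28.one rrM1_ls rrN1_ls rrD2_x ruA2_g rrD2_ms rrD2_tb (nat_lit 14976)) (nat_lit 7800) (nat_lit 200) = true := by decide +kernel
theorem rrD2_dc_40 : allR (dcAt2 a2_28.mul Nat.beq a2_28.one rrM1_ls rrN1_ls rrD2_x ruA2_g rrD2_ms rrD2_tb (nat_lit 14976)) (nat_lit 8000) (nat_lit 200) = true := by decide +kernel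

end H29
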