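import Cfsg.Agent.H29.Rr3D

set_option autoImplicit false
set_option maxRecDepth 100000
set_option linter.style.haveILetI false
set_option linter.unusedVariables false
set_option linter.style.longLine false
set_option linter.unusedTactic false
set_option linter.unreachableTactic false

namespace H29

theorem rrD2_dc_41 : allR (dcAt2 a2_28.mul Nat.beq a2_28.one rrM1_ls rrN1_ls rrD2_x ruA2_g rrD2_ms rrD2_tb (nat_lit 14976)) (nat_lit 8200) (nat_lit 200) = true := by decide +kernel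
theorem rrD2_dc_42 : allR (dcAt2 a2_28.mul Nat.beq a2_28.one rrM1_ls rrN1_ls rrD2_x ruA2_g rrD2_ms rrD2_tb (nat_lit 14976)) (nat_lit 8400) (nat_lit 200) = true := by decide +kernel
theorem rrD2_dc_43 : allR (dcAt2 a2_28.mul Nat.beq a2_28.one rrM1_ls rrN1_ls rrD2_x ruA2_g rrD2_ms rrD2_tb (nat_lit 14976)) (nat_lit 8600) (nat_lit 200) = true := by decide +kernel
theorem rrD2_dc_44 : allR (dcAt2 a2_28.mul Nat.beq a2_28.one rrM1_ls rrN1_ls rrD2_x ruA2_g rrD2_ms rrD2_tb (nat_lit 14976)) (nat_lit 8800) (nat_lit 200) = true := by decide +kernel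
theorem rrD2_dc_45 : allR (dcAt2 a2_28.mul Nat.beq a2_28.one rrM1_ls rrN1_ls rrD2_x ruA2_g rrD2_ms rrD2_tb (nat_lit 14976)) (nat_lit 9000) (nat_lit 200) = true := by decide +kernel
theorem rrD2_dc_46 : allR (dcAt2 a2_28.mul Nat.beq a2_28.one rrM1_ls rrN1_ls rrD2_x ruA2_g rrD2_ms rrD2_tb (nat_lit 14976)) (nat_lit 9200) (nat_lit 200) = true := by decide +kernel
theorem rrD2_dc_47 : allR (dcAt2 a2_28.mul Nat.beq a2_28.one rrM1_ls rrN1_ls rrD2_x ruA2_g rrD2_ms rrD2_tb (nat_lit 14976)) (nat_lit 9400) (nat_lit 200) = true := by decide +kernel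
theorem rrD2_dc_48 : allR (dcAt2 a2_28.mul Nat.beq a2_28.one rrM1_ls rrN1_ls rrD2_x ruA2_g rrD2_ms rrD2_tb (nat_lit 14976)) (nat_lit 9600) (nat_lit 200) = true := by decide +kernel
theorem rrD2_dc_49 : allR (dcAt2 a2_28.mul Nat.beq a2_28.one rrM1_ls rrN1_ls rrD2_x ruA2_g rrD2_ms rrD2_tb (nat_lit 14976)) (nat_lit 9800) (nat_lit 200) = true := by decide +kernel
theorem rrD2_dc_50 : allR (dcAt2 a2_28.mul Nat.beq a2_28.one rrM1_ls rrN1_ls rrD2_x ruA2_g rrD2_ms rrD2_tb (nat_lit 14976)) (nat_lit 10000) (nat_lit 200) = true := by decide +kernel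
theorem rrD2_dc_51 : allR (dcAt2 a2_28.mul Nat.beq a2_28.one rrM1_ls rrN1_ls rrD2_x ruA2_g rrD2_ms rrD2_tb (nat_lit 14976)) (nat_lit 10200) (nat_lit 200) = true := by decide +kernel
theorem rrD2_dc_52 : allR (dcAt2 a2_28.mul Nat.beq a2_28.one rrM1_ls rrN1_ls rrD2_x ruA2_g rrD2_ms rrD2_tb (nat_lit 14976)) (nat_lit 10400) (nat_lit 200) = true := by decide +kernel
theorem rrD2_dc_53 : allR (dcAt2 a2_28.mul Nat.beq a2_28.one rrM1_ls rrN1_ls rrD2_x ruA2_g rrD2_ms rrD2_tb (nat_lit 14976)) (nat_lit 10600) (nat_lit 200) = true := by decide +kernel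
theorem rrD2_dc_54 : allR (dcAt2 a2_28.mul Nat.beq a2_28.one rrM1_ls rrN1_ls rrD2_x ruA2_g rrD2_ms rrD2_tb (nat_lit 14976)) (nat_lit 10800) (nat_lit 200) = true := by decide +kernel
theorem rrD2_dc_55 : allR (dcAt2 a2_28.mul Nat.beq a2_28.one rrM1_ls rrN1_ls rrD2_x ruA2_g rrD2_ms rrD2_tb (nat_lit 14976)) (nat_lit 11000) (nat_lit 200) = true := by decide +kernel
theorem rrD2_dc_56 : allR (dcAt2 a2_28.mul Nat.beq a2_28.one rrM1_ls rrN1_ls rrD2_x ruA2_g rrD2_ms rrD2_tb (nat_lit 14976)) (nat_lit 11200) (nat_lit 200) = true := by decide +kernel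

end H29
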