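import Cfsg.Agent.H29.Rr3D

set_option autoImplicit false
set_option maxRecDepth 100000
set_option linter.style.haveILetI false
set_option linter.unusedVariables false
set_option linter.style.longLine false
set_option linter.unusedTactic false
set_option linter.unreachableTactic false

namespace H29

theorem rrD2_dc_57 : allR (dcAt2 a2_28.mul Nat.beq a2_28.one rrM1_ls rrN1_ls rrD2_x ruA2_g rrD2_ms rrD2_tb (nat_lit 14976)) (nat_lit 11400) (nat_lit 200) = true := by decide +kernel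
theorem rrD2_dc_58 : allR (dcAt2 a2_28.mul Nat.beq a2_28.one rrM1_ls rrN1_ls rrD2_x ruA2_g rrD2_ms rrD2_tb (nat_lit 14976)) (nat_lit 11600) (nat_lit 200) = true := by decide +kernel
theorem rrD2_dc_59 : allR (dcAt2 a2_28.mul Nat.beq a2_28.one rrM1_ls rrN1_ls rrD2_x ruA2_g rrD2_ms rrD2_tb (nat_lit 14976)) (nat_lit 11800) (nat_lit 200) = true := by decide +kernel
theorem rrD2_dc_60 : allR (dcAt2 a2_28.mul Nat.beq a2_28.one rrM1_ls rrN1_ls rrD2_x ruA2_g rrD2_ms rrD2_tb (nat_lit 14976)) (nat_lit 12000) (nat_lit 200) = true := by decide +kernel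
theorem rrD2_dc_61 : allR (dcAt2 a2_28.mul Nat.beq a2_28.one rrM1_ls rrN1_ls rrD2_x ruA2_g rrD2_ms rrD2_tb (nat_lit 14976)) (nat_lit 12200) (nat_lit 200) = true := by decide +kernel
theorem rrD2_dc_62 : allR (dcAt2 a2_28.mul Nat.beq a2_28.one rrM1_ls rrN1_ls rrD2_x ruA2_g rrD2_ms rrD2_tb (nat_lit 14976)) (nat_lit 12400) (nat_lit 200) = true := by decide +kernel
theorem rrD2_dc_63 : allR (dcAt2 a2_28.mul Nat.beq a2_28.one rrM1_ls rrN1_ls rrD2_x ruA2_g rrD2_ms rrD2_tb (nat_lit 14976)) (nat_lit 12600) (nat_lit 200) = true := by decide +kernel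
theorem rrD2_dc_64 : allR (dcAt2 a2_28.mul Nat.beq a2_28.one rrM1_ls rrN1_ls rrD2_x ruA2_g rrD2_ms rrD2_tb (nat_lit 14976)) (nat_lit 12800) (nat_lit 200) = true := by decide +kernel
theorem rrD2_dc_65 : allR (dcAt2 a2_28.mul Nat.beq a2_28.one rrM1_ls rrN1_ls rrD2_x ruA2_g rrD2_ms rrD2_tb (nat_lit 14976)) (nat_lit 13000) (nat_lit 200) = true := by decide +kernel
theorem rrD2_dc_66 : allR (dcAt2 a2_28.mul Nat.beq a2_28.one rrM1_ls rrN1_ls rrD2_x ruA2_g rrD2_ms rrD2_tb (nat_lit 14976)) (nat_lit 13200) (nat_lit 200) = true := by decide +kernel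
theorem rrD2_dc_67 : allR (dcAt2 a2_28.mul Nat.beq a2_28.one rrM1_ls rrN1_ls rrD2_x ruA2_g rrD2_ms rrD2_tb (nat_lit 14976)) (nat_lit 13400) (nat_lit 200) = true := by decide +kernel
theorem rrD2_dc_68 : allR (dcAt2 a2_28.mul Nat.beq a2_28.one rrM1_ls rrN1_ls rrD2_x ruA2_g rrD2_ms rrD2_tb (nat_lit 14976)) (nat_lit 13600) (nat_lit 200) = true := by decide +kernel
theorem rrD2_dc_69 : allR (dcAt2 a2_28.mul Nat.beq a2_28.one rrM1_ls rrN1_ls rrD2_x ruA2_g rrD2_ms rrD2_tb (nat_lit 14976)) (nat_lit 13800) (nat_lit 200) = true := by decide +kernel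
theorem rrD2_dc_70 : allR (dcAt2 a2_28.mul Nat.beq a2_28.one rrM1_ls rrN1_ls rrD2_x ruA2_g rrD2_ms rrD2_tb (nat_lit 14976)) (nat_lit 14000) (nat_lit 200) = true := by decide +kernel
theorem rrD2_dc_71 : allR (dcAt2 a2_28.mul Nat.beq a2_28.one rrM1_ls rrN1_ls rrD2_x ruA2_g rrD2_ms rrD2_tb (nat_lit 14976)) (nat_lit 14200) (nat_lit 200) = true := by decide +kernel
theorem rrD2_dc_72 : allR (dcAt2 a2_28.mul Nat.beq a2_28.one rrM1_ls rrN1_ls rrD2_x ruA2_g rrD2_ms rrD2_tb (nat_lit 14976)) (nat_lit 14400) (nat_lit 200) = true := by decide +kernel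

end H29
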