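import Cfsg.Agent.H29.Rr3D

set_option autoImplicit false
set_option maxRecDepth 100000
set_option linter.style.haveILetI false
set_option linter.unusedVariables false
set_option linter.style.longLine false
set_option linter.unusedTactic false
set_option linter.unreachableTactic false

namespace H29

theorem rrM4_ok : rrM4.ok a2_28.mul Nat.beq a2_28.one = true := by decide +kernel
theorem rrM4_next : rrM4.nextOK a2_28.mul a2_28.one rrM5_g (nat_lit 0x0) = true := by decide +kernel
theorem rrM4_fx : allL rrM4_fix rrM5_g = true := by decide +kernel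
theorem rrM4_s_0 : allR (schk a2_28.mul Nat.beq a2_28.one rrM4_g (rrM4.lv a2_28.mul a2_28.one) rrM5_ls) (nat_lit 0) (nat_lit 2) = true := by decide +kernel
theorem rrM4_k_0 : allR (kchk rrM4_key (rrM4.lv a2_28.mul a2_28.one).U rrM4_kt (nat_lit 2)) (nat_lit 0) (nat_lit 2) = true := by decide +kernel
theorem rrY1_ok : rrY1.ok a2_28.mul Nat.beq a2_28.one = true := by decide +kernel
theorem rrY1_next : rrY1.nextOK a2_28.mul a2_28.one rrY2_g (nat_lit 0x0) = true := by decide +kernel
theorem rrY1_fx : allL rrY1_fix rrY2_g = true := by decide +kernel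
theorem rrY1_s_0 : allR (schk a2_28.mul Nat.beq a2_28.one rrY1_g (rrY1.lv a2_28.mul a2_28.one) rrY2_ls) (nat_lit 0) (nat_lit 13) = true := by decide +kernel
theorem rrY1_k_0 : allR (kchk rrY1_key (rrY1.lv a2_28.mul a2_28.one).U rrY1_kt (nat_lit 13)) (nat_lit 0) (nat_lit 13) = true := by decide +kernel
theorem rrL1_ok : rrL1.ok a2_28.mul Nat.beq a2_28.one = true := by decide +kernel
theorem rrL1_next : rrL1.nextOK a2_28.mul a2_28.one rrL2_g (nat_lit 0x300000000002500004200001800000f00000900001400000c) = true := by decide +kernel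
theorem rrL1_fx : allL rrL1_fix rrL2_g = true := by decide +kernel
theorem rrL1_s_0 : allR (schk a2_28.mul Nat.beq a2_28.one rrL1_g (rrL1.lv a2_28.mul a2_28.one) rrL2_ls) (nat_lit 0) (nat_lit 78) = true := by decide +kernel
theorem rrL1_k_0 : allR (kchk rrL1_key (rrL1.lv a2_28.mul a2_28.one).U rrL1_kt (nat_lit 78)) (nat_lit 0) (nat_lit 78) = true := by decide +kernel
theorem rrL2_ok : rrL2.ok a2_28.mul Nat.beq a2_28.one = true := by decide +kernel
theorem rrL2_next : rrL2.nextOK a2_28.mul a2_28.one rrL3_g (nat_lit 0x1500000200000f) = true := by decide +kernel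
theorem rrL2_fx : allL rrL2_fix rrL3_g = true := by decide +kernel
theorem rrL2_s_0 : allR (schk a2_28.mul Nat.beq a2_28.one rrL2_g (rrL2.lv a2_28.mul a2_28.one) rrL3_ls) (nat_lit 0) (nat_lit 25) = true := by decide +kernel
theorem rrL2_k_0 : allR (kchk rrL2_key (rrL2.lv a2_28.mul a2_28.one).U rrL2_kt (nat_lit 25)) (nat_lit 0) (nat_lit 25) = true := by decide +kernel
theorem rrL3_ok : rrL3.ok a2_28.mul Nat.beq a2_28.one = true := by decide +kernel
theorem rrL3_next : rrL3.nextOK a2_28.mul a2_28.one rrL4_g (nat_lit 0x0) = true := by decide +kernel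
theorem rrL3_fx : allL rrL3_fix rrL4_g = true := by decide +kernel
theorem rrL3_s_0 : allR (schk a2_28.mul Nat.beq a2_28.one rrL3_g (rrL3.lv a2_28.mul a2_28.one) rrL4_ls) (nat_lit 0) (nat_lit 4) = true := by decide +kernel
theorem rrL3_k_0 : allR (kchk rrL3_key (rrL3.lv a2_28.mul a2_28.one).U rrL3_kt (nat_lit 4)) (nat_lit 0) (nat_lit 4) = true := by decide +kernel
theorem rrE1_ok : rrE1.ok a2_28.mul Nat.beq a2_28.one = true := by decide +kernel
theorem rrE1_next : rrE1.nextOK a2_28.mul a2_28.one rrE2_g (nat_lit 0x2000001000002) = true := by decide +kernel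
theorem rrE1_fx : allL rrE1_fix rrE2_g = true := by decide +kernel

end H29
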