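import Cfsg.Agent.H29.Rr4D

set_option autoImplicit false
set_option maxRecDepth 100000
set_option linter.style.haveILetI false
set_option linter.unusedVariables false
set_option linter.style.longLine false
set_option linter.unusedTactic false
set_option linter.unreachableTactic false

namespace H29

theorem rr_aU_12 : allR (fun j => force ((rrU1.lv a2_28.mul a2_28.one).U j) (allC a2_28.mul rr_fU rrU2_ls)) (nat_lit 24) (nat_lit 1) = true := by decide +kernel
theorem rr_sw : wdsOK a2_28.mul a2_28.one [rr_s] [(nat_lit 0x1007001006)] (ru1_g ++ rr_xl) = true := by decide +kernel
theorem rr_gw : wdsOK a2_28.mul a2_28.one ru1_g [nat_lit 0x1003000001000002, nat_lit 0x1005000004] (rr_s :: rr_tp :: rr_xl) = true := by decide +kernel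
theorem rr_buxok : slpR a2_28.mul a2_28.one (wdsOK a2_28.mul a2_28.one rr_bux [nat_lit 0x101b01104b02e030, nat_lit 0x100e02200f, nat_lit 0x100a01100b, nat_lit 0x101303a034009, nat_lit 0x101d037022, nat_lit 0x1, nat_lit 0x101204b034021, nat_lit 0x100a04b02f009, nat_lit 0x101305003f022, nat_lit 0x100e04b00804b, nat_lit 0x101d035033007, nat_lit 0x101d036006, nat_lit 0x101b03903905005e059005, nat_lit 0x101b03303006c00405f, nat_lit 0x100a01203602206c047001, nat_lit 0x101b01103a03204b047056, nat_lit 0x101301103a03305905f, nat_lit 0x100e05000903a04705e003, nat_lit 0x101b000022067073, nat_lit 0x103f021035073044056]) (nat_lit 114) (nat_lit 0x4e02004300006f00004205a06d05a05705502800100802902b03201704200801100000104301402b02300400e00001f02202500000900a00003700001c00002200003900000100001200f00f00000b01000000100000001200001400000100000201d00001900f02d00002c00000400000202900001700401602200002600000100000000001200c02200000500200b00000301900000500000400400000101a00400001400000200100001100500000400000200000000000000000002a00000300000200003000000400600000202c00002c02b02202400001101801b01801c00000400000200000000000000000002100000400000b00001f00000b00001501600000201400000f00e00000101800d00000101600a00a00e00000900c00800000400000500000300600000500e00000100000500000a000000000000007007006000000006000003000001000000000000001001)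 ruA2_g = true := by decide +kernel

end H29
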