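import Cfsg.Agent.H29.LM
import Cfsg.Prelude.Def_Spor_Ru

set_option autoImplicit false
set_option maxRecDepth 100000
set_option linter.style.haveILetI false

/-! The rank-28 Gaussian lattice: real coordinates and packed integer matrices. -/

namespace H29

open Cfsg.Spor Finset Matrix

abbrev V56 : Type := Fin 56 → ℤ
abbrev M56 : Type := Matrix (Fin 56) (Fin 56) ℤ

def rEv (k : Fin 28) : Fin 56 := ⟨2 * k, by omega⟩
def rOd (k : Fin 28) : Fin 56 := ⟨2 * k + 1, by omega⟩
def rHf (s : Fin 56) : Fin 28 := ⟨s / 2, by omega⟩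
def rPt (k : Fin 28) : RuIdx := (⟨k / 4, by omega⟩, ⟨k % 4, by omega⟩)
def rIx (p : RuIdx) : Fin 28 := ⟨4 * p.1 + p.2, by omega⟩

theorem rHf_ev (k : Fin 28) : rHf (rEv k) = k := by revert k; decide
theorem rHf_od (k : Fin 28) : rHf (rOd k) = k := by revert k; decide
theorem rEv_mod (k : Fin 28) : (rEv k).val % 2 = 0 := by revert k; decide
theorem rOd_mod (k : Fin 28) : ¬ (rOd k).val % 2 = 0 := by revert k; decide
theorem rPt_ix (p : RuIdx) : rPt (rIx p) = p := by revert p; decide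
theorem rIx_pt (k : Fin 28) : rIx (rPt k) = k := by revert k; decide
theorem ev_or_od (s : Fin 56) : ∃ k, s = rEv k ∨ s = rOd k := ⟨rHf s, by revert s; decide⟩

theorem sum56 {M : Type*} [AddCommMonoid M] (g : Fin 56 → M) : ∑ s, g s = ∑ k, (g (rEv k) + g (rOd k)) := by
  rw [← (finProdFinEquiv (m := 28) (n := 2)).sum_comp g, Fintype.sum_prod_type]
  refine sum_congr rfl fun k _ => ?_
  rw [Fin.sum_univ_two]
  congr 2 <;> exact Fin.ext (by simp [finProdFinEquiv, rEv, rOd, add_comm])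

theorem ext56 {u v : V56} (h1 : ∀ k, u (rEv k) = v (rEv k)) (h2 : ∀ k, u (rOd k) = v (rOd k)) : u = v :=
  funext fun s => by obtain ⟨k, rfl | rfl⟩ := ev_or_od s; exacts [h1 k, h2 k]

/-- Real coordinates. -/
def rcv : RuVec ≃+ V56 where
  toFun x s := if s.val % 2 = 0 then (x (rPt (rHf s))).re else (x (rPt (rHf s))).im
  invFun c p := ⟨c (rEv (rIx p)), c (rOd (rIx p))⟩
  left_inv x := funext fun p => by simp [rEv_mod, rOd_mod, rHf_ev, rHf_od, rPt_ix]
  right_inv c := ext56 (fun k => by simp [rEv_mod, rHf_ev, rIx_pt]) (fun k => by simp [rOd_mod, rHf_od, rIx_pt])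
  map_add' x y := funext fun s => by simp only [Pi.add_apply]; split_ifs <;> simp

theorem rcv_ev (x : RuVec) (k : Fin 28) : rcv x (rEv k) = (x (rPt k)).re := by
  show (if _ then _ else _) = _
  rw [if_pos (rEv_mod k), rHf_ev]
theorem rcv_od (x : RuVec) (k : Fin 28) : rcv x (rOd k) = (x (rPt k)).im := by
  show (if _ then _ else _) = _
  rw [if_neg (rOd_mod k), rHf_od]

theorem ruNorm_eq (x : RuVec) : ruNorm x = rcv x ⬝ᵥ rcv x := by
  rw [ruNorm, dotProduct, sum56, ← (Equiv.mk rPt rIx rIx_pt rPt_ix).sum_comp]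
  refine sum_congr rfl fun k _ => ?_
  rw [rcv_ev, rcv_od, Zsqrtd.norm_def]; simp

/-- Multiplication by `i`. -/
def rJ (c : V56) : V56 := fun s => if s.val % 2 = 0 then -c (rOd (rHf s)) else c (rEv (rHf s))

theorem rJ_ev (c : V56) (k : Fin 28) : rJ c (rEv k) = -c (rOd k) := by rw [rJ, if_pos (rEv_mod k), rHf_ev]
theorem rJ_od (c : V56) (k : Fin 28) : rJ c (rOd k) = c (rEv k) := by rw [rJ, if_neg (rOd_mod k), rHf_od]

theorem rcv_gI (x : RuVec) : rcv (gI • x) = rJ (rcv x) :=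
  ext56 (fun k => by simp [rcv_ev, rJ_ev, rcv_od, gI]) (fun k => by simp [rcv_ev, rJ_od, rcv_od, gI])

theorem rJ_rJ (c : V56) : rJ (rJ c) = -c :=
  ext56 (fun k => by simp [rJ_ev, rJ_od]) (fun k => by simp [rJ_ev, rJ_od])

theorem rJ_dot (u v : V56) : rJ u ⬝ᵥ rJ v = u ⬝ᵥ v := by
  simp only [dotProduct, sum56, rJ_ev, rJ_od]
  exact sum_congr rfl fun _ _ => by ring

/-- The matrix commutes with multiplication by `i`. -/
def CJ (A : M56) : Prop := ∀ k m, A (rEv k) (rOd m) = -A (rOd k) (rEv m) ∧ A (rOd k) (rOd m) = A (rEv k) (rEv m)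

theorem CJ.mulVec {A : M56} (h : CJ A) (c : V56) : A *ᵥ rJ c = rJ (A *ᵥ c) := by
  refine ext56 (fun k => ?_) (fun k => ?_) <;>
    simp only [rJ_ev, rJ_od, Matrix.mulVec, dotProduct, sum56, (h _ _).1, (h _ _).2, ← sum_neg_distrib] <;>
    exact sum_congr rfl fun _ _ => by ring

theorem rJ_single (m : Fin 28) : rJ (Pi.single (rEv m) 1) = Pi.single (rOd m) 1 := by
  have h1 : ∀ k m : Fin 28, rOd k ≠ rEv m := by decide
  have h2 : ∀ k m : Fin 28, rOd k = rOd m ↔ k = m := by decide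
  have h3 : ∀ k m : Fin 28, rEv k = rEv m ↔ k = m := by decide
  refine ext56 (fun k => ?_) (fun k => ?_) <;> simp [rJ_ev, rJ_od, Pi.single_apply, h1, (h1 _ _).symm, h2, h3]

theorem CJ.of {A : M56} (h : ∀ c, A *ᵥ rJ c = rJ (A *ᵥ c)) : CJ A := fun k m => by
  have := h (Pi.single (rEv m) 1)
  rw [rJ_single, mulVec_single_one, mulVec_single_one] at this
  exact ⟨by simpa [rJ_ev] using congrFun this (rEv k), by simpa [rJ_od] using congrFun this (rOd k)⟩

/-! ### Packed integer matrices -/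

theorem land_pk {w m v : ℕ} (hw : 0 < w) (hv : v ≤ w) (P : ℕ) :
    P &&& pk w m (fun _ => 2 ^ v - 1) = pk w m (fun t => (P >>> (w * t)) &&& (2 ^ v - 1)) := by
  have h : 2 ^ v - 1 < 2 ^ w :=
    (Nat.sub_lt (by positivity) one_pos).trans_le (Nat.pow_le_pow_right (by norm_num) hv)
  refine bits_ext hw fun k r hr => ?_
  rw [Nat.testBit_and, testBit_pk' (fun _ _ => h) _ _ hr,
    testBit_pk' (fun t _ => Nat.and_le_right.trans_lt h) _ _ hr, Nat.testBit_and, Nat.testBit_shiftRight]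
  cases decide (k < m) <;> simp

noncomputable def rze (P t : ℕ) : ℕ := Nat.land (Nat.shiftRight P (Nat.mul (nat_lit 24) t)) (nat_lit 255)
noncomputable def rzf (P i k : ℕ) : ℕ := rze P (Nat.add (Nat.mul (nat_lit 56) k) i)
theorem rzf_le (P i k : ℕ) : rzf P i k ≤ 255 := Nat.and_le_right

/-- The integer matrix with a given code. -/
noncomputable def zm (P : ℕ) : M56 := of fun i k => Int.subNatNat (rzf P i k) (nat_lit 128)

theorem zm_apply (P : ℕ) (i k : Fin 56) : zm P i k = (rzf P i k : ℤ) - 128 := Int.subNatNat_eq_coe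

noncomputable def zOne : ℕ := matC (nat_lit 24) (nat_lit 56) fun _ _ => 1
noncomputable def zMul (A B : ℕ) : ℕ :=
  force (sum1 (fun t => Nat.shiftLeft (2 ^ 24 - 1) (Nat.mul (24 * 56) t)) 0 56) fun cm =>
    force (2 ^ (24 * 56) - 1) fun rm => mulNa (nat_lit 24) (nat_lit 1344) cm rm A B (nat_lit 56)
noncomputable def zL (J s A B : ℕ) : ℕ := Nat.add (zMul A B) (Nat.mul J (Nat.add (nat_lit 917504) (Nat.mul (nat_lit 128) s)))
noncomputable def zR (J A B : ℕ) : ℕ := Nat.mul (Nat.add (zMul A J) (zMul J B)) (nat_lit 128)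

/-- `zm A * zm B = s • zm C`. -/
noncomputable def zmOK (A B C s : ℕ) : Bool :=
  force zOne fun J => force (Nat.mul J (nat_lit 255)) fun m => force (Nat.land A m) fun A => force (Nat.land B m) fun B =>
    band (Nat.ble s 64) (Nat.beq (zL J s A B) (Nat.add (Nat.mul (Nat.land C m) s) (zR J A B)))

/-- The code of a product (nothing is proved about it). -/
noncomputable def rzmul (A B : ℕ) : ℕ := force zOne fun J => Nat.sub (zL J 1 A B) (zR J A B)

theorem land_zOne (P : ℕ) : Nat.land P (Nat.mul zOne 255) = matN 24 56 (rzf P) := by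
  rw [zOne, matC_eq, Nat.mul_eq, matN_mul, matN_flat, matN_flat]
  refine (land_pk (v := 8) (by norm_num) (by norm_num) P).trans (pk_congr fun t _ => ?_)
  show _ = rze P (56 * (t / 56) + t % 56)
  rw [Nat.div_add_mod]; rfl

theorem zMul_eq {a b : ℕ → ℕ → ℕ} (ha : ∀ i k, a i k ≤ 255) (hb : ∀ i k, b i k ≤ 255) :
    zMul (matN 24 56 a) (matN 24 56 b) = matN 24 56 (fun i k => ∑ j ∈ range 56, a i j * b j k) := by
  rw [zMul, force_eq, force_eq, ← pk_const]
  exact mulNa_matN (w := 24) (n := 56) (by norm_num) (fun i _ k _ => (ha i k).trans_lt (by norm_num))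
    (fun i _ k _ => (hb i k).trans_lt (by norm_num)) le_rfl

theorem sum_le_255 {a b : ℕ → ℕ} (ha : ∀ j, a j ≤ 255) {c : ℕ} (hb : ∀ j, b j ≤ c) :
    ∑ j ∈ range 56, a j * b j ≤ 56 * (255 * c) := by
  simpa using sum_le_card_nsmul (range 56) _ (255 * c) fun j _ => Nat.mul_le_mul (ha j) (hb j)

theorem zmOK_spec {A B C s : ℕ} (h : zmOK A B C s = true) : zm A * zm B = (s : ℤ) • zm C := by
  simp only [zmOK, force_eq, band_iff, land_zOne, zL, zR, Nat.ble_eq] at h
  obtain ⟨hs, h⟩ := h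
  have e := Nat.eq_of_beq_eq_true h
  have h1 : ∀ _ _ : ℕ, 1 ≤ 255 := fun _ _ => by decide
  rw [zOne, matC_eq, zMul_eq (rzf_le A) (rzf_le B), zMul_eq (rzf_le A) h1, zMul_eq h1 (rzf_le B)] at e
  simp only [Nat.add_eq, Nat.mul_eq, matN_mul, matN_add] at e
  ext i k
  have e1 := matN_inj (fun i _ k _ => ?_) (fun i _ k _ => ?_) e i i.2 k k.2
  · have e2 := congrArg (Nat.cast : ℕ → ℤ) e1
    push_cast at e2
    rw [mul_apply, Matrix.smul_apply, zm_apply, smul_eq_mul]
    simp only [zm_apply]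
    rw [Fin.sum_univ_eq_sum_range (fun j => ((rzf A i j : ℤ) - 128) * ((rzf B j k : ℤ) - 128))]
    have e3 : ∑ j ∈ range 56, ((rzf A i j : ℤ) - 128) * ((rzf B j k : ℤ) - 128) = ∑ j ∈ range 56, (rzf A i j : ℤ) * rzf B j k
        - 128 * ∑ j ∈ range 56, (rzf A i j : ℤ) * 1 - 128 * ∑ j ∈ range 56, 1 * (rzf B j k : ℤ) + ∑ j ∈ range 56, 16384 := by
      simp only [mul_sum, ← sum_sub_distrib, ← sum_add_distrib]
      exact sum_congr rfl fun _ _ => by ring
    rw [e3, sum_const, card_range]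
    simp only [nsmul_eq_mul]
    push_cast
    linarith
  · have := sum_le_255 (rzf_le A i) (fun j => rzf_le B j k)
    omega
  · have h2 := sum_le_255 (rzf_le A i) (b := fun _ => 1) (c := 1) (fun j => le_rfl)
    have h3 := sum_le_255 (fun j => rzf_le B j k) (b := fun _ => 1) (c := 1) (fun j => le_rfl)
    have h4 := Nat.mul_le_mul (rzf_le C i k) hs
    simp only [mul_comm 1]
    omega

/-- The code of the transpose. -/
noncomputable def ztr (P : ℕ) : ℕ := matC (nat_lit 24) (nat_lit 56) fun i k => rzf P k i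

theorem rzf_matN {a : ℕ → ℕ → ℕ} (ha : ∀ i k, a i k ≤ 255) (i k : Fin 56) : rzf (matN 24 56 a) i k = a i k := by
  have h := land_zOne (matN 24 56 a)
  have h1 : Nat.land (matN 24 56 a) (Nat.mul zOne 255) = matN 24 56 a := by
    rw [zOne, matC_eq, Nat.mul_eq, matN_mul, matN_flat, matN_flat]
    have h2 := pk_shift_mask (w := 24) (m := 56 * 56) (f := fun t => a (t % 56) (t / 56)) (s := 0) (v := 8)
      (by norm_num) (fun t _ => (ha _ _).trans_lt (by norm_num)) (by norm_num)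
    rw [Nat.shiftRight_zero] at h2
    refine h2.trans (pk_congr fun t _ => ?_)
    rw [Nat.shiftRight_zero, Nat.and_two_pow_sub_one_eq_mod, Nat.mod_eq_of_lt ((ha _ _).trans_lt (by norm_num))]
  exact matN_inj (fun i _ k _ => (rzf_le _ i k).trans_lt (by norm_num)) (fun i _ k _ => (ha i k).trans_lt (by norm_num))
    (h.symm.trans h1) i i.2 k k.2

theorem zm_ztr (P : ℕ) : zm (ztr P) = (zm P)ᵀ := by
  ext i k
  rw [transpose_apply, zm_apply, zm_apply, ztr, matC_eq, rzf_matN fun i k => rzf_le P k i]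

noncomputable def zId : ℕ := matC (nat_lit 24) (nat_lit 56) fun i k => if i = k then 129 else 128

theorem zm_zId : zm zId = 1 := by
  ext i k
  rw [zm_apply, zId, matC_eq, rzf_matN fun i k => by split_ifs <;> norm_num, one_apply]
  by_cases h : i = k <;> simp [h, Fin.val_inj]

noncomputable def cjOK (P : ℕ) : Bool :=
  all1 (fun k => all1 (fun m => band
    (Nat.beq (Nat.add (rzf P (Nat.mul 2 k) (Nat.succ (Nat.mul 2 m))) (rzf P (Nat.succ (Nat.mul 2 k)) (Nat.mul 2 m))) 256)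
    (Nat.beq (rzf P (Nat.succ (Nat.mul 2 k)) (Nat.succ (Nat.mul 2 m))) (rzf P (Nat.mul 2 k) (Nat.mul 2 m)))) 0 28) 0 28

theorem cjOK_spec {P : ℕ} (h : cjOK P = true) : CJ (zm P) := fun k m => by
  have h1 := band_iff.1 (all1_lt (all1_lt h k k.2) m m.2)
  have h2 : rzf P (rEv k) (rOd m) + rzf P (rOd k) (rEv m) = 256 := Nat.eq_of_beq_eq_true h1.1
  have h3 : rzf P (rOd k) (rOd m) = rzf P (rEv k) (rEv m) := Nat.eq_of_beq_eq_true h1.2
  simp only [zm_apply]
  omega

end H29
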