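import Cfsg.Agent.H29.RuD

set_option autoImplicit false
set_option maxRecDepth 100000
set_option linter.style.haveILetI false

/-! The rank-28 Gaussian lattice: a basis, automorphisms as matrices, the action modulo `1 + i`. -/

namespace H29

open Cfsg.Spor Finset Matrix

noncomputable abbrev rW : M56 := zm ruW
noncomputable abbrev rG : M56 := zm ruG

theorem rD_W : zm ruD * rW = (4 : ℤ) • 1 := zm_zId ▸ zmOK_spec (s := 4) (by decide +kernel)
theorem rW_W : rWᵀ * rW = (4 : ℤ) • rG := zm_ztr ruW ▸ zmOK_spec (s := 4) (by decide +kernel)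
theorem rW_cj : CJ rW := cjOK_spec (by decide +kernel)
theorem rG_diag : ∀ j, rG j j = 4 := by decide +kernel

noncomputable def zcf (Y : ℕ) : ℕ := Nat.add (Nat.shiftRight (rzmul ruD Y) 2) (Nat.mul zOne 96)
/-- The columns are in the span of the basis. -/
noncomputable def inLB (Y : ℕ) : Bool := zmOK ruW (zcf Y) Y 1

noncomputable def ruM : AddSubgroup RuVec := rW.mulVecLin.toAddMonoidHom.range.comap rcv.toAddMonoidHom

theorem mem_ruM {x : RuVec} : x ∈ ruM ↔ ∃ c, rW *ᵥ c = rcv x := Iff.rfl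

theorem inLB_spec {Y : ℕ} (h : inLB Y = true) {x : RuVec} {j : Fin 56} (hx : ∀ t, rcv x t = zm Y t j) : x ∈ ruM := by
  rw [inLB] at h
  have := zmOK_spec h
  rw [Nat.cast_one, one_smul] at this
  refine ⟨fun s => zm (zcf Y) s j, funext fun t => ?_⟩
  exact (congrFun (congrFun this t) j).trans (hx t).symm

theorem eq_sum_col {x : RuVec} {c : V56} (h : rW *ᵥ c = rcv x) : x = ∑ j, c j • rcv.symm fun s => rW s j := by
  refine rcv.injective (funext fun s => ?_)
  rw [map_sum]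
  simp only [map_zsmul, AddEquiv.apply_symm_apply, Finset.sum_apply, Pi.smul_apply, smul_eq_mul, ← h, mulVec,
    dotProduct, mul_comm]

theorem op_closed {f : RuVec → RuVec} (hf : ∀ x y, f (x + y) = f x + f y) {Y : ℕ} (h : inLB Y = true)
    (h1 : ∀ j t : Fin 56, rcv (f (rcv.symm fun s => rW s j)) t = zm Y t j) {v : RuVec} (hv : v ∈ ruM) : f v ∈ ruM := by
  obtain ⟨c, hc⟩ := mem_ruM.1 hv
  rw [eq_sum_col hc]
  show AddMonoidHom.mk' f hf _ ∈ _
  rw [map_sum]
  exact sum_mem fun j _ => by rw [map_zsmul]; exact zsmul_mem (inLB_spec h (h1 j)) _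

theorem ruRj_add (x y : RuVec) : ruRj (x + y) = ruRj x + ruRj y := by
  funext ⟨n, t⟩; fin_cases t <;> simp [ruRj, mul_add, add_comm]
theorem ruRk_add (x y : RuVec) : ruRk (x + y) = ruRk x + ruRk y := by
  funext ⟨n, t⟩; fin_cases t <;> simp [ruRk, mul_add, add_comm]
theorem ruSign_add (x y : RuVec) : ruSign (x + y) = ruSign x + ruSign y := by
  funext p; simp only [ruSign, Pi.add_apply]; split_ifs <;> ring

theorem ruL_le : ruLattice ≤ ruM := by
  have h : ∀ j : Fin 20, ∀ t, rcv (ruTable.getD j 0) t = zm ruT t ⟨j, by omega⟩ := by decide +kernel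
  refine sInf_le ⟨fun v hv => ?_, fun v hv => ⟨?_, ?_, ?_, ?_, ?_⟩⟩
  · obtain ⟨j, hj, rfl⟩ := List.getElem_of_mem hv
    refine inLB_spec (Y := ruT) (by decide +kernel) (j := ⟨j, hj.trans (by decide)⟩) fun t => ?_
    rw [← List.getD_eq_getElem _ 0 hj]; exact h ⟨j, hj⟩ t
  · obtain ⟨c, hc⟩ := mem_ruM.1 hv
    exact ⟨rJ c, (rW_cj.mulVec c).trans (by rw [hc]; exact (rcv_gI v).symm)⟩
  · exact op_closed ruRj_add (Y := ruYj) (by decide +kernel) (by decide +kernel) hv
  · exact op_closed ruRk_add (Y := ruYk) (by decide +kernel) (by decide +kernel) hv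
  · exact op_closed ruSign_add (Y := ruYs) (by decide +kernel) (by decide +kernel) hv
  · exact op_closed (f := ruShift) (fun _ _ => rfl) (Y := ruYh) (by decide +kernel) (by decide +kernel) hv

def ruOp (n : ℕ) (v : RuVec) : RuVec :=
  if n = 0 then gI • v else if n = 1 then ruRj v else if n = 2 then ruRk v else if n = 3 then ruSign v else ruShift v

theorem ruOp_mem (n : ℕ) {v : RuVec} (hv : v ∈ ruLattice) : ruOp n v ∈ ruLattice := by
  rw [ruLattice, AddSubgroup.mem_sInf] at hv ⊢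
  intro L hL
  obtain ⟨h0, h1, h2, h3, h4⟩ := hL.2 v (hv L hL)
  unfold ruOp; split_ifs <;> assumption

theorem ruWord_mem (w : ℕ × List ℕ) : w.2.foldr ruOp (ruTable.getD w.1 0) ∈ ruLattice := by
  obtain ⟨i, w⟩ := w
  induction w with
  | nil =>
    by_cases h : i < ruTable.length
    · rw [List.foldr_nil, List.getD_eq_getElem _ 0 h]
      exact AddSubgroup.mem_sInf.2 fun L hL => hL.1 _ (List.getElem_mem h)
    · rw [List.foldr_nil, List.getD_eq_default _ 0 (not_lt.1 h)]; exact zero_mem _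
  | cons n w ih => exact ruOp_mem n ih

theorem col_mem (j : Fin 56) : (rcv.symm fun s => rW s j) ∈ ruLattice := by
  have h : ∀ (k : Fin 28) t, rcv ((ruWd.getD k (0, [])).2.foldr ruOp (ruTable.getD (ruWd.getD k (0, [])).1 0)) t
      = rW t (rEv k) := by decide +kernel
  have h1 : ∀ k, (rcv.symm fun s => rW s (rEv k)) ∈ ruLattice := fun k => by
    rw [← funext (h k), AddEquiv.symm_apply_apply]; exact ruWord_mem _
  obtain ⟨k, rfl | rfl⟩ := ev_or_od j
  · exact h1 k
  · have := rW_cj.mulVec (Pi.single (rEv k) 1)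
    rw [rJ_single, mulVec_single_one, mulVec_single_one] at this
    convert gI_smul_mem_ruLattice (h1 k) using 1
    rw [AddEquiv.symm_apply_eq, rcv_gI, AddEquiv.apply_symm_apply]; exact this

theorem rW_inj {c : V56} (h : rW *ᵥ c = 0) : c = 0 := by
  have := congrArg (zm ruD *ᵥ ·) h
  simp only [mulVec_mulVec, rD_W, mulVec_zero, smul_mulVec, one_mulVec] at this
  exact (smul_eq_zero.1 this).resolve_left (by norm_num)

/-- Coordinates with respect to the basis. -/
noncomputable def lam : V56 ≃+ ruLattice :=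
  AddEquiv.ofBijective ((rcv.symm.toAddMonoidHom.comp rW.mulVecLin.toAddMonoidHom).codRestrict _ fun c => by
      have := eq_sum_col (x := rcv.symm (rW *ᵥ c)) (c := c) (by simp)
      exact this ▸ sum_mem fun j _ => zsmul_mem (col_mem j) _)
    ⟨(injective_iff_map_eq_zero _).2 fun c h => rW_inj (rcv.symm.map_eq_zero_iff.1 (congrArg Subtype.val h)),
      fun x => let ⟨c, hc⟩ := mem_ruM.1 (ruL_le x.2); ⟨c, Subtype.ext (rcv.symm_apply_eq.2 hc)⟩⟩

theorem rcv_lam (c : V56) : rcv (lam c : RuVec) = rW *ᵥ c := rcv.apply_symm_apply _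

theorem lam_J (c : V56) : lam (rJ c) = ruI (lam c) :=
  Subtype.ext (rcv.injective (by rw [rcv_lam, rW_cj.mulVec, ← rcv_lam]; exact (rcv_gI _).symm))

theorem mv_dot (A : M56) (c v : V56) : (A *ᵥ c) ⬝ᵥ v = c ⬝ᵥ Aᵀ *ᵥ v := by rw [dotProduct_mulVec, vecMul_transpose]

theorem dot_W (c d : V56) : (rW *ᵥ c) ⬝ᵥ (rW *ᵥ d) = 4 * (c ⬝ᵥ rG *ᵥ d) := by
  rw [mv_dot, mulVec_mulVec, rW_W, smul_mulVec, dotProduct_smul, smul_eq_mul]

theorem norm_lam (c : V56) : ruNorm (lam c : RuVec) = 4 * (c ⬝ᵥ rG *ᵥ c) := by rw [ruNorm_eq, rcv_lam, dot_W]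

theorem rG_symm (i j : Fin 56) : rG i j = rG j i := by
  have h := congrArg transpose rW_W
  rw [transpose_mul, transpose_transpose, rW_W] at h
  have := congrFun (congrFun h i) j
  simp only [transpose_apply, Matrix.smul_apply, smul_eq_mul] at this
  omega

theorem even_norm (c : V56) : 2 ∣ c ⬝ᵥ rG *ᵥ c := by
  have h := dot_eq_of_sym (M := rG.map (Int.castRingHom (ZMod 2))) (B := 0) (fun x => by simp [rG_diag]; rfl)
    (fun x y => by simp only [map_apply, rG_symm x y, CharTwo.add_self_eq_zero, Matrix.zero_apply])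
    (Int.castRingHom (ZMod 2) ∘ c)
  rw [zero_mulVec, dotProduct_zero] at h
  refine (ZMod.intCast_zmod_eq_zero_iff_dvd _ 2).1 (Eq.trans ?_ h)
  simp [dotProduct, mulVec]

/-! ### Automorphisms -/

/-- The automorphism with a given matrix. -/
noncomputable def ruAut (A A' : M56) (h1 : A * A' = 1) (h2 : CJ A) (h3 : Aᵀ * (rG * A) = rG) : fourRu :=
  ⟨(lam.symm.toEquiv.trans ⟨(A *ᵥ ·), (A' *ᵥ ·), fun c => by simp [mul_eq_one_comm.1 h1], fun c => by simp [h1]⟩).trans
      lam.toEquiv, fun v w => by simp [mulVec_add], fun v => by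
      obtain ⟨c, rfl⟩ := lam.surjective v
      simp [← lam_J, h2.mulVec], fun v => by
      obtain ⟨c, rfl⟩ := lam.surjective v
      simp only [AddEquiv.toEquiv_eq_coe, Equiv.trans_apply, EquivLike.coe_coe, AddEquiv.symm_apply_apply, Equiv.coe_fn_mk,
        norm_lam]
      rw [mv_dot, mulVec_mulVec, mulVec_mulVec, mul_assoc, h3]⟩

theorem ruAut_apply {A A' : M56} (h1 : A * A' = 1) (h2 : CJ A) (h3 : Aᵀ * (rG * A) = rG) (c : V56) :
    (ruAut A A' h1 h2 h3).1 (lam c) = lam (A *ᵥ c) := by simp [ruAut]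

/-- The additive map given by an automorphism, in coordinates. -/
noncomputable def ruLin (f : fourRu) : V56 →ₗ[ℤ] V56 :=
  (lam.symm.toAddMonoidHom.comp ((AddMonoidHom.mk' f.1 f.2.1).comp lam.toAddMonoidHom)).toIntLinearMap

/-- The matrix of an automorphism. -/
noncomputable def ruMat : fourRu →* M56 where
  toFun f := LinearMap.toMatrix' (ruLin f)
  map_one' := by rw [← LinearMap.toMatrix'_id]; congr 1; ext; simp [ruLin]
  map_mul' f g := by rw [← LinearMap.toMatrix'_comp]; congr 1; ext; simp [ruLin]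

theorem ruMat_apply (f : fourRu) (c : V56) : f.1 (lam c) = lam (ruMat f *ᵥ c) := by
  show _ = lam (LinearMap.toMatrix' (ruLin f) *ᵥ c)
  rw [LinearMap.toMatrix'_mulVec]; simp [ruLin]

theorem ruMat_inj : Function.Injective ruMat := fun f g h => Subtype.ext (Equiv.ext fun x => by
  obtain ⟨c, rfl⟩ := lam.surjective x
  rw [ruMat_apply, ruMat_apply, h])

theorem ruMat_aut {A A' : M56} (h1 : A * A' = 1) (h2 : CJ A) (h3 : Aᵀ * (rG * A) = rG) :
    ruMat (ruAut A A' h1 h2 h3) = A :=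
  Matrix.ext_of_mulVec_single fun _ => lam.injective ((ruMat_apply _ _).symm.trans (ruAut_apply h1 h2 h3 _))

theorem ruMat_cj (f : fourRu) : CJ (ruMat f) := CJ.of fun c => lam.injective (by
  rw [← ruMat_apply, lam_J, lam_J, f.2.2.1, ruMat_apply])

theorem ruMat_norm (f : fourRu) (c : V56) : (rW *ᵥ (ruMat f *ᵥ c)) ⬝ᵥ (rW *ᵥ (ruMat f *ᵥ c)) = (rW *ᵥ c) ⬝ᵥ (rW *ᵥ c) := by
  rw [← rcv_lam, ← rcv_lam, ← ruNorm_eq, ← ruNorm_eq, ← ruMat_apply, f.2.2.2]

theorem ruMat_dot (f : fourRu) (c d : V56) :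
    (rW *ᵥ (ruMat f *ᵥ c)) ⬝ᵥ (rW *ᵥ (ruMat f *ᵥ d)) = (rW *ᵥ c) ⬝ᵥ (rW *ᵥ d) := by
  have h1 := ruMat_norm f (c + d)
  simp only [mulVec_add, add_dotProduct, dotProduct_add, ruMat_norm] at h1
  rw [dotProduct_comm (rW *ᵥ d) (rW *ᵥ c), dotProduct_comm (rW *ᵥ (ruMat f *ᵥ d)) (rW *ᵥ (ruMat f *ᵥ c))] at h1
  omega

/-- Reduction modulo `1 + i`. -/
def red28 (A : M56) : Matrix (Fin 28) (Fin 28) (ZMod 2) := of fun i k => ((A (rEv i) (rEv k) + A (rOd i) (rEv k) : ℤ) : ZMod 2)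

theorem red28_mul {A : M56} (h : CJ A) (B : M56) : red28 (A * B) = red28 A * red28 B := by
  ext i k
  simp only [red28, of_apply, mul_apply, sum56, (h _ _).1, (h _ _).2, ← sum_add_distrib, Int.cast_sum]
  refine sum_congr rfl fun m _ => ?_
  push_cast
  rw [CharTwo.neg_eq]; ring

noncomputable def ruRho : fourRu →* Matrix (Fin 28) (Fin 28) (ZMod 2) where
  toFun f := red28 (ruMat f)
  map_one' := by
    have h1 : ∀ k m : Fin 28, rOd k ≠ rEv m := by decide
    have h3 : ∀ k m : Fin 28, rEv k = rEv m ↔ k = m := by decide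
    ext i k; simp [red28, one_apply, h1, h3]
  map_mul' f g := by rw [map_mul, red28_mul (ruMat_cj f)]

/-- The checks on the code of an automorphism, its inverse, and its reduction. -/
noncomputable def autOK (A A' c : ℕ) : Bool :=
  band (band (zmOK A A' zId 1) (cjOK A)) (band (band (zmOK ruG A (rzmul ruG A) 1) (zmOK (ztr A) (rzmul ruG A) ruG 1))
    (band (codeOK 2 (28 * 28) 1 c) (all1 (fun i => all1 (fun k => Nat.beq (pget c 1 1 (Nat.add (Nat.mul 28 k) i))
      (Nat.mod (Nat.add (rzf A (Nat.mul 2 i) (Nat.mul 2 k)) (rzf A (Nat.succ (Nat.mul 2 i)) (Nat.mul 2 k))) 2)) 0 28) 0 28)))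

theorem autOK_spec {A A' c : ℕ} (h : autOK A A' c = true) : ∃ f : fourRu, ruMat f = zm A ∧ c = code 1 (ruRho f) := by
  rw [autOK, band_iff, band_iff, band_iff, band_iff, band_iff] at h
  obtain ⟨⟨h1, h2⟩, ⟨h3, h4⟩, h5, h6⟩ := h
  have e1 := zmOK_spec h1
  have e3 := zmOK_spec h3
  have e4 := zmOK_spec h4
  rw [Nat.cast_one, one_smul] at e1 e3 e4
  rw [zm_zId] at e1
  rw [zm_ztr, ← e3] at e4
  refine ⟨_, ruMat_aut e1 (cjOK_spec h2) e4, code_eq_of one_pos h5 fun i k => ?_⟩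
  show red28 (ruMat _) i k = ((pget c 1 1 (28 * k + i) : ℕ) : ZMod 2)
  have e : pget c 1 1 (28 * k + i) = (rzf A (rEv i) (rEv k) + rzf A (rOd i) (rEv k)) % 2 :=
    Nat.eq_of_beq_eq_true (all1_lt (all1_lt h6 i i.2) k k.2)
  rw [ruMat_aut, e, ZMod.natCast_mod, red28, of_apply, zm_apply, zm_apply]
  push_cast
  rw [show (128 : ZMod 2) = 0 from rfl]; ring

end H29
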