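import Cfsg.Agent.H29.RuE

set_option autoImplicit false
set_option maxRecDepth 100000
set_option linter.style.haveILetI false
set_option exponentiation.threshold 1000

/-! The rank-28 Gaussian lattice modulo two and modulo four: bit masks and syndromes. -/

namespace H29

open Cfsg.Spor Finset Matrix

noncomputable def rbt (a s : ℕ) : ℕ := Nat.land (Nat.shiftRight a s) (nat_lit 1)

theorem rbt_eq (a s : ℕ) : rbt a s = (a.testBit s).toNat := by
  show (a >>> s) &&& 1 = _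
  rw [Nat.toNat_testBit, Nat.and_one_is_mod, Nat.shiftRight_eq_div_pow]
theorem rbt_le (a s : ℕ) : rbt a s ≤ 1 := Nat.and_le_right
theorem rbt_xor (a b s : ℕ) : rbt (a ^^^ b) s = (rbt a s + rbt b s) % 2 := by
  simp only [rbt_eq, Nat.testBit_xor]; cases a.testBit s <;> cases b.testBit s <;> rfl
theorem rbt_and (a b s : ℕ) : rbt (a &&& b) s = rbt a s * rbt b s := by
  simp only [rbt_eq, Nat.testBit_and]; cases a.testBit s <;> cases b.testBit s <;> rfl
theorem rbt_zero (s : ℕ) : rbt 0 s = 0 := by simp [rbt_eq]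
theorem rbt_pow (t s : ℕ) : rbt (1 <<< t) s = if s = t then 1 else 0 := by
  rw [rbt_eq, Nat.one_shiftLeft, Nat.testBit_two_pow]
  by_cases h : s = t
  · simp [h]
  · simp [h, Ne.symm h]

/-! ### Spans over the field with two elements -/

def RSp : List ℕ → ℕ → Prop
  | [], a => a = 0
  | g :: gs, a => RSp gs a ∨ RSp gs (a ^^^ g)

theorem RSp.zero : ∀ gs, RSp gs 0
  | [] => rfl
  | _ :: gs => Or.inl (RSp.zero gs)

theorem RSp.xor : ∀ {gs a b}, RSp gs a → RSp gs b → RSp gs (a ^^^ b)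
  | [], _, _, h1, h2 => by rw [show _ = 0 from h1, show _ = 0 from h2]; rfl
  | g :: gs, a, b, h1, h2 => by
    rcases h1 with h1 | h1 <;> rcases h2 with h2 | h2 <;> have := RSp.xor h1 h2
    · exact Or.inl this
    · exact Or.inr (by rwa [Nat.xor_assoc])
    · exact Or.inr (by rwa [Nat.xor_right_comm])
    · exact Or.inl (by rwa [Nat.xor_assoc, Nat.xor_comm b g, Nat.xor_xor_cancel_left] at this)

noncomputable def rspB (gs : List ℕ) : ℕ → Bool :=
  List.rec (motive := fun _ => ℕ → Bool) (fun a => Nat.beq a 0)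
    (fun g _ ih a => force (Nat.xor a g) fun b => Bool.rec (motive := fun _ => Bool) (ih a) (ih b) (Nat.blt b a)) gs

theorem rspB_spec : ∀ {gs a}, rspB gs a = true → RSp gs a
  | [], _, h => Nat.eq_of_beq_eq_true h
  | g :: gs, a, h => by
    have h' : Bool.rec (motive := fun _ => Bool) (rspB gs a) (rspB gs (a ^^^ g)) (Nat.blt (a ^^^ g) a) = true := h
    cases hb : Nat.blt (a ^^^ g) a <;> rw [hb] at h'
    exacts [Or.inl (rspB_spec h'), Or.inr (rspB_spec h')]

noncomputable def allX (f : ℕ → Bool) (gs : List ℕ) : ℕ → Bool :=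
  List.rec (motive := fun _ => ℕ → Bool) f
    (fun g _ ih a => Bool.rec (motive := fun _ => Bool) false (force (Nat.xor a g) ih) (ih a)) gs

def AllX (f : ℕ → Bool) (gs : List ℕ) (a0 : ℕ) : Prop := ∀ a, RSp gs (a ^^^ a0) → f a = true

theorem AllX.cons {f : ℕ → Bool} {gs : List ℕ} {g a0 a1 : ℕ} (h1 : AllX f gs a0) (h2 : AllX f gs a1)
    (e : a0 ^^^ g = a1) : AllX f (g :: gs) a0 := fun a h =>
  h.elim (h1 a) fun h => h2 a (by rwa [← e, ← Nat.xor_assoc])

theorem allX_spec {f : ℕ → Bool} : ∀ {gs a0}, allX f gs a0 = true → AllX f gs a0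
  | [], _, h => fun a e => by rwa [Nat.xor_eq_zero_iff.1 (show a ^^^ _ = 0 from e)]
  | g :: gs, a0, h => by
    have h' : band (allX f gs a0) (allX f gs (a0 ^^^ g)) = true := h
    exact (allX_spec (band_iff.1 h').1).cons (allX_spec (band_iff.1 h').2) rfl

/-- The mask of the odd coordinates. -/
def RPar (x : V56) (a : ℕ) : Prop := ∀ s, (2 : ℤ) ∣ x s - rbt a s

theorem par_ex (c : V56) : ∃ a, RSp ruC a ∧ RPar (rW *ᵥ c) a := by
  let T : AddSubgroup V56 :=
    { carrier := {x | ∃ a, RSp ruC a ∧ RPar x a}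
      zero_mem' := ⟨0, RSp.zero _, fun s => by simp [rbt_zero]⟩
      add_mem' := fun ⟨a, h1, h2⟩ ⟨b, h3, h4⟩ => ⟨_, h1.xor h3, fun s => by
        have := h2 s; have := h4 s
        rw [rbt_xor, Pi.add_apply]; omega⟩
      neg_mem' := fun ⟨a, h1, h2⟩ => ⟨a, h1, fun s => by have := h2 s; rw [Pi.neg_apply]; omega⟩ }
  have h : ∀ j : Fin 56, rspB ruC (sum1 (fun s => Nat.shiftLeft (rzf ruW s j % 2) s) 0 56) = true ∧
      ∀ s : Fin 56, (2 : ℤ) ∣ rW s j - rbt (sum1 (fun s => Nat.shiftLeft (rzf ruW s j % 2) s) 0 56) s := by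
    decide +kernel
  have e : rW *ᵥ c = ∑ j, c j • fun s => rW s j := by
    ext s; simp [mulVec, dotProduct, mul_comm]
  show _ ∈ T
  exact e ▸ sum_mem fun j _ => zsmul_mem (show (fun s => rW s j) ∈ T from ⟨_, rspB_spec (h j).1, (h j).2⟩) _

/-! ### Weights -/

noncomputable def rpc (T a : ℕ) : ℕ :=
  Nat.land (Nat.shiftRight T (Nat.mul (nat_lit 4) (Nat.land a (nat_lit 16383)))) (nat_lit 15)
noncomputable def rpc56 (T a : ℕ) : ℕ :=
  Nat.add (Nat.add (rpc T a) (rpc T (Nat.shiftRight a (nat_lit 14))))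
    (Nat.add (rpc T (Nat.shiftRight a (nat_lit 28))) (rpc T (Nat.shiftRight a (nat_lit 42))))
/-- The table of weights of 14-bit numbers. -/
noncomputable def rT14 : ℕ := Nat.rec (motive := fun _ => ℕ × ℕ → ℕ) (fun x => x.1)
  (fun n ih x => force (Nat.pow 2 (Nat.sub 15 n)) fun l => force (Nat.add x.1 (Nat.shiftLeft (Nat.add x.1 x.2) l)) fun a =>
    force (Nat.add x.2 (Nat.shiftLeft x.2 l)) fun b => ih (a, b)) 14 (0, 1)

theorem rpc_eq (a : ℕ) : rpc rT14 a = ∑ t ∈ range 14, rbt a t := by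
  have h : allR (fun y => Nat.beq (rpc rT14 y) (Nat.add (Nat.mod y 2) (rpc rT14 (Nat.div y 2)))) 0 16384 = true := by
    decide +kernel
  have h1 : ∀ n ≤ 14, ∀ y < 2 ^ n, rpc rT14 y = ∑ t ∈ range n, rbt y t := by
    intro n
    induction n with
    | zero => intro _ y hy; obtain rfl : y = 0 := by omega
              decide +kernel
    | succ n ih =>
      intro hn y hy
      have h2 : rpc rT14 y = y % 2 + rpc rT14 (y / 2) :=
        Nat.eq_of_beq_eq_true (allR_lt h y (hy.trans_le (Nat.pow_le_pow_right (by norm_num) hn)))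
      rw [h2, ih (by omega) _ (by omega), sum_range_succ', add_comm]
      congr 1
      · exact sum_congr rfl fun t _ => by rw [rbt_eq, rbt_eq, Nat.testBit_succ]
      · rw [rbt_eq, Nat.toNat_testBit]; simp
  have h2 : rpc rT14 a = rpc rT14 (a % 2 ^ 14) := by
    have : ∀ y, Nat.land y 16383 = y % 2 ^ 14 := fun y => Nat.and_two_pow_sub_one_eq_mod y 14
    simp only [rpc, this, Nat.mod_mod]
  rw [h2, h1 14 le_rfl _ (Nat.mod_lt _ (by norm_num))]
  exact sum_congr rfl fun t ht => by rw [rbt_eq, rbt_eq, Nat.testBit_mod_two_pow]; simp [mem_range.1 ht]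

noncomputable def rwt (a : ℕ) : ℕ := ∑ s : Fin 56, rbt a s

theorem rpc56_eq (a : ℕ) : rpc56 rT14 a = rwt a := by
  have h : ∀ k t, rbt (Nat.shiftRight a k) t = rbt a (k + t) := fun k t => by
    rw [rbt_eq, rbt_eq]; exact congrArg _ (Nat.testBit_shiftRight a)
  rw [rwt, Fin.sum_univ_eq_sum_range (rbt a), show 56 = 14 + 14 + 14 + 14 from rfl, sum_range_add, sum_range_add, sum_range_add]
  simp only [rpc56, rpc_eq, h, Nat.add_eq]
  ring

/-! ### Sums over the bits of a mask -/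

/-- The place of the lowest bit (nothing is proved about it). -/
noncomputable def rlow (n : ℕ) : ℕ := Nat.land (Nat.shiftRight (nat_lit 0x1d7957e35af80d9365d0c1b84b389967dec629445c407148ae3353da2889aba04013b74647a834b3182c81000)
  (Nat.mul (nat_lit 6) (Nat.mod (Nat.xor n (Nat.land n (Nat.sub n (nat_lit 1)))) (nat_lit 59)))) (nat_lit 63)

noncomputable def rsb (f : ℕ → ℕ) (k : ℕ → Bool) (fuel : ℕ) : ℕ → ℕ → Bool :=
  Nat.rec (motive := fun _ => ℕ → ℕ → Bool) (fun _ _ => false)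
    (fun _ ih n acc => Bool.rec (motive := fun _ => Bool) (force (rlow n) fun s =>
      band (Nat.blt s (Nat.mul (nat_lit 56) (rbt n s)))
      (force (Nat.xor n (Nat.shiftLeft (nat_lit 1) s)) fun n' => force (Nat.add acc (f s)) (ih n'))) (k acc)
      (Nat.beq n (nat_lit 0))) fuel

theorem rsb_aux {f : ℕ → ℕ} {k : ℕ → Bool} (fuel : ℕ) : ∀ {n acc}, rsb f k fuel n acc = true →
    k (acc + ∑ s : Fin 56, rbt n s * f s) = true := by
  induction fuel with
  | zero => intro n acc h; exact absurd h (by simp [rsb])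
  | succ fuel ih =>
    intro n acc h
    have h' : Bool.rec (motive := fun _ => Bool) (band (Nat.blt (rlow n) (56 * rbt n (rlow n)))
      (rsb f k fuel (n ^^^ 1 <<< rlow n) (acc + f (rlow n)))) (k acc) (Nat.beq n 0) = true := h
    generalize rlow n = t at h'
    cases hb : Nat.beq n 0 <;> rw [hb] at h'
    · have h2 := band_iff.1 h'
      have h3 := ih h2.2
      have h5 : t < 56 * rbt n t := by simpa using h2.1
      have h6 := rbt_le n t
      have h1 : rbt n t = 1 := by omega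
      have h4 : t < 56 := by omega
      convert h3 using 2
      rw [add_assoc, ← add_sum_erase _ _ (mem_univ (⟨_, h4⟩ : Fin 56)), ← add_sum_erase _ _ (mem_univ (⟨_, h4⟩ : Fin 56))]
      simp only [rbt_xor, rbt_pow, h1, if_true, one_mul, Nat.reduceAdd, Nat.mod_self, zero_mul, zero_add]
      congr 2
      refine sum_congr rfl fun s hs => ?_
      rw [if_neg fun e => ne_of_mem_erase hs (Fin.ext e), add_zero, Nat.mod_eq_of_lt (Nat.lt_succ_of_le (rbt_le _ _))]
    · rw [Nat.eq_of_beq_eq_true hb]; simpa [rbt_zero] using h'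

noncomputable def rsum (f : ℕ → ℕ) (n : ℕ) (k : ℕ → Bool) : Bool := force n fun n => rsb f k (nat_lit 57) n (nat_lit 0)

theorem rsum_spec {f : ℕ → ℕ} {n : ℕ} {k : ℕ → Bool} (h : rsum f n k = true) :
    k (∑ s : Fin 56, rbt n s * f s) = true := by
  rw [rsum, force_eq] at h; simpa using rsb_aux _ h

theorem pk_lin {w m : ℕ} (c : Fin 56 → ℕ) (f : Fin 56 → ℕ → ℕ) :
    ∑ s, c s * pk w m (f s) = pk w m fun j => ∑ s, c s * f s j := by
  simp only [pk, mul_sum, sum_mul]
  rw [sum_comm]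
  exact sum_congr rfl fun _ _ => sum_congr rfl fun _ _ => by ring

theorem pk_sum1 (w m : ℕ) (f : ℕ → ℕ) : pk w m f = sum1 (fun t => Nat.shiftLeft (f t) (Nat.mul w t)) 0 m := by
  rw [sum1_eq, pk]
  exact sum_congr rfl fun t _ => by simp [Nat.shiftLeft_eq]

/-! ### Syndromes -/

noncomputable def rfl10 (R s : ℕ) : ℕ := Nat.land (Nat.shiftRight R (Nat.mul (nat_lit 10) s)) (nat_lit 1023)
noncomputable def rrb (j s : ℕ) : ℕ := rfl10 (ruRow j) s

theorem rfl10_mod (R s : ℕ) : rfl10 R s % 2 = rbt R (10 * s) := by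
  rw [← Nat.and_one_is_mod]; exact Nat.and_assoc _ _ _

theorem rfl10_pk {f : ℕ → ℕ} (h : ∀ t < 56, f t < 2 ^ 10) {j : ℕ} (hj : j < 56) : rfl10 (pk 10 56 f) j = f j :=
  pk_dig h hj

theorem rrb_facts : (∀ j s : Fin 56, (4 : ℤ) ∣ rW s j - rrb j s ∧ rrb j s ≤ 3) ∧
    (∀ j : Fin 56, ruRow j = pk 10 56 (rrb j) ∧ rrb j 56 = 0) ∧ ∀ s < 57, ruCol s = pk 10 56 fun j => rrb j s := by
  simp only [pk_sum1]
  decide +kernel

/-- The vector `a + 2 e` has products divisible by four with the basis. -/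
def RSY (a e : ℕ) : Prop := ∀ j : Fin 56, 4 ∣ ∑ s : Fin 56, (rbt a s + 2 * rbt e s) * rrb j s

theorem RSY.of {c : V56} {a e : ℕ} (h : ∀ s, (4 : ℤ) ∣ (rW *ᵥ c) s - rbt a s - 2 * rbt e s) : RSY a e := fun j => by
  have h1 := dot_W c (Pi.single j 1)
  rw [mulVec_single_one, dotProduct] at h1
  rw [← Int.natCast_dvd_natCast]
  refine (dvd_sub_right (Dvd.intro _ h1.symm)).1 ?_
  push_cast
  rw [← sum_sub_distrib]
  refine dvd_sum fun s _ => ?_
  obtain ⟨u, hu⟩ := h s
  obtain ⟨v, hv⟩ := (rrb_facts.1 j s).1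
  exact ⟨u * rW s j + (rbt a s + 2 * rbt e s) * v, by
    rw [col_apply]; linear_combination rW s j * hu + (rbt a s + 2 * rbt e s) * hv⟩

theorem RSY.xor {a e n : ℕ} (h1 : RSY a e) (h2 : RSY 0 n) : RSY a (e ^^^ n) := fun j => by
  have h := Nat.dvd_add (h1 j) (h2 j)
  rw [← sum_add_distrib, ← Int.natCast_dvd_natCast] at h
  rw [← Int.natCast_dvd_natCast]
  refine (dvd_sub_right h).1 ?_
  push_cast
  rw [← sum_sub_distrib]
  refine dvd_sum fun s _ => ?_
  rw [rbt_xor, rbt_zero, ← add_mul, ← sub_mul]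
  exact dvd_mul_of_dvd_left (by omega) _

theorem RSY.sub {a e n : ℕ} (h1 : RSY a e) (h2 : RSY a n) : RSY 0 (e ^^^ n) := fun j => by
  have h := dvd_sub (Int.natCast_dvd_natCast.2 (h1 j)) (Int.natCast_dvd_natCast.2 (h2 j))
  rw [← Int.natCast_dvd_natCast]
  refine (dvd_sub_right h).1 ?_
  push_cast
  rw [← sum_sub_distrib, ← sum_sub_distrib]
  refine dvd_sum fun s _ => ?_
  rw [rbt_xor, rbt_zero, ← sub_mul, ← sub_mul]
  exact dvd_mul_of_dvd_left (by omega) _

noncomputable def rM1 : ℕ := nat_lit 0x401004010040100401004010040100401004010040100401004010040100401004010040100401004010040100401004010040100401004010040100401004010040100401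
theorem rM1_eq : rM1 = pk 10 56 fun _ => 2 ^ 1 - 1 := by rw [pk_sum1]; decide +kernel

noncomputable def rsyB (a n : ℕ) : Bool := rsum ruCol a fun A => rsum ruCol n fun N =>
  Nat.beq (Nat.land (Nat.add A (Nat.mul (nat_lit 2) N)) (Nat.mul rM1 (nat_lit 3))) (nat_lit 0)

theorem sum_rrb_le (c : Fin 56 → ℕ) (hc : ∀ s, c s ≤ 3) (f : Fin 56 → ℕ) (hf : ∀ s, f s ≤ 3) : ∑ s, c s * f s < 2 ^ 10 :=
  (sum_le_card_nsmul univ _ (3 * 3) fun s _ => Nat.mul_le_mul (hc s) (hf s)).trans_lt (by simp)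

theorem rsyB_spec {a n : ℕ} (h : rsyB a n = true) : RSY a n := fun j => by
  rw [rsyB] at h
  have h0 := rsum_spec h
  beta_reduce at h0
  have h0' := rsum_spec h0
  beta_reduce at h0'
  have h1 := Nat.eq_of_beq_eq_true h0'
  change (∑ s : Fin 56, rbt a s * ruCol s + 2 * ∑ s : Fin 56, rbt n s * ruCol s) &&& (rM1 * 3) = 0 at h1
  have h2 : ∀ s : Fin 56, ruCol s = _ := fun s => rrb_facts.2.2 s (by omega)
  rw [mul_sum, ← sum_add_distrib] at h1
  simp only [← mul_assoc, ← add_mul] at h1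
  simp only [h2, pk_lin] at h1
  have h3 := congrArg (rfl10 · j) h1
  have h4 : rfl10 (rM1 * 3) j = 3 := (by decide +kernel : ∀ j : Fin 56, rfl10 (rM1 * 3) j = 3) j
  have h5 : ∀ u v, rfl10 (u &&& v) j = rfl10 u j &&& rfl10 v j := fun u v => by
    show ((u &&& v) >>> _) &&& 1023 = (u >>> _ &&& 1023) &&& (v >>> _ &&& 1023)
    refine Nat.eq_of_testBit_eq fun i => ?_
    simp only [Nat.testBit_and, Nat.testBit_shiftRight]
    cases Nat.testBit 1023 i <;> simp
  simp only [h5, h4] at h3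
  rw [rfl10_pk (fun t ht => sum_rrb_le _ (fun s => by have := rbt_le a s; have := rbt_le n s; omega) _
    fun s => (rrb_facts.1 ⟨t, ht⟩ s).2) j.2, show 3 = 2 ^ 2 - 1 from rfl, Nat.and_two_pow_sub_one_eq_mod] at h3
  exact Nat.dvd_of_mod_eq_zero (h3.trans (by simp [rfl10]))

/-- A row: the residues of a lattice vector. -/
def ROK (R : ℕ) : Prop := (∀ a e, RSY a e → 4 ∣ ∑ s : Fin 56, (rbt a s + 2 * rbt e s) * rfl10 R s) ∧ rfl10 R 56 = 0

theorem rok_sum (μ : ℕ) : ROK (∑ j : Fin 56, rbt μ j * ruRow j) := by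
  have h1 : ∀ j : Fin 56, ruRow j = _ := fun j => (rrb_facts.2.1 j).1
  have h2 : ∀ t < 56, ∑ j : Fin 56, rbt μ j * rrb j t < 2 ^ 10 := fun t ht =>
    sum_rrb_le _ (fun s => (rbt_le μ s).trans (by norm_num)) _ fun j => (rrb_facts.1 j ⟨t, ht⟩).2
  simp only [h1, pk_lin]
  refine ⟨fun a e h => ?_, ?_⟩
  · simp only [rfl10_pk h2 (Fin.is_lt _), mul_sum]
    rw [sum_comm]
    refine dvd_sum fun j _ => ?_
    simp only [mul_left_comm _ (rbt μ j), ← mul_sum]
    exact dvd_mul_of_dvd_right (h j) _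
  · show (_ >>> (10 * 56)) &&& 1023 = 0
    rw [Nat.shiftRight_eq_div_pow, Nat.div_eq_of_lt (pk_lt h2), Nat.zero_and]

end H29
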