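import Cfsg.Agent.H29.Ru3

set_option autoImplicit false
set_option maxRecDepth 100000
set_option linter.style.haveILetI false
set_option exponentiation.threshold 1000

/-! The rank-28 Gaussian lattice: the checks that determine the short vectors. -/

namespace H29

open Cfsg.Spor Finset Matrix

noncomputable def rf56 (E k : ℕ) : ℕ := Nat.land (Nat.shiftRight E (Nat.mul (nat_lit 56) k)) (nat_lit 0xffffffffffffff)
noncomputable def rfs (E lo n : ℕ) : List ℕ :=
  Nat.rec (motive := fun _ => List ℕ) [] (fun k ih => rf56 E (Nat.add lo k) :: ih) n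

theorem rfs_length (E lo n : ℕ) : (rfs E lo n).length = n := by
  induction n with
  | zero => rfl
  | succ n ih => exact congrArg Nat.succ ih

noncomputable def rcand (cs : List ℕ) : ℕ → ℕ → ℕ :=
  List.rec (motive := fun _ => ℕ → ℕ → ℕ) (fun n _ => n)
    (fun c _ ih n i => force (Bool.rec (motive := fun _ => ℕ) (Nat.xor n c) n (Nat.beq (Nat.mod i (nat_lit 2)) (nat_lit 0)))
      fun n' => force (Nat.div i (nat_lit 2)) (ih n')) cs

theorem rcand_cons (c : ℕ) (cs : List ℕ) (n i : ℕ) :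
    rcand (c :: cs) n i = rcand cs (if i % 2 = 0 then n else n ^^^ c) (i / 2) := by
  show rcand cs (Bool.rec (motive := fun _ => ℕ) (n ^^^ c) n (Nat.beq (i % 2) 0)) (i / 2) = _
  rcases Nat.mod_two_eq_zero_or_one i with h | h <;> rw [h] <;> rfl

theorem rcand_ind {P : ℕ → Prop} : ∀ {cs : List ℕ}, (∀ c ∈ cs, ∀ n, P n → P (n ^^^ c)) → ∀ n i, P n → P (rcand cs n i)
  | [], _, _, _, h => h
  | c :: cs, hc, n, i, h => by
    rw [rcand_cons]
    refine rcand_ind (fun d hd => hc d (List.mem_cons_of_mem _ hd)) _ _ ?_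
    split_ifs
    exacts [h, hc c List.mem_cons_self n h]

theorem rcand_xor (d : ℕ) : ∀ (cs : List ℕ) (n i : ℕ), rcand cs (d ^^^ n) i = d ^^^ rcand cs n i
  | [], _, _ => rfl
  | c :: cs, n, i => by
    rw [rcand_cons, rcand_cons, ← rcand_xor d cs]
    split_ifs
    exacts [rfl, by rw [Nat.xor_assoc]]

noncomputable def rtri (cs : List ℕ) : Bool :=
  List.rec (motive := fun _ => Bool) true (fun c cs ih => band (band (Nat.beq (rbt c (Nat.log2 c)) 1)
    (allL (fun d => Nat.beq (rbt d (Nat.log2 c)) 0) cs)) ih) cs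

theorem exists_cand : ∀ {cs : List ℕ}, rtri cs = true → ∀ d, ∃ i < 2 ^ cs.length, ∀ c ∈ cs, rbt (rcand cs d i) c.log2 = 0
  | [], _, _ => ⟨0, by simp, by simp⟩
  | c :: cs, h, d => by
    have h' : band (band (Nat.beq (rbt c c.log2) 1) (allL (fun d => Nat.beq (rbt d c.log2) 0) cs)) (rtri cs) = true := h
    rw [band_iff, band_iff] at h'
    have h1 := Nat.eq_of_beq_eq_true h'.1.1
    have h2 := rbt_le d c.log2
    obtain ⟨i, hi, h3⟩ := exists_cand h'.2 (if rbt d c.log2 = 0 then d else d ^^^ c)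
    refine ⟨2 * i + rbt d c.log2, by rw [List.length_cons, pow_succ]; omega, ?_⟩
    rw [rcand_cons, show (2 * i + rbt d c.log2) / 2 = i by omega, show (2 * i + rbt d c.log2) % 2 = rbt d c.log2 by omega]
    refine List.forall_mem_cons.2 ⟨rcand_ind (P := fun n => rbt n c.log2 = 0) (fun e he n hn => ?_) _ _ ?_, h3⟩
    · rw [rbt_xor, hn, Nat.eq_of_beq_eq_true (allL_spec h'.1.2 e he)]
    · split_ifs with h4
      · exact h4
      · rw [rbt_xor]; omega

noncomputable def rq10 (T : ℕ) : ℕ := Nat.land (Nat.shiftRight (nat_lit 0x1cb00000054000064030000074d010033000a610000008c000000002d08002e0000009c0980035000680b091b4d80000000100000ac03ea6c00000006007a80300402800000c0017440014224dc0000bc09530007e000000000001c000880c40580152c8e000000)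
  (Nat.mul (nat_lit 6) (Nat.mod T (nat_lit 139)))) (nat_lit 63)

noncomputable def relim (μs : List ℕ) : ℕ → Bool :=
  List.rec (motive := fun _ => ℕ → Bool) (fun S => Nat.beq S (nat_lit 0))
    (fun μ _ ih S => rsum ruRow μ fun R => force (Nat.land R S) fun T =>
      band (Nat.beq T (Nat.shiftLeft (nat_lit 1) (Nat.mul (nat_lit 10) (rq10 T))))
        (force (Nat.xor S T) ih)) μs

theorem rsub_xor {d S q : ℕ} (h : ∀ s : Fin 56, rbt d s ≤ rbt S (10 * s)) (hq : q < 56 → rbt d q = 0) (s : Fin 56) :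
    rbt d s ≤ rbt (S ^^^ 1 <<< (10 * q)) (10 * s) := by
  by_cases e : s.val = q
  · rw [e, hq (e ▸ s.2)]; exact Nat.zero_le _
  · rw [rbt_xor, rbt_pow, if_neg (by omega), add_zero, Nat.mod_eq_of_lt (Nat.lt_succ_of_le (rbt_le _ _))]; exact h s

theorem relim_spec {d : ℕ} (hd : RSY 0 d) : ∀ {μs S}, relim μs S = true → (∀ s : Fin 56, rbt d s ≤ rbt S (10 * s)) →
    ∀ s : Fin 56, rbt d s = 0
  | [], S, h, hs => fun s => by
    have := hs s
    rwa [Nat.eq_of_beq_eq_true (n := S) (m := 0) h, rbt_zero, Nat.le_zero] at this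
  | μ :: μs, S, h, hs => by
    have h0 : rsum ruRow μ (fun R => band (Nat.beq (R &&& S) (1 <<< (10 * rq10 (R &&& S))))
      (relim μs (S ^^^ (R &&& S)))) = true := h
    have h1 := rsum_spec h0
    have h2 := (rok_sum μ).1 0 d hd
    generalize ∑ j : Fin 56, rbt μ j * ruRow j = R at h1 h2
    rw [band_iff] at h1
    have h3 := Nat.eq_of_beq_eq_true h1.1
    generalize rq10 (R &&& S) = q at h3
    refine relim_spec hd h1.2 (h3 ▸ rsub_xor hs fun hq => ?_)
    have h4 : ∀ s, rbt R (10 * s) * rbt S (10 * s) = if s = q then 1 else 0 := fun s => by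
      rw [← rbt_and, h3, rbt_pow]; simp
    rw [← add_sum_erase _ _ (mem_univ (⟨q, hq⟩ : Fin 56)), Nat.dvd_add_left (dvd_sum fun s h5 => ?_)] at h2
    · have h5 := h4 q
      have h6 := rfl10_mod R q
      rw [if_pos rfl] at h5
      rw [Nat.eq_one_of_mul_eq_one_right h5] at h6
      rcases Nat.le_one_iff_eq_zero_or_eq_one.1 (rbt_le d q) with h7 | h7
      · exact h7
      · simp only [rbt_zero, h7] at h2; omega
    · have h6 := h4 s
      have h7 := rfl10_mod R s
      have h8 := hs s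
      have h9 := rbt_le R (10 * s)
      rw [if_neg fun e => ne_of_mem_erase h5 (Fin.ext e), Nat.mul_eq_zero] at h6
      rcases Nat.le_one_iff_eq_zero_or_eq_one.1 (rbt_le d s) with h10 | h10 <;> simp only [rbt_zero, h10] <;> omega

noncomputable def rspr (s : ℕ) : ℕ := Nat.shiftLeft (nat_lit 1) (Nat.mul (nat_lit 10) s)

theorem rbt_spr (a : ℕ) (s : Fin 56) : rbt (∑ t : Fin 56, rbt a t * rspr t) (10 * s) = rbt a s := by
  have h : ∑ t : Fin 56, rbt a t * rspr t = pk 10 56 (rbt a) := by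
    rw [pk, ← Fin.sum_univ_eq_sum_range (fun t => rbt a t * 2 ^ (10 * t))]
    exact sum_congr rfl fun t _ => congrArg _ (Nat.one_shiftLeft _)
  rw [h, ← rfl10_mod, rfl10_pk (fun t _ => (rbt_le a t).trans_lt (by norm_num)) s.2,
    Nat.mod_eq_of_lt (Nat.lt_succ_of_le (rbt_le _ _))]

noncomputable def rdel (cs : List ℕ) : ℕ → ℕ :=
  List.rec (motive := fun _ => ℕ → ℕ) (fun S => S) (fun c _ ih S => force (Nat.xor S (rspr (Nat.log2 c))) ih) cs

theorem rdel_spec {d : ℕ} : ∀ {cs : List ℕ} {S}, (∀ c ∈ cs, rbt d c.log2 = 0) → (∀ s : Fin 56, rbt d s ≤ rbt S (10 * s)) →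
    ∀ s : Fin 56, rbt d s ≤ rbt (rdel cs S) (10 * s)
  | [], _, _, h => h
  | c :: cs, _, hc, h => rdel_spec (cs := cs) (fun e he => hc e (List.mem_cons_of_mem _ he))
    (rsub_xor h fun _ => hc c List.mem_cons_self)

theorem rbt_le_of_land {c a : ℕ} (h : Nat.beq (Nat.land c a) c = true) (s : ℕ) : rbt c s ≤ rbt a s := by
  rw [← Nat.eq_of_beq_eq_true h]
  exact (rbt_and c a s).trans_le (by have := rbt_le c s; nlinarith)

noncomputable def goodB (T a n0 : ℕ) (cs μs : List ℕ) : Bool :=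
  band (band (band (Nat.beq (rpc56 T a) (nat_lit 16)) (rsyB a n0)) (band (Nat.beq (Nat.land n0 a) n0) (rtri cs)))
    (band (allL (fun c => band (rsyB (nat_lit 0) c) (Nat.beq (Nat.land c a) c)) cs)
      (rsum rspr a fun S => force (rdel cs S) (relim μs)))

theorem goodB_spec {a n0 : ℕ} {cs μs : List ℕ} (h : goodB rT14 a n0 cs μs = true) : rwt a = 16 ∧ ∀ e, RSY a e →
    (∀ s : Fin 56, rbt e s ≤ rbt a s) → ∃ i < 2 ^ cs.length, ∀ s : Fin 56, rbt e s = rbt (rcand cs n0 i) s := by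
  rw [goodB, band_iff, band_iff, band_iff, band_iff, band_iff] at h
  obtain ⟨⟨⟨h1, h2⟩, h3, h4⟩, h5, h6⟩ := h
  refine ⟨rpc56_eq a ▸ Nat.eq_of_beq_eq_true h1, fun e he hs => ?_⟩
  obtain ⟨i, hi, h7⟩ := exists_cand h4 (e ^^^ n0)
  rw [rcand_xor] at h7
  have h8 : RSY a (rcand cs n0 i) := rcand_ind (P := RSY a)
    (fun c hc n hn => hn.xor (rsyB_spec (band_iff.1 (allL_spec h5 c hc)).1)) _ _ (rsyB_spec h2)
  have h9 : ∀ s, rbt (rcand cs n0 i) s ≤ rbt a s := rcand_ind (P := fun n => ∀ s, rbt n s ≤ rbt a s)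
    (fun c hc n hn s => by
      have := rbt_le_of_land (band_iff.1 (allL_spec h5 c hc)).2 s
      have := hn s
      have := rbt_le a s
      rw [rbt_xor]; omega) _ _ (rbt_le_of_land h3)
  have h10 := rsum_spec h6
  rw [force_eq] at h10
  refine ⟨i, hi, fun s => ?_⟩
  have h11 := relim_spec (he.sub h8) h10 (rdel_spec h7 fun s => by
    have := hs s
    have := h9 s
    have := rbt_le a s
    rw [rbt_spr, rbt_xor]; omega) s
  have := rbt_le e s
  have := rbt_le (rcand cs n0 i) s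
  rw [rbt_xor] at h11; omega

noncomputable def rrows (a S : ℕ) (μs : List ℕ) : (List (ℕ × ℕ) → Bool) → Bool :=
  List.rec (motive := fun _ => (List (ℕ × ℕ) → Bool) → Bool) (fun k => k [])
    (fun μ _ ih k => rsum ruRow μ fun R => band (Nat.beq (Nat.land R S) (nat_lit 0))
      (rsum (rfl10 R) a fun t => ih fun l => k ((R, t) :: l))) μs

theorem rrows_spec {a S : ℕ} : ∀ {μs k}, rrows a S μs k = true → ∃ l, k l = true ∧
    ∀ x ∈ l, ROK x.1 ∧ x.1 &&& S = 0 ∧ x.2 = ∑ s : Fin 56, rbt a s * rfl10 x.1 s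
  | [], _, h => ⟨[], h, by simp⟩
  | μ :: μs, k, h => by
    have h0 : rsum ruRow μ (fun R => band (Nat.beq (R &&& S) 0)
      (rsum (rfl10 R) a fun t => rrows a S μs fun l => k ((R, t) :: l))) = true := h
    have h1 := rsum_spec h0
    rw [band_iff] at h1
    have h4 := rsum_spec h1.2
    beta_reduce at h4
    obtain ⟨l, h2, h3⟩ := rrows_spec h4
    exact ⟨_, h2, List.forall_mem_cons.2 ⟨⟨rok_sum μ, Nat.eq_of_beq_eq_true h1.1, rfl⟩, h3⟩⟩

noncomputable def rany (p q : ℕ) (l : List (ℕ × ℕ)) : Bool :=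
  List.rec (motive := fun _ => Bool) false (fun x _ ih => Bool.rec (motive := fun _ => Bool) true ih
    (Nat.beq (Nat.mod (Nat.add x.2 (Nat.mul (nat_lit 2) (Nat.add (rfl10 x.1 p) (rfl10 x.1 q)))) (nat_lit 4)) (nat_lit 0))) l

theorem rany_spec {p q : ℕ} : ∀ {l}, rany p q l = true → ∃ x ∈ l, (x.2 + 2 * (rfl10 x.1 p + rfl10 x.1 q)) % 4 ≠ 0
  | [], h => absurd h (by simp [rany])
  | x :: l, h => by
    have h' : Bool.rec (motive := fun _ => Bool) true (rany p q l)
      (Nat.beq ((x.2 + 2 * (rfl10 x.1 p + rfl10 x.1 q)) % 4) 0) = true := h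
    cases hb : Nat.beq ((x.2 + 2 * (rfl10 x.1 p + rfl10 x.1 q)) % 4) 0 <;> rw [hb] at h'
    · exact ⟨x, List.mem_cons_self, Nat.ne_of_beq_eq_false hb⟩
    · obtain ⟨y, hy, h2⟩ := rany_spec h'
      exact ⟨y, List.mem_cons_of_mem _ hy, h2⟩

/-- No vector has the odd coordinates `a` of weight `w` and at most two further coordinates `p`, `q ≥ lo` that are `2` modulo `4`. -/
noncomputable def badB (T a w lo : ℕ) (μs : List ℕ) : Bool :=
  band (Nat.beq (rpc56 T a) w) (rsum rspr a fun S => rrows a S μs fun l =>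
    all1 (fun p => all1 (fun q => rany p q l) lo (Nat.sub (nat_lit 57) lo)) lo (Nat.sub (nat_lit 57) lo))

noncomputable def rout (a e : ℕ) : Finset (Fin 56) := univ.filter fun s => rbt a s = 0 ∧ rbt e s = 1

theorem badB_spec {a w lo : ℕ} {μs : List ℕ} (h : badB rT14 a w lo μs = true) : rwt a = w ∧ ∀ e, RSY a e →
    ∀ p q, lo ≤ p → p ≤ 56 → lo ≤ q → q ≤ 56 → ¬ ∀ g : ℕ → ℕ, g 56 = 0 → ∑ s ∈ rout a e, g s = g p + g q := by
  rw [badB, band_iff] at h
  refine ⟨rpc56_eq a ▸ Nat.eq_of_beq_eq_true h.1, fun e he p q h1 h2 h3 h4 hg => ?_⟩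
  have h0 := rsum_spec h.2
  beta_reduce at h0
  obtain ⟨l, h5, h6⟩ := rrows_spec h0
  obtain ⟨x, hx, h7⟩ := rany_spec (all1_spec (all1_spec h5 p h1 (by simp only [Nat.sub_eq]; omega)) q h3
    (by simp only [Nat.sub_eq]; omega))
  obtain ⟨h8, h9, h10⟩ := h6 x hx
  have h11 := h8.1 a e he
  rw [← hg _ h8.2, h10, rout, sum_filter, mul_sum, ← sum_add_distrib] at h7
  refine h7 (Nat.mod_eq_zero_of_dvd ?_)
  rw [← Int.natCast_dvd_natCast] at h11 ⊢
  refine (dvd_sub_right h11).1 ?_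
  rw [Nat.cast_sum, Nat.cast_sum, ← sum_sub_distrib]
  refine dvd_sum fun s _ => ?_
  have h12 := congrArg (rbt · (10 * s)) h9
  beta_reduce at h12
  rw [rbt_and, rbt_spr, rbt_zero, ← rfl10_mod] at h12
  rcases Nat.le_one_iff_eq_zero_or_eq_one.1 (rbt_le a s) with h13 | h13 <;>
    rcases Nat.le_one_iff_eq_zero_or_eq_one.1 (rbt_le e s) with h14 | h14 <;>
    simp only [h13, h14, one_ne_zero, zero_ne_one, and_self, and_false, false_and, if_true, if_false, mul_one] at h12 ⊢ <;> omega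

theorem two_of_card {T : Finset (Fin 56)} (h : T.card ≤ 2) : ∃ p q : ℕ, (p < q ∧ q ≤ 56 ∨ p = 56 ∧ q = 56) ∧
    (∀ g : ℕ → ℕ, g 56 = 0 → ∑ s ∈ T, g s = g p + g q) ∧ ∀ s : Fin 56, s ∈ T ↔ s.val = p ∨ s.val = q := by
  obtain h | h | h : T.card = 0 ∨ T.card = 1 ∨ T.card = 2 := by omega
  · rw [card_eq_zero.1 h]
    exact ⟨56, 56, by simp, fun g hg => by simp [hg], fun s => by simp; omega⟩
  · obtain ⟨a, rfl⟩ := card_eq_one.1 h
    exact ⟨a, 56, by simp, fun g hg => by simp [hg], fun s => by simp [Fin.ext_iff]; omega⟩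
  · obtain ⟨a, b, hab, rfl⟩ := card_eq_two.1 h
    rcases lt_or_gt_of_ne hab with h1 | h1
    · exact ⟨a, b, Or.inl ⟨h1, b.2.le⟩, fun g _ => sum_pair hab, fun s => by simp [Fin.ext_iff]⟩
    · exact ⟨b, a, Or.inl ⟨h1, a.2.le⟩, fun g _ => (sum_pair hab).trans (add_comm _ _), fun s => by
        simp [Fin.ext_iff, or_comm]⟩

noncomputable def rpq (p q : ℕ) : ℕ := Nat.land (Nat.add (ruCol p) (ruCol q)) rM1

theorem rpq_eq {p q : ℕ} (hp : p ≤ 56) (hq : q ≤ 56) : rpq p q = pk 10 56 fun j => (rrb j p + rrb j q) % 2 := by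
  have h : ∀ j < 56, ∀ s ≤ 56, rrb j s ≤ 3 := fun j hj s hs => by
    rcases hs.eq_or_lt with rfl | hs
    · rw [(rrb_facts.2.1 ⟨j, hj⟩).2]; norm_num
    · exact (rrb_facts.1 ⟨j, hj⟩ ⟨s, hs⟩).2
  have h1 := pk_shift_mask (w := 10) (m := 56) (f := fun j => rrb j p + rrb j q) (s := 0) (v := 1) (by norm_num)
    (fun j hj => by have := h j hj p hp; have := h j hj q hq; omega) (by norm_num)
  rw [Nat.shiftRight_zero, ← pk_add, ← rM1_eq, ← rrb_facts.2.2 p (by omega), ← rrb_facts.2.2 q (by omega)] at h1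
  exact h1.trans (pk_congr fun j _ => Nat.and_one_is_mod _)

theorem zero_case {e : ℕ} (he : RSY 0 e) (h : (rout 0 e).card ≤ 4) : rout 0 e = ∅ := by
  have hc : all1 (fun q => all1 (fun p => Nat.beq (force (rpq p q) ruLP) (Nat.add p (Nat.mul 64 q))) 0 q) 0 57 = true ∧
    ruLP (rpq 56 56) = 56 + 64 * 56 := by decide +kernel
  have h0 : ∀ p q, (p < q ∧ q ≤ 56 ∨ p = 56 ∧ q = 56) → ruLP (rpq p q) = p + 64 * q := by
    rintro p q (h1 | ⟨rfl, rfl⟩)
    exacts [Nat.eq_of_beq_eq_true (all1_lt (all1_lt hc.1 q (by omega)) p h1.1), hc.2]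
  obtain ⟨T, h1, h2⟩ := exists_subset_card_eq (Nat.div_le_self (rout 0 e).card 2)
  obtain ⟨p, q, a1, a2, a3⟩ := two_of_card (T := T) (by omega)
  obtain ⟨p', q', b1, b2, b3⟩ := two_of_card (T := rout 0 e \ T) (by rw [card_sdiff_of_subset h1]; omega)
  have h3 : rpq p q = rpq p' q' := by
    rw [rpq_eq (by omega) (by omega), rpq_eq (by omega) (by omega)]
    refine pk_congr fun j hj => ?_
    have h4 : 4 ∣ ∑ s : Fin 56, (rbt 0 s + 2 * rbt e s) * rrb j s := he ⟨j, hj⟩
    have h5 : ∑ s : Fin 56, (rbt 0 s + 2 * rbt e s) * rrb j s = 2 * ∑ s ∈ rout 0 e, rrb j s := by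
      rw [rout, sum_filter, mul_sum]
      refine sum_congr rfl fun s _ => ?_
      rcases Nat.le_one_iff_eq_zero_or_eq_one.1 (rbt_le e s) with h6 | h6 <;> simp [rbt_zero, h6]
    rw [h5, ← sum_sdiff h1, a2 (rrb j) (rrb_facts.2.1 ⟨j, hj⟩).2, b2 (rrb j) (rrb_facts.2.1 ⟨j, hj⟩).2] at h4
    omega
  have h4 := (h0 p q a1).symm.trans (h3 ▸ h0 p' q' b1)
  refine eq_empty_of_forall_notMem fun s hs => ?_
  have h5 := b3 s
  rw [mem_sdiff, a3, show p' = p by omega, show q' = q by omega] at h5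
  tauto

/-! ### The checks on the tables -/

def rrk (e : ℕ) : ℕ := if e < 896 then 4 else if e < 952 then 5 else 1
def rml (e : ℕ) : ℕ := if e < 952 then 1 else 4

noncomputable def entB (T e : ℕ) : Bool := force (ruE e) fun E => force (rf56 E 0) fun a =>
  if e < 952 then force (rf56 E 1) fun n => goodB T a n (rfs E 2 (rrk e)) (rfs E 7 (16 - rrk e))
  else if e < 1008 then band (Nat.beq a (1 <<< (e - 952))) (band (Nat.beq (rf56 E 1) 0) (Nat.beq (rf56 E 2) a))
  else if e < 1757 then badB T a 16 56 (rfs E 7 1)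
  else if e < 1764 then badB T a 8 0 (rfs E 7 12) else Nat.beq a 0

noncomputable def leafB (T a : ℕ) : Bool :=
  Bool.rec (motive := fun _ => Bool) (force (ruLA a) fun e => band (decide (e < 1765 ∧ (e < 952 ∨ 1008 ≤ e)))
    (Nat.beq (rf56 (ruE e) 0) a)) true (Nat.blt (nat_lit 16) (rpc56 T a))

noncomputable def lvB (k d : ℕ) : Bool :=
  force (if k = 1 then force (ruB (d / 32)) (scan ruL d 40) else force (ruOff k) (scan ruL d 80)) fun l =>
    band (band (Nat.ble (ruOff k) l) (Nat.blt l (ruOff (Nat.succ k)))) (Nat.beq (ruL l) d)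

noncomputable def sigB (e : ℕ) : Bool := force (ruE e) fun E => force (rf56 E 0) fun a => rsum ruWp a fun A =>
  force (Nat.pow 64 56) fun Q => force (Nat.sub Q 2) fun Q' => force (rml e) fun m => force (rf56 E 1) fun n0 =>
  all1 (fun i => force (rcand (rfs E 2 (rrk e)) n0 i) fun n => rsum ruWp n fun N =>
    force (Nat.mod (Nat.mul m (Nat.add A (Nat.mul Q' N))) Q) fun X =>
      all1 (fun k => Bool.rec (motive := fun _ => Bool) true (force (Nat.add (Nat.mul 32 e) i) (lvB k))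
        (Nat.beq (Nat.mod X (Nat.pow (nat_lit 4096) k)) (ruTk k))) (nat_lit 1) (nat_lit 27)) 0 (Nat.pow 2 (rrk e))

end H29
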