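import Cfsg.Agent.H29.Ru4

set_option autoImplicit false
set_option maxRecDepth 100000
set_option linter.style.haveILetI false
set_option linter.unusedVariables false
set_option linter.style.longLine false
set_option linter.unusedTactic false
set_option linter.unreachableTactic false

namespace H29

theorem ruX_16 : force rT14 (fun T => allX (leafB T) (ruC.drop 5) (nat_lit 38302896412959846)) = true := by decide +kernel
theorem ruX_17 : force rT14 (fun T => allX (leafB T) (ruC.drop 5) (nat_lit 36343683454611678)) = true := by decide +kernel
theorem ruX_18 : force rT14 (fun T => allX (leafB T) (ruC.drop 5) (nat_lit 43916131867725384)) = true := by decide +kernel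
theorem ruX_19 : force rT14 (fun T => allX (leafB T) (ruC.drop 5) (nat_lit 41956633828825840)) = true := by decide +kernel
theorem ruX_20 : force rT14 (fun T => allX (leafB T) (ruC.drop 5) (nat_lit 45095860335374715)) = true := by decide +kernel
theorem ruX_21 : force rT14 (fun T => allX (leafB T) (ruC.drop 5) (nat_lit 47635624023647683)) = true := by decide +kernel
theorem ruX_22 : force rT14 (fun T => allX (leafB T) (ruC.drop 5) (nat_lit 50708681860569941)) = true := by decide +kernel
theorem ruX_23 : force rT14 (fun T => allX (leafB T) (ruC.drop 5) (nat_lit 53248713449525229)) = true := by decide +kernel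
theorem ruX_24 : force rT14 (fun T => allX (leafB T) (ruC.drop 5) (nat_lit 57487742387371263)) = true := by decide +kernel
theorem ruX_25 : force rT14 (fun T => allX (leafB T) (ruC.drop 5) (nat_lit 55510937238775879)) = true := by decide +kernel
theorem ruX_26 : force rT14 (fun T => allX (leafB T) (ruC.drop 5) (nat_lit 60849143354136273)) = true := by decide +kernel
theorem ruX_27 : force rT14 (fun T => allX (leafB T) (ruC.drop 5) (nat_lit 58872053133378153)) = true := by decide +kernel
theorem ruX_28 : force rT14 (fun T => allX (leafB T) (ruC.drop 5) (nat_lit 64210337561405922)) = true := by decide +kernel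
theorem ruX_29 : force rT14 (fun T => allX (leafB T) (ruC.drop 5) (nat_lit 66732509067836762)) = true := by decide +kernel
theorem ruX_30 : force rT14 (fun T => allX (leafB T) (ruC.drop 5) (nat_lit 67571324606989260)) = true := by decide +kernel
theorem ruX_31 : force rT14 (fun T => allX (leafB T) (ruC.drop 5) (nat_lit 70093764005713780)) = true := by decide +kernel

end H29
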