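import Cfsg.Agent.H29.Ru4

set_option autoImplicit false
set_option maxRecDepth 100000
set_option linter.style.haveILetI false
set_option linter.unusedVariables false
set_option linter.style.longLine false
set_option linter.unusedTactic false
set_option linter.unreachableTactic false

namespace H29

theorem ruEn_0 : force rT14 (fun T => allR (entB T) (nat_lit 0) (nat_lit 60)) = true := by decide +kernel
theorem ruEn_1 : force rT14 (fun T => allR (entB T) (nat_lit 60) (nat_lit 60)) = true := by decide +kernel
theorem ruEn_2 : force rT14 (fun T => allR (entB T) (nat_lit 120) (nat_lit 60)) = true := by decide +kernel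
theorem ruEn_3 : force rT14 (fun T => allR (entB T) (nat_lit 180) (nat_lit 60)) = true := by decide +kernel
theorem ruEn_4 : force rT14 (fun T => allR (entB T) (nat_lit 240) (nat_lit 60)) = true := by decide +kernel
theorem ruEn_5 : force rT14 (fun T => allR (entB T) (nat_lit 300) (nat_lit 60)) = true := by decide +kernel
theorem ruEn_6 : force rT14 (fun T => allR (entB T) (nat_lit 360) (nat_lit 60)) = true := by decide +kernel
theorem ruEn_7 : force rT14 (fun T => allR (entB T) (nat_lit 420) (nat_lit 60)) = true := by decide +kernel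
theorem ruEn_8 : force rT14 (fun T => allR (entB T) (nat_lit 480) (nat_lit 60)) = true := by decide +kernel
theorem ruEn_9 : force rT14 (fun T => allR (entB T) (nat_lit 540) (nat_lit 60)) = true := by decide +kernel
theorem ruEn_10 : force rT14 (fun T => allR (entB T) (nat_lit 600) (nat_lit 60)) = true := by decide +kernel
theorem ruEn_11 : force rT14 (fun T => allR (entB T) (nat_lit 660) (nat_lit 60)) = true := by decide +kernel
theorem ruEn_12 : force rT14 (fun T => allR (entB T) (nat_lit 720) (nat_lit 60)) = true := by decide +kernel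
theorem ruEn_13 : force rT14 (fun T => allR (entB T) (nat_lit 780) (nat_lit 60)) = true := by decide +kernel
theorem ruEn_14 : force rT14 (fun T => allR (entB T) (nat_lit 840) (nat_lit 60)) = true := by decide +kernel
theorem ruEn_15 : force rT14 (fun T => allR (entB T) (nat_lit 900) (nat_lit 60)) = true := by decide +kernel
theorem ruEn_16 : force rT14 (fun T => allR (entB T) (nat_lit 960) (nat_lit 60)) = true := by decide +kernel
theorem ruEn_17 : force rT14 (fun T => allR (entB T) (nat_lit 1020) (nat_lit 60)) = true := by decide +kernel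
theorem ruEn_18 : force rT14 (fun T => allR (entB T) (nat_lit 1080) (nat_lit 60)) = true := by decide +kernel
theorem ruEn_19 : force rT14 (fun T => allR (entB T) (nat_lit 1140) (nat_lit 60)) = true := by decide +kernel
theorem ruEn_20 : force rT14 (fun T => allR (entB T) (nat_lit 1200) (nat_lit 60)) = true := by decide +kernel
theorem ruEn_21 : force rT14 (fun T => allR (entB T) (nat_lit 1260) (nat_lit 60)) = true := by decide +kernel
theorem ruEn_22 : force rT14 (fun T => allR (entB T) (nat_lit 1320) (nat_lit 60)) = true := by decide +kernel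
theorem ruEn_23 : force rT14 (fun T => allR (entB T) (nat_lit 1380) (nat_lit 60)) = true := by decide +kernel
theorem ruEn_24 : force rT14 (fun T => allR (entB T) (nat_lit 1440) (nat_lit 60)) = true := by decide +kernel
theorem ruEn_25 : force rT14 (fun T => allR (entB T) (nat_lit 1500) (nat_lit 60)) = true := by decide +kernel
theorem ruEn_26 : force rT14 (fun T => allR (entB T) (nat_lit 1560) (nat_lit 60)) = true := by decide +kernel
theorem ruEn_27 : force rT14 (fun T => allR (entB T) (nat_lit 1620) (nat_lit 60)) = true := by decide +kernel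
theorem ruEn_28 : force rT14 (fun T => allR (entB T) (nat_lit 1680) (nat_lit 60)) = true := by decide +kernel
theorem ruEn_29 : force rT14 (fun T => allR (entB T) (nat_lit 1740) (nat_lit 25)) = true := by decide +kernel
theorem ruEn : ∀ j < nat_lit 1765, entB rT14 j = true :=
  (allR_step (c := nat_lit 1765) (allR_step (c := nat_lit 1740) (allR_step (c := nat_lit 1680) (allR_step (c := nat_lit 1620) (allR_step (c := nat_lit 1560) (allR_step (c := nat_lit 1500) (allR_step (c := nat_lit 1440) (allR_step (c := nat_lit 1380) (allR_step (c := nat_lit 1320) (allR_step (c := nat_lit 1260) (allR_step (c := nat_lit 1200) (allR_step (c := nat_lit 1140) (allR_step (c := nat_lit 1080) (allR_step (c := nat_lit 1020) (allR_step (c := nat_lit 960) (allR_step (c := nat_lit 900) (allR_step (c := nat_lit 840) (allR_step (c := nat_lit 780) (allR_step (c := nat_lit 720) (allR_step (c := nat_lit 660) (allR_step (c := nat_lit 600) (allR_step (c := nat_lit 540) (allR_step (c := nat_lit 480) (allR_step (c := nat_lit 420) (allR_step (c := nat_lit 360) (allR_step (c := nat_lit 300)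 (allR_step (c := nat_lit 240) (allR_step (c := nat_lit 180) (allR_step (c := nat_lit 120) (allR_step (c := nat_lit 60) (fun _ h => absurd h (Nat.not_lt_zero _)) (force_eq _ _ ▸ ruEn_0) (by decide)) (force_eq _ _ ▸ ruEn_1) (by decide)) (force_eq _ _ ▸ ruEn_2) (by decide)) (force_eq _ _ ▸ ruEn_3) (by decide)) (force_eq _ _ ▸ ruEn_4) (by decide)) (force_eq _ _ ▸ ruEn_5) (by decide)) (force_eq _ _ ▸ ruEn_6) (by decide)) (force_eq _ _ ▸ ruEn_7) (by decide)) (force_eq _ _ ▸ ruEn_8) (by decide)) (force_eq _ _ ▸ ruEn_9) (by decide)) (force_eq _ _ ▸ ruEn_10) (by decide)) (force_eq _ _ ▸ ruEn_11) (by decide)) (force_eq _ _ ▸ ruEn_12) (by decide)) (force_eq _ _ ▸ ruEn_13) (by decide)) (force_eq _ _ ▸ ruEn_14) (by decide)) (force_eq _ _ ▸ ruEn_15) (by decide)) (force_eq _ _ ▸ ruEn_16) (by decide)) (force_eq _ _ ▸ ruEn_17) (by decide)) (force_eq _ _ ▸ ruEn_18) (by decide)) (force_eq _ _ ▸ ruEn_19) (by decide)) (force_eq _ _ ▸ ruEn_20) (by decide)) (force_eq _ _ ▸ ruEn_21) (by decide)) (force_eq _ _ ▸ ruEn_22) (by decide)) (force_eq _ _ ▸ ruEn_23) (by decide)) (force_eq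 _ _ ▸ ruEn_24) (by decide)) (force_eq _ _ ▸ ruEn_25) (by decide)) (force_eq _ _ ▸ ruEn_26) (by decide)) (force_eq _ _ ▸ ruEn_27) (by decide)) (force_eq _ _ ▸ ruEn_28) (by decide)) (force_eq _ _ ▸ ruEn_29) (by decide))

end H29
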