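import Cfsg.Agent.H29.Ru4

set_option autoImplicit false
set_option maxRecDepth 100000
set_option linter.style.haveILetI false
set_option linter.unusedVariables false
set_option linter.style.longLine false
set_option linter.unusedTactic false
set_option linter.unreachableTactic false

namespace H29

theorem ruSg_0 : allR (sigB) (nat_lit 0) (nat_lit 30) = true := by decide +kernel
theorem ruSg_1 : allR (sigB) (nat_lit 30) (nat_lit 30) = true := by decide +kernel
theorem ruSg_2 : allR (sigB) (nat_lit 60) (nat_lit 30) = true := by decide +kernel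
theorem ruSg_3 : allR (sigB) (nat_lit 90) (nat_lit 30) = true := by decide +kernel
theorem ruSg_4 : allR (sigB) (nat_lit 120) (nat_lit 30) = true := by decide +kernel
theorem ruSg_5 : allR (sigB) (nat_lit 150) (nat_lit 30) = true := by decide +kernel
theorem ruSg_6 : allR (sigB) (nat_lit 180) (nat_lit 30) = true := by decide +kernel
theorem ruSg_7 : allR (sigB) (nat_lit 210) (nat_lit 30) = true := by decide +kernel
theorem ruSg_8 : allR (sigB) (nat_lit 240) (nat_lit 30) = true := by decide +kernel
theorem ruSg_9 : allR (sigB) (nat_lit 270) (nat_lit 30) = true := by decide +kernel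
theorem ruSg_10 : allR (sigB) (nat_lit 300) (nat_lit 30) = true := by decide +kernel
theorem ruSg_11 : allR (sigB) (nat_lit 330) (nat_lit 30) = true := by decide +kernel
theorem ruSg_12 : allR (sigB) (nat_lit 360) (nat_lit 30) = true := by decide +kernel
theorem ruSg_13 : allR (sigB) (nat_lit 390) (nat_lit 30) = true := by decide +kernel
theorem ruSg_14 : allR (sigB) (nat_lit 420) (nat_lit 30) = true := by decide +kernel
theorem ruSg_15 : allR (sigB) (nat_lit 450) (nat_lit 30) = true := by decide +kernel
theorem ruSg_16 : allR (sigB) (nat_lit 480) (nat_lit 30) = true := by decide +kernel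
theorem ruSg_17 : allR (sigB) (nat_lit 510) (nat_lit 30) = true := by decide +kernel
theorem ruSg_18 : allR (sigB) (nat_lit 540) (nat_lit 30) = true := by decide +kernel
theorem ruSg_19 : allR (sigB) (nat_lit 570) (nat_lit 30) = true := by decide +kernel
theorem ruSg_20 : allR (sigB) (nat_lit 600) (nat_lit 30) = true := by decide +kernel
theorem ruSg_21 : allR (sigB) (nat_lit 630) (nat_lit 30) = true := by decide +kernel
theorem ruSg_22 : allR (sigB) (nat_lit 660) (nat_lit 30) = true := by decide +kernel
theorem ruSg_23 : allR (sigB) (nat_lit 690) (nat_lit 30) = true := by decide +kernel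
theorem ruSg_24 : allR (sigB) (nat_lit 720) (nat_lit 30) = true := by decide +kernel
theorem ruSg_25 : allR (sigB) (nat_lit 750) (nat_lit 30) = true := by decide +kernel
theorem ruSg_26 : allR (sigB) (nat_lit 780) (nat_lit 30) = true := by decide +kernel
theorem ruSg_27 : allR (sigB) (nat_lit 810) (nat_lit 30) = true := by decide +kernel
theorem ruSg_28 : allR (sigB) (nat_lit 840) (nat_lit 30) = true := by decide +kernel
theorem ruSg_29 : allR (sigB) (nat_lit 870) (nat_lit 30) = true := by decide +kernel
theorem ruSg_30 : allR (sigB) (nat_lit 900) (nat_lit 30) = true := by decide +kernel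
theorem ruSg_31 : allR (sigB) (nat_lit 930) (nat_lit 30) = true := by decide +kernel
theorem ruSg_32 : allR (sigB) (nat_lit 960) (nat_lit 30) = true := by decide +kernel
theorem ruSg_33 : allR (sigB) (nat_lit 990) (nat_lit 18) = true := by decide +kernel
theorem ruSg : ∀ j < nat_lit 1008, (sigB) j = true :=
  (allR_step (c := nat_lit 1008) (allR_step (c := nat_lit 990) (allR_step (c := nat_lit 960) (allR_step (c := nat_lit 930) (allR_step (c := nat_lit 900) (allR_step (c := nat_lit 870) (allR_step (c := nat_lit 840) (allR_step (c := nat_lit 810) (allR_step (c := nat_lit 780) (allR_step (c := nat_lit 750) (allR_step (c := nat_lit 720) (allR_step (c := nat_lit 690) (allR_step (c := nat_lit 660) (allR_step (c := nat_lit 630) (allR_step (c := nat_lit 600) (allR_step (c := nat_lit 570) (allR_step (c := nat_lit 540) (allR_step (c := nat_lit 510) (allR_step (c := nat_lit 480) (allR_step (c := nat_lit 450) (allR_step (c := nat_lit 420) (allR_step (c := nat_lit 390) (allR_step (c := nat_lit 360) (allR_step (c := nat_lit 330) (allR_step (c := nat_lit 300) (allR_step (c := nat_lit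 270) (allR_step (c := nat_lit 240) (allR_step (c := nat_lit 210) (allR_step (c := nat_lit 180) (allR_step (c := nat_lit 150) (allR_step (c := nat_lit 120) (allR_step (c := nat_lit 90) (allR_step (c := nat_lit 60) (allR_step (c := nat_lit 30) (fun _ h => absurd h (Nat.not_lt_zero _)) ruSg_0 (by decide)) ruSg_1 (by decide)) ruSg_2 (by decide)) ruSg_3 (by decide)) ruSg_4 (by decide)) ruSg_5 (by decide)) ruSg_6 (by decide)) ruSg_7 (by decide)) ruSg_8 (by decide)) ruSg_9 (by decide)) ruSg_10 (by decide)) ruSg_11 (by decide)) ruSg_12 (by decide)) ruSg_13 (by decide)) ruSg_14 (by decide)) ruSg_15 (by decide)) ruSg_16 (by decide)) ruSg_17 (by decide)) ruSg_18 (by decide)) ruSg_19 (by decide)) ruSg_20 (by decide)) ruSg_21 (by decide)) ruSg_22 (by decide)) ruSg_23 (by decide)) ruSg_24 (by decide)) ruSg_25 (by decide)) ruSg_26 (by decide)) ruSg_27 (by decide)) ruSg_28 (by decide)) ruSg_29 (by decide)) ruSg_30 (by decide)) ruSg_31 (by decide)) ruSg_32 (by decide)) ruSg_33 (by decide))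


end H29
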