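import Cfsg.Agent.H29.RuC1
import Cfsg.Agent.H29.RuC2
import Cfsg.Agent.H29.RuC3
import Cfsg.Agent.H29.RuC4

set_option autoImplicit false
set_option maxRecDepth 100000
set_option linter.style.haveILetI false
set_option exponentiation.threshold 1000

/-! The rank-28 Gaussian lattice: the short vectors, and the order of the automorphism group. -/

namespace H29

open Cfsg.Spor Finset Matrix

theorem ruX_aux {a : ℕ} (h : force rT14 (fun T => allX (leafB T) (ruC.drop 5) a) = true) :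
    AllX (leafB rT14) (ruC.drop 5) a := by rw [force_eq] at h; exact allX_spec h

theorem ruX : AllX (leafB rT14) ruC 0 :=
  (AllX.cons (a1 := 38302896412959846) (AllX.cons (a1 := 19184845974411417) (AllX.cons (a1 := 11296632489465117) (AllX.cons (a1 := 5648419828967982) (AllX.cons (a1 := 2544455407375544) (ruX_aux ruX_0)
  (ruX_aux ruX_1) (by decide))
  (AllX.cons (a1 := 8192590151597718) (ruX_aux ruX_2)
  (ruX_aux ruX_3) (by decide)) (by decide))
  (AllX.cons (a1 := 16944638384668467) (AllX.cons (a1 := 9332727812014501) (ruX_aux ruX_4)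
  (ruX_aux ruX_5) (by decide))
  (AllX.cons (a1 := 14981001612094347) (ruX_aux ruX_6)
  (ruX_aux ruX_7) (by decide)) (by decide)) (by decide))
  (AllX.cons (a1 := 30411109715496324) (AllX.cons (a1 := 22581431315378871) (AllX.cons (a1 := 21711709191539745) (ruX_aux ruX_8)
  (ruX_aux ruX_9) (by decide))
  (AllX.cons (a1 := 25108009456150031) (ruX_aux ruX_10)
  (ruX_aux ruX_11) (by decide)) (by decide))
  (AllX.cons (a1 := 33807281131087786) (AllX.cons (a1 := 28429612856203580) (ruX_aux ruX_12)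
  (ruX_aux ruX_13) (by decide))
  (AllX.cons (a1 := 31826052168282898) (ruX_aux ruX_14)
  (ruX_aux ruX_15) (by decide)) (by decide)) (by decide)) (by decide))
  (AllX.cons (a1 := 57487742387371263) (AllX.cons (a1 := 45095860335374715) (AllX.cons (a1 := 43916131867725384) (AllX.cons (a1 := 36343683454611678) (ruX_aux ruX_16)
  (ruX_aux ruX_17) (by decide))
  (AllX.cons (a1 := 41956633828825840) (ruX_aux ruX_18)
  (ruX_aux ruX_19) (by decide)) (by decide))
  (AllX.cons (a1 := 50708681860569941) (AllX.cons (a1 := 47635624023647683) (ruX_aux ruX_20)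
  (ruX_aux ruX_21) (by decide))
  (AllX.cons (a1 := 53248713449525229) (ruX_aux ruX_22)
  (ruX_aux ruX_23) (by decide)) (by decide)) (by decide))
  (AllX.cons (a1 := 64210337561405922) (AllX.cons (a1 := 60849143354136273) (AllX.cons (a1 := 55510937238775879) (ruX_aux ruX_24)
  (ruX_aux ruX_25) (by decide))
  (AllX.cons (a1 := 58872053133378153) (ruX_aux ruX_26)
  (ruX_aux ruX_27) (by decide)) (by decide))
  (AllX.cons (a1 := 67571324606989260) (AllX.cons (a1 := 66732509067836762) (ruX_aux ruX_28)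
  (ruX_aux ruX_29) (by decide))
  (AllX.cons (a1 := 70093764005713780) (ruX_aux ruX_30)
  (ruX_aux ruX_31) (by decide)) (by decide)) (by decide)) (by decide)) (by decide))

noncomputable def rsa (e : ℕ) : ℕ := rf56 (ruE e) 0
noncomputable def rsn (e i : ℕ) : ℕ := rcand (rfs (ruE e) 2 (rrk e)) (rf56 (ruE e) 1) i
/-- The listed vectors. -/
noncomputable def rsv (e i : ℕ) : V56 := fun s => rml e * (rbt (rsa e) s - 2 * rbt (rsn e i) s : ℤ)

theorem exists_e {x : V56} {a : ℕ} (h : RPar x a) : ∃ e, ∀ s, (4 : ℤ) ∣ x s - rbt a s - 2 * rbt e s := by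
  let f : ℕ → ℕ := fun s => if h : s < 56 then (x ⟨s, h⟩ % 4 / 2).toNat else 0
  refine ⟨pk 1 56 f, fun s => ?_⟩
  have h1 := pk_dig (w := 1) (m := 56) (f := f) (fun t ht => by simp only [f, dif_pos ht]; omega) s.2
  rw [one_mul] at h1
  have h2 : rbt (pk 1 56 f) s = (x s % 4 / 2).toNat := h1.trans (dif_pos s.2)
  have := h s
  have := rbt_le a s
  omega

theorem sq_ge {x : ℤ} {a e : ℕ} (ha : a ≤ 1) (h : (4 : ℤ) ∣ x - a - 2 * e) :
    (a : ℤ) + 4 * (if a = 0 ∧ e = 1 then 1 else 0) ≤ x * x := by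
  split_ifs with h1
  · obtain ⟨rfl, rfl⟩ := h1
    have : 2 ≤ x ∨ x ≤ -2 := by omega
    rcases this with h | h <;> push_cast <;> nlinarith
  · rcases Nat.le_one_iff_eq_zero_or_eq_one.1 ha with rfl | rfl
    · simpa using mul_self_nonneg x
    · have : 1 ≤ x ∨ x ≤ -1 := by omega
      rcases this with h | h <;> push_cast <;> nlinarith

theorem short_vec (c : V56) (hN : (rW *ᵥ c) ⬝ᵥ (rW *ᵥ c) ≤ 16) : rW *ᵥ c = 0 ∨
    ((rW *ᵥ c) ⬝ᵥ (rW *ᵥ c) = 16 ∧ ∃ e < 1008, ∃ i < 2 ^ rrk e, rW *ᵥ c = rsv e i) := by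
  obtain ⟨a, h1, h2⟩ := par_ex c
  obtain ⟨n, h3⟩ := exists_e h2
  have h4 := RSY.of h3
  generalize rW *ᵥ c = x at *
  have h5 := fun s : Fin 56 => sq_ge (rbt_le a s) (h3 s)
  have h6 : ∑ s : Fin 56, ((rbt a s : ℤ) + 4 * (if rbt a s = 0 ∧ rbt n s = 1 then 1 else 0)) = rwt a + 4 * (rout a n).card := by
    rw [sum_add_distrib, ← mul_sum, rwt, rout, card_filter]; push_cast; rfl
  have h7 : (rwt a : ℤ) + 4 * (rout a n).card ≤ x ⬝ᵥ x := h6 ▸ sum_le_sum fun s _ => h5 s
  have h8 := ruX a (by simpa using h1)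
  rw [leafB, rpc56_eq, show Nat.blt (nat_lit 16) (rwt a) = false from by
    rw [← Bool.not_eq_true, Nat.blt_eq]; show ¬ 16 < _; omega, force_eq] at h8
  have h9 := band_iff.1 h8
  have h10 := of_decide_eq_true h9.1
  have h11 := Nat.eq_of_beq_eq_true h9.2
  generalize ruLA a = e at h10 h11
  have h12 := ruEn e h10.1
  rw [entB, force_eq, force_eq, h11] at h12
  split_ifs at h12 with c1 c2 c3 c4
  · rw [force_eq] at h12
    obtain ⟨g1, g2⟩ := goodB_spec h12
    have g3 : (rout a n).card = 0 := by omega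
    have g4 : ∀ s : Fin 56, ¬ (rbt a s = 0 ∧ rbt n s = 1) := fun s hs =>
      notMem_empty s (card_eq_zero.1 g3 ▸ mem_filter.2 ⟨mem_univ s, hs⟩)
    obtain ⟨i, hi, g5⟩ := g2 n h4 fun s => by have := g4 s; have := rbt_le n s; omega
    rw [rfs_length] at hi
    refine Or.inr ⟨by omega, e, by omega, i, hi, funext fun s => ?_⟩
    have g6 := (sum_eq_sum_iff_of_le fun s _ => h5 s).1 (h6.trans (show _ = x ⬝ᵥ x by omega)) s (mem_univ s)
    rw [if_neg (g4 s)] at g6
    have g7 := h3 s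
    have g8 := g4 s
    have g9 := rbt_le n s
    have g10 := rbt_le a s
    have g11 : -1 ≤ x s ∧ x s ≤ 1 := by constructor <;> nlinarith
    rw [rsv, rml, if_pos c1, rsa, h11, rsn, ← g5]
    omega
  · omega
  · obtain ⟨g1, g2⟩ := badB_spec h12
    refine absurd (fun g hg => ?_) (g2 n h4 56 56 le_rfl le_rfl le_rfl le_rfl)
    rw [card_eq_zero.1 (show (rout a n).card = 0 by omega), hg]; rfl
  · obtain ⟨g1, g2⟩ := badB_spec h12
    obtain ⟨p, q, g3, g4, -⟩ := two_of_card (T := rout a n) (by omega)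
    exact absurd g4 (g2 n h4 p q (by omega) (by omega) (by omega) (by omega))
  · obtain rfl : a = 0 := Nat.eq_of_beq_eq_true h12
    have g1 := zero_case h4 (by omega)
    have g2 : ∀ s, 4 ∣ x s := fun s => by
      have g3 : ¬ (rbt 0 s = 0 ∧ rbt n s = 1) := fun hs => notMem_empty s (g1 ▸ mem_filter.2 ⟨mem_univ s, hs⟩)
      have := h3 s
      have := rbt_le n s
      rw [rbt_zero] at *; omega
    by_cases g3 : x = 0
    · exact Or.inl g3
    obtain ⟨t, ht⟩ := Function.ne_iff.1 g3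
    have g4 : 16 ≤ x t * x t := by
      have := g2 t
      have : 4 ≤ x t ∨ x t ≤ -4 := by simp only [Pi.zero_apply] at ht; omega
      rcases this with h | h <;> nlinarith
    have g5 : x ⬝ᵥ x = x t * x t + ∑ s ∈ univ.erase t, x s * x s := (add_sum_erase _ _ (mem_univ t)).symm
    have g6 := sum_nonneg fun s (_ : s ∈ univ.erase t) => mul_self_nonneg (x s)
    have g7 := (sum_eq_zero_iff_of_nonneg fun s (_ : s ∈ univ.erase t) => mul_self_nonneg (x s)).1 (by omega)
    have g8 := ruEn (952 + t) (show _ < 1765 by omega)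
    rw [entB, force_eq, force_eq, if_neg (by omega), if_pos (by omega), band_iff, band_iff, Nat.add_sub_cancel_left] at g8
    have g9 : rrk (952 + t) = 1 := by rw [rrk, if_neg (by omega), if_neg (by omega)]
    have g10 : x t = 4 ∨ x t = -4 := mul_self_eq_mul_self_iff.1 (by omega)
    refine Or.inr ⟨by omega, 952 + t, by omega, if x t = 4 then 0 else 1, by rw [g9]; split_ifs <;> norm_num,
      funext fun s => ?_⟩
    rw [rsv, rml, if_neg (by omega), rsa, rsn, g9, show rfs _ 2 1 = [rf56 (ruE (952 + t)) 2] from rfl, rcand_cons,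
      Nat.eq_of_beq_eq_true g8.2.1, Nat.eq_of_beq_eq_true g8.2.2, Nat.eq_of_beq_eq_true g8.1]
    show _ = (4 : ℕ) * ((rbt _ _ : ℤ) - 2 * rbt (if _ then _ else _) _)
    by_cases e : s = t
    · subst e
      rcases g10 with h | h <;> simp [h, rbt_pow, rbt_zero]
    · rw [mul_self_eq_zero.1 (g7 s (mem_erase.2 ⟨e, mem_univ s⟩))]
      split_ifs <;> simp [rbt_pow, rbt_zero, Fin.val_inj, e]

theorem ru_even (x : RuVec) (hx : x ∈ ruLattice) : (8 : ℤ) ∣ ruNorm x := by
  obtain ⟨c, hc⟩ := lam.surjective ⟨x, hx⟩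
  have := even_norm c
  rw [show x = lam c from (congrArg Subtype.val hc).symm, norm_lam]; omega

theorem ru_min (x : RuVec) (hx : x ∈ ruLattice) (h : x ≠ 0) : 16 ≤ ruNorm x := by
  obtain ⟨c, hc⟩ := lam.surjective ⟨x, hx⟩
  obtain rfl : x = lam c := (congrArg Subtype.val hc).symm
  rw [ruNorm_eq, rcv_lam]
  by_contra h1
  rcases short_vec c (by omega) with h2 | h2
  · exact h (rcv.injective (by rw [rcv_lam, h2, map_zero]))
  · omega

/-! ### The upper bound -/

noncomputable def rsig (x : V56) : ℤ := ∑ t : Fin 56, (x ⬝ᵥ rW *ᵥ Pi.single t 1) * 64 ^ (t : ℕ)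

theorem rsig_mod (x : V56) : (64 ^ 56 : ℤ) ∣ ∑ s, x s * ruWp s - rsig x := by
  have h : ∀ s : Fin 56, (64 ^ 56 : ℤ) ∣ ruWp s - ∑ t : Fin 56, rW s t * 64 ^ (t : ℕ) := by decide +kernel
  simp only [rsig, mulVec_single_one, dotProduct, sum_mul, col_apply]
  rw [sum_comm, ← sum_sub_distrib]
  refine dvd_sum fun s _ => ?_
  simp only [mul_assoc, ← mul_sum, ← mul_sub]
  exact dvd_mul_of_dvd_right (h s) _

theorem lvB_aux {X k d : ℕ} (h : force X (fun X => all1 (fun k => Bool.rec (motive := fun _ => Bool) true (force d (lvB k))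
    (Nat.beq (Nat.mod X (Nat.pow (nat_lit 4096) k)) (ruTk k))) (nat_lit 1) (nat_lit 27)) = true) (h1 : 1 ≤ k) (h2 : k < 28)
    (e : X % 4096 ^ k = ruTk k) : lvB k d = true := by
  rw [force_eq] at h
  have h3 := all1_spec h k h1 h2
  beta_reduce at h3
  rw [force_eq, ← e] at h3
  exact (congrArg (Bool.rec (motive := fun _ => Bool) true (lvB k d)) (Nat.beq_refl _)).symm.trans h3

theorem lvB_of {e i k : ℕ} (he : e < 1008) (hi : i < 2 ^ rrk e) (h1 : 1 ≤ k) (h2 : k < 28)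
    (h : (4096 ^ k : ℤ) ∣ rsig (rsv e i) - ruTk k) (ht : ruTk k < 4096 ^ k) : lvB k (32 * e + i) = true := by
  have h3 := ruSg e he
  rw [sigB, force_eq, force_eq] at h3
  have h4 := rsum_spec h3
  beta_reduce at h4
  rw [force_eq, force_eq, force_eq, force_eq] at h4
  have h5 := all1_lt h4 i hi
  rw [force_eq] at h5
  have h5' := rsum_spec h5
  have h6 := lvB_aux h5' h1 h2
  refine h6 ?_
  clear h3 h4 h5 h5' h6
  have h7 : (4096 ^ k : ℤ) ∣ 64 ^ 56 := by
    rw [show (64 ^ 56 : ℤ) = 4096 ^ 28 by norm_num]; exact pow_dvd_pow _ h2.le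
  have h8 := h7.trans (rsig_mod (rsv e i))
  have h9 : ∑ s, rsv e i s * ruWp s = rml e * ((∑ s : Fin 56, rbt (rsa e) s * ruWp s : ℕ) -
      2 * (∑ s : Fin 56, rbt (rsn e i) s * ruWp s : ℕ) : ℤ) := by
    simp only [rsv, mul_assoc, sub_mul, ← mul_sum, sum_sub_distrib]
    push_cast; rfl
  rw [h9, rsa, rsn] at h8
  generalize ∑ s : Fin 56, rbt (rf56 (ruE e) 0) s * ruWp s = A at h8 ⊢
  generalize ∑ s : Fin 56, rbt (rcand (rfs (ruE e) 2 (rrk e)) (rf56 (ruE e) 1) i) s * ruWp s = N at h8 ⊢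
  show (rml e * (A + Nat.sub (Nat.pow 64 56) 2 * N)) % Nat.pow 64 56 % 4096 ^ k = _
  rw [Nat.pow_eq, Nat.sub_eq, Nat.mod_mod_of_dvd _ (by exact_mod_cast h7), ← Nat.mod_eq_of_lt ht]
  refine (Nat.modEq_iff_dvd.2 ?_).symm
  rw [Nat.cast_pow, Nat.cast_ofNat]
  refine (dvd_add (dvd_add h h8) (dvd_mul_of_dvd_left h7 (rml e * N))).trans (dvd_of_eq ?_)
  rw [Nat.cast_mul, Nat.cast_add, Nat.cast_mul, Nat.cast_sub (by norm_num), Nat.cast_pow, Nat.cast_ofNat, Nat.cast_ofNat]
  generalize (64 ^ 56 : ℤ) = Q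
  ring

noncomputable def ruSt (k : ℕ) : Subgroup fourRu :=
  ⨅ i : Fin 28, ⨅ _ : i.val < k, MulAction.stabilizer fourRu (lam (Pi.single (rEv i) 1))

theorem mem_ruSt {k : ℕ} {f : fourRu} : f ∈ ruSt k ↔ ∀ i : Fin 28, i.val < k →
    ruMat f *ᵥ Pi.single (rEv i) 1 = Pi.single (rEv i) 1 := by
  simp only [ruSt, Subgroup.mem_iInf, MulAction.mem_stabilizer_iff, ← lam.injective.eq_iff, ← ruMat_apply]
  rfl

theorem ruSt_fix {k : ℕ} {f : fourRu} (h : f ∈ ruSt k) (t : Fin 56) (ht : t.val < 2 * k) :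
    ruMat f *ᵥ Pi.single t 1 = Pi.single t 1 := by
  obtain ⟨i, rfl | rfl⟩ := ev_or_od t
  · exact mem_ruSt.1 h i (by simpa [rEv] using ht)
  · rw [← rJ_single, (ruMat_cj f).mulVec, mem_ruSt.1 h i (by simp only [rOd] at ht; omega)]

theorem ruSt_28 : ruSt 28 = ⊥ := eq_bot_iff.2 fun f hf => ruMat_inj
  (Matrix.ext_of_mulVec_single fun t => by rw [ruSt_fix hf t t.2, map_one, one_mulVec])

theorem ruSt_step {k : Fin 28} {n m : ℕ} (τ : ℕ → V56) (h1 : Finite (ruSt (k + 1)) ∧ Nat.card (ruSt (k + 1)) ≤ m)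
    (h : ∀ f ∈ ruSt k, ∃ l < n, rW *ᵥ (ruMat f *ᵥ Pi.single (rEv k) 1) = τ l) :
    Finite (ruSt k) ∧ Nat.card (ruSt k) ≤ n * m := by
  classical
  haveI := h1.1
  have h2 := card_le_of_cover (H := ruSt (k + 1)) (K := ruSt k) (n := n) (u := fun l =>
    if h : ∃ f ∈ ruSt k, rW *ᵥ (ruMat f *ᵥ Pi.single (rEv k) 1) = τ l then h.choose else 1) fun f hf => by
      obtain ⟨l, hl, e⟩ := h f hf
      have h3 : ∃ f ∈ ruSt k, rW *ᵥ (ruMat f *ᵥ Pi.single (rEv k) 1) = τ l := ⟨f, hf, e⟩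
      refine ⟨l, hl, ?_⟩
      rw [dif_pos h3]
      obtain ⟨h4, h5⟩ := h3.choose_spec
      generalize h3.choose = u at h4 h5
      refine mem_ruSt.2 fun i hi => ?_
      rcases Nat.lt_succ_iff_lt_or_eq.1 hi with hi | hi
      · exact mem_ruSt.1 (mul_mem (inv_mem h4) hf) i hi
      · rw [Fin.ext hi, map_mul, ← mulVec_mulVec, sub_eq_zero.1 (rW_inj (by rw [mulVec_sub, e, h5, sub_self]) :
          ruMat f *ᵥ _ - ruMat u *ᵥ _ = 0), mulVec_mulVec, ← map_mul, inv_mul_cancel, map_one, one_mulVec]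
  exact ⟨h2.1, h2.2.trans (Nat.mul_le_mul_left _ h1.2)⟩

theorem img_short (f : fourRu) (t : Fin 56) : ∃ e < 1008, ∃ i < 2 ^ rrk e, rW *ᵥ (ruMat f *ᵥ Pi.single t 1) = rsv e i := by
  have h : (rW *ᵥ (ruMat f *ᵥ Pi.single t 1)) ⬝ᵥ (rW *ᵥ (ruMat f *ᵥ Pi.single t 1)) = 16 := by
    rw [ruMat_norm, dot_W, mulVec_single_one, single_one_dotProduct, col_apply, rG_diag]; rfl
  refine ((short_vec _ h.le).resolve_left fun e => ?_).2
  rw [e] at h; simp at h

theorem ruSt_lv (k : Fin 28) (hk : 1 ≤ k.val) {f : fourRu} (hf : f ∈ ruSt k) : ∃ l < ruOff (k + 1) - ruOff k,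
    rW *ᵥ (ruMat f *ᵥ Pi.single (rEv k) 1) = rsv (ruL (ruOff k + l) / 32) (ruL (ruOff k + l) % 32) := by
  have h0 : ∀ k : Fin 28, ruTk k < 4096 ^ k.val ∧ (4096 ^ k.val : ℤ) ∣ ∑ t : Fin 56, 4 * rG (rEv k) t * 64 ^ (t : ℕ) - ruTk k := by
    decide +kernel
  obtain ⟨e, he, i, hi, h1⟩ := img_short f (rEv k)
  have h2 := lvB_of he hi hk k.2 (by
    rw [← h1]
    refine (dvd_sub_right (h0 k).2).1 ?_
    rw [sub_sub_sub_cancel_right, rsig, ← sum_sub_distrib]
    refine dvd_sum fun t _ => ?_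
    by_cases ht : t.val < 2 * k
    · conv_rhs => rw [← ruSt_fix hf t ht, ruMat_dot, dot_W, mulVec_single_one, single_one_dotProduct, col_apply, sub_self]
      exact dvd_zero _
    · rw [← sub_mul, show (4096 : ℤ) = 64 ^ 2 by norm_num, ← pow_mul]
      exact dvd_mul_of_dvd_right (pow_dvd_pow _ (not_lt.1 ht)) _) (h0 k).1
  rw [lvB, force_eq] at h2
  generalize (if k.val = 1 then _ else _) = l at h2
  simp only [band_iff, Nat.ble_eq, Nat.blt_eq] at h2
  have h3 : i < 32 := hi.trans_le (by unfold rrk; split_ifs <;> norm_num)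
  refine ⟨l - ruOff k, by have := h2.1.2; rw [Nat.succ_eq_add_one] at this; omega, ?_⟩
  rw [Nat.add_sub_cancel' h2.1.1, Nat.eq_of_beq_eq_true h2.2, h1]
  congr 1 <;> omega

theorem ru_card_le : Finite fourRu ∧ Nat.card fourRu ≤ 4 * 145926144000 := by
  have h : ∀ j ≤ 27, Finite (ruSt (28 - j)) ∧
      Nat.card (ruSt (28 - j)) ≤ ∏ i ∈ range j, (ruOff (28 - i) - ruOff (27 - i)) := by
    intro j
    induction j with
    | zero => intro _; rw [ruSt_28]; exact ⟨inferInstance, by simp⟩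
    | succ j ih =>
      intro hj
      have h1 := ruSt_step (k := ⟨27 - j, by omega⟩) _ (by simpa only [show 27 - j + 1 = 28 - j by omega] using ih (by omega))
        fun f hf => ruSt_lv _ (by simp only; omega) hf
      rw [prod_range_succ, mul_comm]
      simpa only [show 27 - j + 1 = 28 - j by omega, show 28 - (j + 1) = 27 - j by omega] using h1
  have h1 := ruSt_step (k := 0) (n := 16240) (fun j => if j < 14336 then rsv (j / 16) (j % 16) else if j < 16128 then
      rsv (896 + (j - 14336) / 32) ((j - 14336) % 32) else rsv (952 + (j - 16128) / 2) (j % 2)) (h 27 le_rfl) fun f _ => by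
    obtain ⟨e, he, i, hi, h1⟩ := img_short f (rEv 0)
    rw [h1]
    unfold rrk at hi
    split_ifs at hi with h2 h3
    · exact ⟨16 * e + i, by omega, by rw [if_pos (by omega)]; congr 1 <;> omega⟩
    · exact ⟨14336 + 32 * (e - 896) + i, by omega, by rw [if_neg (by omega), if_pos (by omega)]; congr 1 <;> omega⟩
    · exact ⟨16128 + 2 * (e - 952) + i, by omega, by rw [if_neg (by omega), if_neg (by omega)]; congr 1 <;> omega⟩
  have h2 : ruSt (0 : Fin 28) = ⊤ := eq_top_iff.2 fun f _ => mem_ruSt.2 fun i hi => absurd hi (Nat.not_lt_zero _)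
  rw [h2] at h1
  exact ⟨h1.1.of_equiv _ Subgroup.topEquiv.toEquiv, Subgroup.card_top.ge.trans (h1.2.trans (by decide +kernel))⟩

end H29
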