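import Cfsg.Agent.H29.Ru5
import Cfsg.Agent.H29.RuG
import Cfsg.Agent.H29.RuT
import Cfsg.Agent.H29.RuS2
import Cfsg.Agent.H29.Gr
import Cfsg.Agent.H27.Out
import Cfsg.Agent.H8.Schur3

set_option autoImplicit false
set_option maxRecDepth 100000
set_option linter.style.haveILetI false

/-! The Rudvalis group: model, order, simplicity, automorphisms, double cover, subgroup of index 4060. -/

namespace H29

open Cfsg.Spor Subgroup Matrix
open scoped commutatorElement

theorem ruI_ruI (v : ruLattice) : ruI (ruI v) = -v := by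
  obtain ⟨c, rfl⟩ := lam.surjective v
  rw [← lam_J, ← lam_J, rJ_rJ, map_neg]

theorem ruI_add (v w : ruLattice) : ruI (v + w) = ruI v + ruI w := Subtype.ext (smul_add _ _ _)

/-- Multiplication by `i`. -/
noncomputable def ruIota : fourRu :=
  ⟨⟨ruI, fun v => ruI (ruI (ruI v)), fun v => by simp only [ruI_ruI, neg_neg], fun v => by simp only [ruI_ruI, neg_neg]⟩,
    ruI_add, fun _ => rfl,
    fun v => by rw [ruNorm_eq, ruNorm_eq]; exact (congrArg₂ _ (rcv_gI _) (rcv_gI _)).trans (rJ_dot _ _)⟩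

theorem ruIota_cen : ruIota ∈ center fourRu := mem_center_iff.2 fun g => Subtype.ext (Equiv.ext g.2.2.1)

theorem ruMat_iota (c : V56) : ruMat ruIota *ᵥ c = rJ c := lam.injective ((ruMat_apply _ _).symm.trans (lam_J c).symm)

theorem ruMat_iota2 : ruMat (ruIota ^ 2) = -1 := Matrix.ext_of_mulVec_single fun _ => by
  rw [sq, map_mul, ← mulVec_mulVec, ruMat_iota, ruMat_iota, rJ_rJ, neg_mulVec, one_mulVec]

theorem ruIota_ord : orderOf ruIota = 4 := by
  refine orderOf_eq_prime_pow (p := 2) (n := 1) (fun h => ?_) (ruMat_inj ?_)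
  · have := congrFun (congrFun (ruMat_iota2.symm.trans ((congrArg ruMat h).trans (map_one _))) 0) 0
    simp at this
  · rw [show 2 ^ (1 + 1) = 2 + 2 from rfl, pow_add, map_mul, ruMat_iota2, map_one]; simp

theorem ruRho_iota : ruRho ruIota = 1 := by
  have h1 : ∀ k m : Fin 28, rEv k ≠ rOd m := by decide
  have h3 : ∀ k m : Fin 28, rOd k = rOd m ↔ k = m := by decide
  have h : ∀ s k, ruMat ruIota s (rEv k) = Pi.single (M := fun _ => ℤ) (rOd k) 1 s := fun s k => by
    rw [← rJ_single, ← ruMat_iota, mulVec_single_one]; rfl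
  ext i k
  show red28 _ i k = _
  simp [red28, h, Pi.single_apply, h1, h3, one_apply]

/-- The image of the automorphism group in the general linear group over the field with two elements. -/
abbrev RuK : Type := ruRho.toHomUnits.range
noncomputable def ruPi : fourRu →* RuK := ruRho.toHomUnits.rangeRestrict
theorem ruPi_surj : Function.Surjective ruPi := MonoidHom.rangeRestrict_surjective _
noncomputable def ruKM : Model RuK := a2_28.gM.sub _

instance ruK_fin : Finite RuK := haveI := a2_28.finGL; inferInstance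

theorem ruIota_ker : zpowers ruIota ≤ ruPi.ker := zpowers_le.2 (Subtype.ext (Units.ext ruRho_iota))

theorem ruK_valid : ∀ c ∈ ru1_g, ruKM.In ⊤ c := by
  refine in_of_slpW (M := ruKM) _ (fun c hc => ?_) ru_yhok
  have h : ∀ {A B c}, autOK A B c = true → ruKM.In ⊤ c := fun h => let ⟨f, _, e⟩ := autOK_spec h; ⟨ruPi f, trivial, e⟩
  obtain ⟨i, hi, rfl⟩ := exists_lgetD 0 hc
  change i < 3 at hi
  interval_cases i
  exacts [h ruGj_ok, h ruGk_ok, h ruGa_ok]

theorem ruK_key (b m : ℕ) (h : band (Nat.blt 0 a2_28.w) (codeOK 2 (28 * 28) a2_28.w b) = true) :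
    ∃ St, Key ruKM St (keyP a2_28.mul b m) (fixP a2_28.mul b) :=
  let ⟨_, k⟩ := a2_28.keyP' (Units.coeHom _) Units.val_injective b m h; ⟨_, k.comap _ (subtype_injective _)⟩

theorem ruK_all : ∃ St, Key ruKM St ru1_key ru1_fix ∧ ruKM.cl ru1_g = ⊤ ∧ Exact ruKM ⊤ ru1_ls ∧
    LvInfo ruKM ⊤ (ruKM.cl ruA2_g) St (ru1.lv a2_28.mul a2_28.one) ru1_key ru1_kt ∧ Nat.card RuK = 145926144000 ∧
    ruPi.ker = zpowers ruIota ∧ IsSimpleGroup RuK ∧ Nat.card (Cfsg.Out RuK) = 1 := by
  obtain ⟨St, k⟩ : ∃ St, Key ruKM St ru1_key ru1_fix := ruK_key _ _ (by decide +kernel)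
  haveI := ru_card_le.1
  have h1 := (card_eq_of_surj _ ruPi_surj).ge.trans ru_card_le.2
  have h2 := card_le_of_le ruIota_ker
  rw [Nat.card_zpowers, ruIota_ord] at h2
  have h3 : Nat.card RuK ≤ 145926144000 := by nlinarith
  obtain ⟨y, -, hy⟩ := ruK_valid _ List.mem_cons_self
  obtain ⟨x, -, hx⟩ := ruK_valid _ (List.mem_cons_of_mem _ List.mem_cons_self)
  obtain ⟨⟨-, hi⟩, e1, e2⟩ := ru_main ruKM rfl rfl rfl hy hx k h3
  have h4 : Nat.card (ruKM.cl ru1_g) = 145926144000 := e1.2.trans (by decide +kernel)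
  have h5 : ruKM.cl ru1_g = ⊤ := eq_top_of_le_card _ (h3.trans h4.ge)
  have hN : Nat.card RuK = 145926144000 := by rw [← card_top, ← h5, h4]
  have hg := (Model.cl_pair hy hx).symm.trans h5
  exact ⟨St, k, h5, h5 ▸ e1, h5 ▸ hi, hN, (eq_of_le_of_card_ge ruIota_ker (by rw [Nat.card_zpowers, ruIota_ord]; rw [hN] at h1; omega)).symm,
    ru_simple ruKM rfl rfl rfl hy hx hg hN (e2 h5).1, ru_aut ruKM rfl rfl rfl hy hx hg hN (e2 h5).1 (e2 h5).2⟩

theorem ruK_card : Nat.card RuK = 145926144000 := let ⟨_, h⟩ := ruK_all; h.2.2.2.2.1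
theorem ruPi_ker : ruPi.ker = zpowers ruIota := let ⟨_, h⟩ := ruK_all; h.2.2.2.2.2.1
instance ruK_simple : IsSimpleGroup RuK := let ⟨_, h⟩ := ruK_all; h.2.2.2.2.2.2.1

theorem ru_center : center fourRu = ruPi.ker :=
  let ⟨_, _, h⟩ := exists_ne_comm_of_simple ruK_card (by norm_num)
  center_eq_ker _ ruPi_surj (ruPi_ker ▸ zpowers_le.2 ruIota_cen) (center_eq_bot_of_simple h)

/-- The Rudvalis group as a matrix group over the field with two elements. -/
noncomputable def ruEquiv :=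
  (QuotientGroup.quotientMulEquivOfEq ru_center).trans (QuotientGroup.quotientKerEquivOfSurjective _ ruPi_surj)

theorem ru_card : Nat.card Ru = 145926144000 := (Nat.card_congr ruEquiv.toEquiv).trans ruK_card
theorem ru_isSimple : IsSimpleGroup Ru := ruEquiv.isSimpleGroup
theorem ru_out : Nat.card (Cfsg.Out Ru) = 1 := let ⟨_, h⟩ := ruK_all; (H27.card_out_congr ruEquiv).trans h.2.2.2.2.2.2.2

theorem ruIota2_mem : ruIota ^ 2 ∈ _root_.commutator fourRu := by
  obtain ⟨f, h1, -⟩ := autOK_spec ruGj_ok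
  obtain ⟨g, h2, -⟩ := autOK_spec ruGk_ok
  have h3 := zmOK_spec (band_iff.1 ruP_ok).1
  have h4 := zmOK_spec (band_iff.1 ruP_ok).2
  have h5 : f * g = ruIota ^ 2 * (g * f) := ruMat_inj (by
    rw [map_mul, map_mul, map_mul, ruMat_iota2, h1, h2, h3, h4]
    ext i j
    have := ruP_neg i i.2 j j.2
    simp only [Nat.cast_one, one_smul, neg_mul, one_mul, neg_apply, zm_apply]; omega)
  have h6 : ruIota ^ 2 = ⁅f, g⁆ := by rw [commutatorElement_def, h5]; group
  exact h6 ▸ commutator_mem_commutator (mem_top f) (mem_top g)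

theorem ruK_cov : HasCov RuK (Multiplicative (ZMod 2)) := by
  obtain ⟨St, k, -⟩ := ruK_all
  haveI := ru_card_le.1
  haveI := Fact.mk Nat.prime_two
  have hQ : Group.IsPerfect RuK := ⟨perfect_of_simple ruK_card (by norm_num)⟩
  have hc : ruPi.ker ≤ center _ := ru_center.ge
  have hs : Cfsg.IsStemExtension (ruPi.comp (_root_.commutator fourRu).subtype) :=
    ⟨H8.commutator_surj_of_perfect hQ ruPi_surj, fun x hx => mem_center_iff.2 fun g =>
      Subtype.ext (mem_center_iff.1 (hc hx) g), fun _ _ => (H8.perfect_commutator_of_central hQ ruPi_surj hc).mem_commutator⟩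
  set σ := ruPi.comp (_root_.commutator fourRu).subtype
  have h1 : Nat.card σ.ker ∣ 2 ^ 2 := by
    rw [← card_map_of_injective (subtype_injective _), show 2 ^ 2 = 4 from rfl, ← ruIota_ord, ← Nat.card_zpowers, ← ruPi_ker]
    exact card_dvd_of_le (map_le_iff_le_comap.2 le_rfl)
  obtain ⟨j, hj, h2⟩ := (Nat.dvd_prime_pow Nat.prime_two).1 h1
  have h3 : Nat.card σ.ker = 2 := by
    interval_cases j
    · have : (⟨_, ruIota2_mem⟩ : _root_.commutator fourRu) ∈ σ.ker := pow_mem (ruIota_ker (mem_zpowers _)) 2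
      rw [card_eq_one.1 h2, mem_bot, Subtype.ext_iff] at this
      exact absurd (ruIota_ord ▸ orderOf_dvd_of_pow_eq_one this) (by norm_num)
    · exact h2
    · open scoped IsMulCommutative in
      obtain ⟨π, hπ⟩ := H8.hasSchur_surj (H8.hasSchur_SM RuK) hs
      open scoped IsMulCommutative in
      exact absurd (h2 ▸ card_dvd_of_surjective π hπ) (rus2_sbd _ rfl rfl rfl ruK_valid k ruK_card _ (H8.hasSchur_SM RuK))
  haveI : IsCyclic σ.ker := isCyclic_of_prime_card h3
  exact HasCov.of hs (mulEquivOfCyclicCardEq (by rw [h3]; simp))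

/-- The point stabiliser and the simple subgroup of index two in it. -/
theorem ruK_tits : ∃ H : Subgroup RuK, Nat.card H = 35942400 ∧ ∃ T ≤ H, Cfsg.IsTits T := by
  obtain ⟨St, k, -, e, hi, -⟩ := ruK_all
  have h0 := LvInfo.card e.1 hi k
  rw [card_top, ruK_card, show (ru1.lv a2_28.mul a2_28.one).n = 4060 by decide +kernel] at h0
  have v0 : ∀ c ∈ rt1_g, ruKM.In ⊤ c := in_of_slpW (M := ruKM) _ ruK_valid rt_yhok
  refine ⟨_, by omega, ruKM.cl rt1_g, hi.inf ▸ le_inf le_top (k.cl_le (by decide +kernel)), ?_⟩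
  obtain ⟨S, k0⟩ : ∃ St, Key ruKM St rt1_key rt1_fix := ruK_key _ _ (by decide +kernel)
  have k := k0.comap _ (ruKM.cl rt1_g).subtype_injective
  have h4 := sub_cl_top v0
  have hv : ∀ c ∈ rt1_g, (ruKM.sub (ruKM.cl rt1_g)).In ⊤ c := fun c hc => sub_in (in_cl_self v0 c hc)
  set M := ruKM.sub (ruKM.cl rt1_g)
  obtain ⟨y, -, hy⟩ := hv _ List.mem_cons_self
  obtain ⟨x, -, hx⟩ := hv _ (List.mem_cons_of_mem _ List.mem_cons_self)
  obtain ⟨e1, e2⟩ := rt_main M rfl rfl rfl hy hx k
  have hN : Nat.card (ruKM.cl rt1_g) = 17971200 := by rw [← card_top, ← h4]; exact e1.2.trans (by decide +kernel)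
  have hy' : orderOf y = 13 := orderOf_of_ordOK (ps := [13]) hy (show ordOK a2_28.mul Nat.beq a2_28.one _ _ _ = true by
    decide +kernel) (by norm_num) (by norm_num)
    (mem_of_primeFactorsList (by norm_num) (by simp [Nat.primeFactorsList_prime (show Nat.Prime 13 by norm_num)]))
  have huv := in_of_slpW (M := M) _ hv rt_uvok
  obtain ⟨u, -, hu⟩ := huv _ List.mem_cons_self
  obtain ⟨v, -, hw⟩ := huv _ (List.mem_cons_of_mem _ List.mem_cons_self)
  refine ⟨simple_exc (by norm_num) hy' (by rw [hN]; norm_num)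
    (e2 h4) (fun _ _ => eq_top_of_mem ((Model.cl_pair hy hx).symm.trans h4) (i := 1) (k := 5) (m := 16)
      (M.eq_of (M.R_pw hx 5 (by norm_num)) M.R_one ?_) (powB1_spec hy hx ?_ (by norm_num) (by norm_num)) (by norm_num))
    (q := 3) (b := 3) (by norm_num)
    (hN ▸ exc_spec (l := [(2, 11), (5, 2), (13, 1)]) (by norm_num) (by decide) (by simp; norm_num) (by decide)
      (by norm_num) (by norm_num) (by decide)) (by rw [hN]; norm_num) (u := u) (v := v)
    (M.eq_of (M.R_pw hu 3 (by norm_num)) M.R_one ?_) (M.eq_of (M.R_pw hw 3 (by norm_num)) M.R_one ?_) fun e => ?_, hN⟩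
  iterate 4 (dsimp only [M, ruKM, Model.sub, Model.comap, Ar.gM, Ar.model]; decide +kernel)
  have := (M.eqb_iff (M.R_pw (M.R_mul hu hw) (3 ^ 3) (by norm_num)) M.R_one).2 e
  revert this; dsimp only [M, ruKM, Model.sub, Model.comap, Ar.gM, Ar.model]; decide +kernel

end H29
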