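import Cfsg.Agent.H29.Ru4

set_option autoImplicit false
set_option maxRecDepth 100000
set_option linter.style.haveILetI false
set_option linter.unusedVariables false
set_option linter.style.longLine false
set_option linter.unusedTactic false
set_option linter.unreachableTactic false

namespace H29

theorem ruX_0 : force rT14 (fun T => allX (leafB T) (ruC.drop 5) (nat_lit 0)) = true := by decide +kernel
theorem ruX_1 : force rT14 (fun T => allX (leafB T) (ruC.drop 5) (nat_lit 2544455407375544)) = true := by decide +kernel
theorem ruX_2 : force rT14 (fun T => allX (leafB T) (ruC.drop 5) (nat_lit 5648419828967982)) = true := by decide +kernel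
theorem ruX_3 : force rT14 (fun T => allX (leafB T) (ruC.drop 5) (nat_lit 8192590151597718)) = true := by decide +kernel
theorem ruX_4 : force rT14 (fun T => allX (leafB T) (ruC.drop 5) (nat_lit 11296632489465117)) = true := by decide +kernel
theorem ruX_5 : force rT14 (fun T => allX (leafB T) (ruC.drop 5) (nat_lit 9332727812014501)) = true := by decide +kernel
theorem ruX_6 : force rT14 (fun T => allX (leafB T) (ruC.drop 5) (nat_lit 16944638384668467)) = true := by decide +kernel
theorem ruX_7 : force rT14 (fun T => allX (leafB T) (ruC.drop 5) (nat_lit 14981001612094347)) = true := by decide +kernel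
theorem ruX_8 : force rT14 (fun T => allX (leafB T) (ruC.drop 5) (nat_lit 19184845974411417)) = true := by decide +kernel
theorem ruX_9 : force rT14 (fun T => allX (leafB T) (ruC.drop 5) (nat_lit 21711709191539745)) = true := by decide +kernel
theorem ruX_10 : force rT14 (fun T => allX (leafB T) (ruC.drop 5) (nat_lit 22581431315378871)) = true := by decide +kernel
theorem ruX_11 : force rT14 (fun T => allX (leafB T) (ruC.drop 5) (nat_lit 25108009456150031)) = true := by decide +kernel
theorem ruX_12 : force rT14 (fun T => allX (leafB T) (ruC.drop 5) (nat_lit 30411109715496324)) = true := by decide +kernel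
theorem ruX_13 : force rT14 (fun T => allX (leafB T) (ruC.drop 5) (nat_lit 28429612856203580)) = true := by decide +kernel
theorem ruX_14 : force rT14 (fun T => allX (leafB T) (ruC.drop 5) (nat_lit 33807281131087786)) = true := by decide +kernel
theorem ruX_15 : force rT14 (fun T => allX (leafB T) (ruC.drop 5) (nat_lit 31826052168282898)) = true := by decide +kernel

end H29
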