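import Cfsg.Agent.H29.Cc
import Cfsg.Agent.H29.A2x5
import Cfsg.Agent.H22.Linear

set_option autoImplicit false
set_option maxRecDepth 100000
set_option linter.style.haveILetI false
set_option linter.unusedVariables false
set_option linter.style.longLine false
set_option linter.unusedTactic false
set_option linter.unreachableTactic false

namespace H29

noncomputable def sl5_g : List ℕ := [nat_lit 0x1041061, nat_lit 0x1041841, nat_lit 0x1061041, nat_lit 0x1841041, nat_lit 0x1041051]
noncomputable def sl51_key : ℕ → ℕ := keyP a2_5.mul (nat_lit 0x1) (nat_lit 32)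
noncomputable def sl51_fix : ℕ → Bool := fixP a2_5.mul (nat_lit 0x1)
noncomputable def sl5K_ent : Tab := (.node (.leaf (nat_lit 0x130e1688e18ea28a682443e0c29f0f170a309853c4090c28c04166278a123c5859a2048914b450859284cf942baca196e18b863c3748e36acb159078c223439b981968f1294689a33c59e8029286114a08903385721e1a7c71080384b72059b0e32d4114ae48abd203748636ac7163a50a651451b122714e1b8870aeb246879e2b9090dce58d33304da9e284cf126420812005b91e3430015ee60bb8305ba0e2dd4814f2589a400672141c8cf13583881a3c5789c12dcf156e30b543845e861cdc90cb2708f6244280a2ce0a18b470922185691e328ce157c20a22043449220c4e199e68aa52045e1618fc511ca60b823c59b9618fc710b2789303454f8c227ca10b23089b3861f9022f4e0c443073018598022f341164460ae23058f9826100187e309322c45e8c1bb0b182418b82045b00e34e0719b218af9386289e20847164408a51184529221f0d153e189ac3046a182b9c7199c78ab51c53c9e239000e7448a1d384cc122e1051800783681c4d61a24889157a08681145729e29f01175678ab7005a31e2ed0e19da588402c20c8431f89128c38ba9385549e2afcc115608abe305c1102cf4714f22089b2c69e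862994f160600a3f24428982468c148e48ceb1c6a50c25a0e11e25851528481862af8f157c30ab5345819e2c0c616c050d5f286250e24d0f16507095b2c49b881e145104c484403c2230a2e08716c018da31c525162308f193e48889384738636148127a50a1d2c43c86240c5167470b603465f9e224c5197e308f63843c122ce0d19c87071b2451b0c215c6148c70b30245c3081e08d15d640c68384469e288cf16ca38f963c572101ce0f1b3060a1a3059c9e2dd01147e509453c59e8a2e9061b0a608b72c5c1182dd4f15c82864a2043c1a2ce091a3670a892c49b8e1d9431c927899f385cc1a2b34e0f4428dac244421c2ca041044487ac184cc0e287441294088ab005321c2528812c048d5f24622982294c127a78b6c3c518162adc916e270ce4183768a2124c11067898e2c309142e1071a0638b352469b123654f173e48ae41c39b901cdc60e6e787960451d0a26d8b179a48bc9245e39e2f3ce134a486ed1045382343c2150200b4a2c4bc162af4d0ef6706c038554162ca0b117870782245bc1a2c884173418a00241d2961bd8b134a3861118446922b90b0d2208a363044898288840d2248aa32451b843098b090278a4a2442c802164712764082a303e1982898e0ac240a2c384159c300040676088223039d982098a0a76689153441184289830a6e0878738500020eb0311fa78b682c4c5022db07171460a113045e8e1cccf1044586212c5350c3620c196230c57305c50c281c91ac238ab4305488c2db871ac230b303059d8e2004d167630800000))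
 (.leaf (nat_lit 0x198045110e1c0ca163e789ac204ba062e147123e308bd303a51824c0814e678b4a1c44f9c25c03182438a7828597963658714dc70bb51c5b19c2588e15d658d850c4728e2c54e1264788de3c5679c288880d6a58ba93c57f9e297831b2a38abd103b2162690f1a944891d3858c9c284ce104c684672c5288822d4f156a30ae40c3528c24d83196e38b840c64f902190f108018523144cd162f20e10b2488641c4861e2eac516e670d70386ad86210010a8c70b483851f802614a107e78982285b41e206ce097a5871a3c5528e2614010f838b760c6e6842ac05153e78986043)))

noncomputable def sl5K_g : List ℕ := [nat_lit 0x1041061, nat_lit 0x1041841, nat_lit 0x1061041, nat_lit 0x1841041, nat_lit 0x1041051]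
noncomputable def sl5K_key : ℕ → ℕ := keyX (modK (nat_lit 36299)) (nat_lit 19322)
noncomputable def sl5K_kt : ℕ → ℕ := pget (nat_lit 0xcfadcee0cecacd84cd50cd19cd13cc76cc5bcc47cc15cad3cac5c977c8dbc8c7c7cbc7c1c73ac72ac6e9c620c610c3c1c3abc34bc333c319c2fcc2fac2c0c2b0c250c21cc13ac12ac121c0d2c0bdc081c020c0107fbc7fb07fa27f447ef77ed17d147cee7cbe7cbc7c047bc57aea7aca79e479d07955793d78347826782477ff770f76f576d575ff750f748d7487744a74277421740173ac7373735d734c726b726172557243702170016fd56ef56ed36e8b6d9c6d8a6d156d136cfc6c446c276c086bf56bdd6b336b196afa6af56aa06a9e6a836a7f6a1c69fb6942693667f267b367ad67566752673c66ea66e566ca66a06683667165f5654564be64bc6455643d641c63a5638b62f562f462eb62c96288624a617c6163608e602660245fd45fc85f545f485f165e375e305e1f5d735d6d5d235cbc5cb25c665b325b105af25ad05a6b5a615a0c59fb5985590958c35795575956f556dd56c6566d564755d555d355a7555954c254c054be54b954b6546e543953ff53b5539752d6524b524751cb51c75145508d50445031502750134fde4fc14fbd4f854ef54ee64edb4e3b4e044def4dee4d8e4d414d3d4d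194cc04caa4c794c6e4af54aed49f548e648d548ae481c471f46da46d946d2464644bc44b243e542f5427e424e424841a8412740fa40a44098402440183fe73fbc3f823e5f3de83d853d263d1c3c673c433c203b713b533b4d3b003ac43aae3a113a0b39ef38e738c33820381e37bc37a23710370f36b73657360c35ef35d935d3358a358434d234bd3468341733e233873339331632e532d932ac32573251324f324b32263157314f308630082fe02fd22ef62eb22e9e2e4b2d3a2cfc2ca52c1d2ba52b682b432b272b132aa72a932a872a7f2a552a432a3729fb29aa297b290728be28662720271826ed265425e225d025cc25c6254a253424e6247d242023c02369234a234422eb22c72256215c212e202020181eee1ed21ea91e4a1d631c411c201ba51a8d1a711a5d1985196b186e18521826182017801668166315c314bf14a11480141f12f21257124f1248120c120911ff1157114f100c0fa90f490f360e560e330de90cc00c930c250aff0af60af50ad50a6d0959092a08e008da083907bd07a0079c0780073907200718070006f106ed06e106dd06b506a006940680063106200610060005ad05a0058c05800529052005080500049c0420040003490254013400c500b200a400a0009300850080004100260024001e001c001a00180016001400120010000e000c000a000800020000)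 (nat_lit 16) (nat_lit 0xffff)
noncomputable def sl5K_bt : ℕ → ℕ := pget (nat_lit 0x0) (nat_lit 1) (nat_lit 0x1)
noncomputable def sl5K : LvD where
  n := nat_lit 465
  g := sl5K_g
  T := [nat_lit 0x1041061, nat_lit 0x1041841, nat_lit 0x1061041, nat_lit 0x1841041, nat_lit 0x1041051, nat_lit 0x1061061, nat_lit 0x1041041, nat_lit 0x1041c61, nat_lit 0x1041861, nat_lit 0x1841c61, nat_lit 0x1841861, nat_lit 0x1841841, nat_lit 0x1c61841, nat_lit 0x1871841, nat_lit 0x1c61041, nat_lit 0x1861041, nat_lit 0x1841051, nat_lit 0x1841059, nat_lit 0x1041441, nat_lit 0x1061841, nat_lit 0x1071841, nat_lit 0x1441041, nat_lit 0x1045e71, nat_lit 0x1041871]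
  ab := nat_lit 0x1100a00901000e00e00f00b00b00e00900900400300300400200300300200500a009005001003003008007003000001001000002002000002000000000000000000000000000000
  ia := nat_lit 0x1601501301201000e00c00b009007005004003002001000
  ib := nat_lit 0x1701501401201100f00d00b00a008005004003002001000
  ent := Tab.get sl5K_ent (nat_lit 21) (nat_lit 0x1fffff) (nat_lit 380)
  key := sl5K_key
  ks := sl5K_kt
  loc := locB sl5K_key sl5K_kt sl5K_bt (nat_lit 0)

noncomputable def sl5C1_g : List ℕ := [nat_lit 0x58e441, nat_lit 0x46d1c1]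
noncomputable def sl5C1_key : ℕ → ℕ := keyT a2_5.mul sl51_key (nat_lit 0x1579b64) (nat_lit 5)
noncomputable def sl5C1_kt : ℕ → ℕ := pget (nat_lit 0x3bcce2b48c1ac4a020) (nat_lit 5) (nat_lit 0x1f)
noncomputable def sl5C1_bt : ℕ → ℕ := pget (nat_lit 0xa620) (nat_lit 4) (nat_lit 0xf)
noncomputable def sl5C1 : LvD where
  n := nat_lit 14
  g := sl5C1_g
  T := [nat_lit 0x58e441, nat_lit 0x46d1c1, nat_lit 0x1825441, nat_lit 0x1cab041, nat_lit 0x964441, nat_lit 0x14c42e1, nat_lit 0x465241, nat_lit 0x14c42c1, nat_lit 0x465261, nat_lit 0x14cc161, nat_lit 0x11ee141, nat_lit 0x11ab6e1, nat_lit 0x96c6c1, nat_lit 0x58e3e1, nat_lit 0x194f141, nat_lit 0x184d561]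
  ab := nat_lit 0x400900100000b00100900a000005008004008001007005006006005005001001003002002002000000000000000000
  ia := nat_lit 0xe00c00a008009001004000
  ib := nat_lit 0x400400400400400400400400400400400400400400400400400400400400400400400400400400400400400400400400400400400400400400400400400400400400400400400400400400400400400400400400f00d00b005001009000004
  ent := pget (nat_lit 0x10141a08201c1004100c1d0020081d102d082d142d0c2d1820000) (nat_lit 16) (nat_lit 0xffff)
  key := sl5C1_key
  ks := sl5C1_kt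
  loc := locB sl5C1_key sl5C1_kt sl5C1_bt (nat_lit 3)

noncomputable def sl5C1_fix : ℕ → Bool := fixT a2_5.mul sl51_fix (nat_lit 0x1579b64) (nat_lit 0xbb04ba)

noncomputable def sl5C2_g : List ℕ := [nat_lit 0x9a91c1, nat_lit 0x10e1141, nat_lit 0xdc9341]
noncomputable def sl5C2_key : ℕ → ℕ := keyT a2_5.mul sl51_key (nat_lit 0x184f154) (nat_lit 21)
noncomputable def sl5C2_kt : ℕ → ℕ := pget (nat_lit 0xef3386b12829020) (nat_lit 5) (nat_lit 0x1f)
noncomputable def sl5C2_bt : ℕ → ℕ := pget (nat_lit 0x8840) (nat_lit 4) (nat_lit 0xf)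
noncomputable def sl5C2 : LvD where
  n := nat_lit 12
  g := sl5C2_g
  T := [nat_lit 0x9a91c1, nat_lit 0x10e1141, nat_lit 0xdc9341, nat_lit 0x14613e1, nat_lit 0xd892e1, nat_lit 0x10412c1, nat_lit 0x10e13c1, nat_lit 0x1ca91c1, nat_lit 0xdc93e1, nat_lit 0x1ca9161, nat_lit 0x14c9341, nat_lit 0x14e9161]
  ab := nat_lit 0x2004000009008002007007002002005001001001003000000000000000000000000000
  ia := nat_lit 0x300a009002006001004000
  ib := nat_lit 0x400400400400400400400400400400400400400400400400400400400400400400400400400400400400400400400400400400400400400400400400400400400400400400400400400400400400400400400400300b002009001006000004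
  ent := pget (nat_lit 0x4171430001608290820141b08291025103018171030000) (nat_lit 16) (nat_lit 0xffff)
  key := sl5C2_key
  ks := sl5C2_kt
  loc := locB sl5C2_key sl5C2_kt sl5C2_bt (nat_lit 3)

noncomputable def sl5C2_fix : ℕ → Bool := fixT a2_5.mul sl51_fix (nat_lit 0x184f154) (nat_lit 0x152d0ed)

noncomputable def sl5C3_g : List ℕ := [nat_lit 0x1069161, nat_lit 0x10c90e1, nat_lit 0x10e12c1, nat_lit 0x10612c1]
noncomputable def sl5C3_key : ℕ → ℕ := keyT a2_5.mul sl51_key (nat_lit 0x14d3d6c) (nat_lit 13)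
noncomputable def sl5C3_kt : ℕ → ℕ := pget (nat_lit 0xad23029020) (nat_lit 5) (nat_lit 0x1f)
noncomputable def sl5C3_bt : ℕ → ℕ := pget (nat_lit 0x120) (nat_lit 3) (nat_lit 0x7)
noncomputable def sl5C3 : LvD where
  n := nat_lit 8
  g := sl5C3_g
  T := [nat_lit 0x1069161, nat_lit 0x10c90e1, nat_lit 0x10e12c1, nat_lit 0x10612c1, nat_lit 0x10410e1, nat_lit 0x10691c1, nat_lit 0x10e9261, nat_lit 0x1069261, nat_lit 0x10c1341, nat_lit 0x10c1141]
  ab := nat_lit 0x5006006000002001003001004000000000000000000000000000000000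
  ia := nat_lit 0x8007006003002001005000
  ib := nat_lit 0x5005005005005005005005005005005005005005005005005005005005005005005005005005005005005005005005005005005005005005005005005005005005005005005005005005005005005005005005009007006003002001000005
  ent := pget (nat_lit 0x5040c102041c10004101c408000) (nat_lit 14) (nat_lit 0x3fff)
  key := sl5C3_key
  ks := sl5C3_kt
  loc := locB sl5C3_key sl5C3_kt sl5C3_bt (nat_lit 3)

noncomputable def sl5C3_fix : ℕ → Bool := fixT a2_5.mul sl51_fix (nat_lit 0x14d3d6c) (nat_lit 0x1639b3c)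

noncomputable def sl5C4_g : List ℕ := [nat_lit 0x1041061, nat_lit 0x10411c1, nat_lit 0x10412e1, nat_lit 0x1041141]
noncomputable def sl5C4_key : ℕ → ℕ := keyT a2_5.mul sl51_key (nat_lit 0x1abac7b) (nat_lit 26)
noncomputable def sl5C4_kt : ℕ → ℕ := pget (nat_lit 0xef338ad2306b12829020) (nat_lit 5) (nat_lit 0x1f)
noncomputable def sl5C4_bt : ℕ → ℕ := pget (nat_lit 0xeca86420) (nat_lit 4) (nat_lit 0xf)
noncomputable def sl5C4 : LvD where
  n := nat_lit 16
  g := sl5C4_g
  T := [nat_lit 0x1041061, nat_lit 0x10411c1, nat_lit 0x10412e1, nat_lit 0x1041141, nat_lit 0x1041361, nat_lit 0x1041261, nat_lit 0x10411e1, nat_lit 0x10410e1]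
  ab := nat_lit 0x3006001000003004001002000000000000000000000000
  ia := nat_lit 0x7006005004003002001000
  ib := nat_lit 0x7006005004003002001000
  ent := pget (nat_lit 0x6142d1c20101110200811082014111420181004110c200c101c111c200010000) (nat_lit 16) (nat_lit 0xffff)
  key := sl5C4_key
  ks := sl5C4_kt
  loc := locB sl5C4_key sl5C4_kt sl5C4_bt (nat_lit 2)

noncomputable def sl5C4_fix : ℕ → Bool := fixT a2_5.mul sl51_fix (nat_lit 0x1abac7b) (nat_lit 0x533e71)

noncomputable def sl5C5_g : List ℕ := []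
noncomputable def sl5C5_ls : List Lv := []
noncomputable def sl5C4_ls : List Lv := sl5C4.lv a2_5.mul a2_5.one :: sl5C5_ls
noncomputable def sl5C3_ls : List Lv := sl5C3.lv a2_5.mul a2_5.one :: sl5C4_ls
noncomputable def sl5C2_ls : List Lv := sl5C2.lv a2_5.mul a2_5.one :: sl5C3_ls
noncomputable def sl5C1_ls : List Lv := sl5C1.lv a2_5.mul a2_5.one :: sl5C2_ls
noncomputable def sl5_aux : List ℕ := [nat_lit 0x58e441, nat_lit 0x46d1c1, nat_lit 0x1579b64, nat_lit 0xbb04ba, nat_lit 0x184f154, nat_lit 0x152d0ed, nat_lit 0x14d3d6c, nat_lit 0x1639b3c, nat_lit 0x1abac7b, nat_lit 0x533e71]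
theorem sl5K_ok : sl5K.ok a2_5.mul Nat.beq a2_5.one = true := by decide +kernel
theorem sl5K_k_0 : allR (kchk sl5K_key (cjU a2_5.mul (sl5K.lv a2_5.mul a2_5.one) (nat_lit 0x1041061)) sl5K_kt (nat_lit 465)) (nat_lit 0) (nat_lit 465) = true := by decide +kernel
theorem sl5K_k : ∀ j < nat_lit 465, (kchk sl5K_key (cjU a2_5.mul (sl5K.lv a2_5.mul a2_5.one) (nat_lit 0x1041061)) sl5K_kt (nat_lit 465)) j = true :=
  (allR_step (c := nat_lit 465) (fun _ h => absurd h (Nat.not_lt_zero _)) sl5K_k_0 (by decide))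

theorem sl5C1_ok : sl5C1.ok a2_5.mul Nat.beq a2_5.one = true := by decide +kernel
theorem sl5C1_next : sl5C1.nextOK a2_5.mul a2_5.one sl5C2_g (nat_lit 0x900000100000100000400000a00000b000004000001000003) = true := by decide +kernel
theorem sl5C1_fx : allL sl5C1_fix sl5C2_g = true := by decide +kernel
theorem sl5C1_k_0 : allR (kchk sl5C1_key (sl5C1.lv a2_5.mul a2_5.one).U sl5C1_kt (nat_lit 14)) (nat_lit 0) (nat_lit 14) = true := by decide +kernel
theorem sl5C1_k : ∀ j < nat_lit 14, (kchk sl5C1_key (sl5C1.lv a2_5.mul a2_5.one).U sl5C1_kt (nat_lit 14)) j = true :=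
  (allR_step (c := nat_lit 14) (fun _ h => absurd h (Nat.not_lt_zero _)) sl5C1_k_0 (by decide))

theorem sl5C2_ok : sl5C2.ok a2_5.mul Nat.beq a2_5.one = true := by decide +kernel
theorem sl5C2_next : sl5C2.nextOK a2_5.mul a2_5.one sl5C3_g (nat_lit 0x500000300000500000a00000000000100000000000300000200000400000100000a) = true := by decide +kernel
theorem sl5C2_fx : allL sl5C2_fix sl5C3_g = true := by decide +kernel
theorem sl5C2_k_0 : allR (kchk sl5C2_key (sl5C2.lv a2_5.mul a2_5.one).U sl5C2_kt (nat_lit 12)) (nat_lit 0) (nat_lit 12) = true := by decide +kernel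
theorem sl5C2_k : ∀ j < nat_lit 12, (kchk sl5C2_key (sl5C2.lv a2_5.mul a2_5.one).U sl5C2_kt (nat_lit 12)) j = true :=
  (allR_step (c := nat_lit 12) (fun _ h => absurd h (Nat.not_lt_zero _)) sl5C2_k_0 (by decide))

theorem sl5C3_ok : sl5C3.ok a2_5.mul Nat.beq a2_5.one = true := by decide +kernel
theorem sl5C3_next : sl5C3.nextOK a2_5.mul a2_5.one sl5C4_g (nat_lit 0x4000002000002000003000006000004000002000008000006000001000000000002) = true := by decide +kernel
theorem sl5C3_fx : allL sl5C3_fix sl5C4_g = true := by decide +kernel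
theorem sl5C3_k_0 : allR (kchk sl5C3_key (sl5C3.lv a2_5.mul a2_5.one).U sl5C3_kt (nat_lit 8)) (nat_lit 0) (nat_lit 8) = true := by decide +kernel
theorem sl5C3_k : ∀ j < nat_lit 8, (kchk sl5C3_key (sl5C3.lv a2_5.mul a2_5.one).U sl5C3_kt (nat_lit 8)) j = true :=
  (allR_step (c := nat_lit 8) (fun _ h => absurd h (Nat.not_lt_zero _)) sl5C3_k_0 (by decide))

theorem sl5C4_ok : sl5C4.ok a2_5.mul Nat.beq a2_5.one = true := by decide +kernel
theorem sl5C4_next : sl5C4.nextOK a2_5.mul a2_5.one sl5C5_g (nat_lit 0x0) = true := by decide +kernel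
theorem sl5C4_fx : allL sl5C4_fix sl5C5_g = true := by decide +kernel
theorem sl5C4_k_0 : allR (kchk sl5C4_key (sl5C4.lv a2_5.mul a2_5.one).U sl5C4_kt (nat_lit 16)) (nat_lit 0) (nat_lit 16) = true := by decide +kernel
theorem sl5C4_k : ∀ j < nat_lit 16, (kchk sl5C4_key (sl5C4.lv a2_5.mul a2_5.one).U sl5C4_kt (nat_lit 16)) j = true :=
  (allR_step (c := nat_lit 16) (fun _ h => absurd h (Nat.not_lt_zero _)) sl5C4_k_0 (by decide))

theorem sl5_auxok : slpR a2_5.mul a2_5.one (wdsOK a2_5.mul a2_5.one sl5_aux [nat_lit 0x101602502a03103603103605405f05405d, nat_lit 0x101101503103a05d, nat_lit 0x100402503a01005f05406c04a06d06c06b05c06d06906a, nat_lit 0x100403a01005f05405f05406d06c06706906b, nat_lit 0x100401e02503103603103605400306d06c06706905c, nat_lit 0x101100a02501b03105f06d06c05b, nat_lit 0x100201e02502a03103601003604a05406d06c06d06706906a, nat_lit 0x100000101e01503a05f05406c04a06d06c06706906a, nat_lit 0x101101e01b03a05405f05405d06d06c06706b, nat_lit 0x100002502a03103604a06c06d]) (nat_lit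 105) (nat_lit 0x1000401400201300206805000000500f00002300001300000000c00b02001300000800001d00000100000600d01a00c02002601800000200000a00001501000f00f00500000200001100000000200000300200e00000100000001200000300000e00000f00000100501e01301501d00b00001300001200000000e01000700600000a00000200000100000100200700101100901800003900001600000b00003601400000b00000200000000000002400001800000300002e00000b00000101400901e01202a01c00001000001a00000e00000300000c00001600000a01502200002000001a00001b00001b00001b00000b00001a00001800001601001800001600001000001100000300000100000100901100f00d00f00100000d00000d00000b000005000006000009000004000002000005006003002001002) sl5_g = true := by decide +kernel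
theorem sl5_cent {G : Type*} [Group G] (M : Model G) (h1 : M.mul = a2_5.mul) (h2 : M.eqb = Nat.beq)
    (h3 : M.one = a2_5.one) (vv : ∀ c ∈ sl5_g, M.In ⊤ c) {St : Subgroup G} (k1 : Key M St sl51_key sl51_fix) [Finite G]
    (hN : Nat.card G = 9999360) (hu : M.Uq) {z : G} (hz : M.R (nat_lit 0x1041061) z) :
    (∀ c ∈ sl5C1_g, M.In ⊤ c) ∧ M.cl sl5C1_g = Subgroup.centralizer {z} ∧ Nat.card (Subgroup.centralizer {z}) = 21504 := by
  obtain ⟨R, one, mul, eqb, a1, a2, a3⟩ := M
  dsimp only at h1 h2 h3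
  subst h1 h2 h3
  set M : Model G := ⟨R, a2_5.one, a2_5.mul, Nat.beq, a1, a2, a3⟩ with hM
  have va := in_of_slpW (M := M) _ vv sl5_auxok
  obtain ⟨tsl5C1, hTsl5C1⟩ := exists_R va (c := (nat_lit 0x1579b64)) (by (try dsimp only [M]); decide +kernel)
  have ksl5C1 : Key M (cjS St tsl5C1) sl5C1_key sl5C1_fix := k1.keyT hTsl5C1 (R_inv_of hTsl5C1 (exists_R va (c := (nat_lit 0xbb04ba)) (by (try dsimp only [M]); decide +kernel)) (by (try dsimp only [M]); decide +kernel)) _
  obtain ⟨tsl5C2, hTsl5C2⟩ := exists_R va (c := (nat_lit 0x184f154)) (by (try dsimp only [M]); decide +kernel)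
  have ksl5C2 : Key M (cjS St tsl5C2) sl5C2_key sl5C2_fix := k1.keyT hTsl5C2 (R_inv_of hTsl5C2 (exists_R va (c := (nat_lit 0x152d0ed)) (by (try dsimp only [M]); decide +kernel)) (by (try dsimp only [M]); decide +kernel)) _
  obtain ⟨tsl5C3, hTsl5C3⟩ := exists_R va (c := (nat_lit 0x14d3d6c)) (by (try dsimp only [M]); decide +kernel)
  have ksl5C3 : Key M (cjS St tsl5C3) sl5C3_key sl5C3_fix := k1.keyT hTsl5C3 (R_inv_of hTsl5C3 (exists_R va (c := (nat_lit 0x1639b3c)) (by (try dsimp only [M]); decide +kernel)) (by (try dsimp only [M]); decide +kernel)) _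
  obtain ⟨tsl5C4, hTsl5C4⟩ := exists_R va (c := (nat_lit 0x1abac7b)) (by (try dsimp only [M]); decide +kernel)
  have ksl5C4 : Key M (cjS St tsl5C4) sl5C4_key sl5C4_fix := k1.keyT hTsl5C4 (R_inv_of hTsl5C4 (exists_R va (c := (nat_lit 0x533e71)) (by (try dsimp only [M]); decide +kernel)) (by (try dsimp only [M]); decide +kernel)) _
  have gsl5C1 : ∀ c ∈ sl5C1_g, M.In ⊤ c := valid_sub va (by (try dsimp only [M]); decide +kernel)
  have gsl5C2 := LvD.valid_next (D := sl5C1) gsl5C1 sl5C1_ok sl5C1_next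
  have lsl5C1 := LvD.le_next (D := sl5C1) gsl5C1 sl5C1_ok sl5C1_next
  have gsl5C3 := LvD.valid_next (D := sl5C2) gsl5C2 sl5C2_ok sl5C2_next
  have lsl5C2 := LvD.le_next (D := sl5C2) gsl5C2 sl5C2_ok sl5C2_next
  have gsl5C4 := LvD.valid_next (D := sl5C3) gsl5C3 sl5C3_ok sl5C3_next
  have lsl5C3 := LvD.le_next (D := sl5C3) gsl5C3 sl5C3_ok sl5C3_next
  have gsl5C5 := LvD.valid_next (D := sl5C4) gsl5C4 sl5C4_ok sl5C4_next
  have lsl5C4 := LvD.le_next (D := sl5C4) gsl5C4 sl5C4_ok sl5C4_next
  have csl5C5 : 1 ≤ Nat.card (M.cl sl5C5_g) := Nat.card_pos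
  have csl5C4 : 16 ≤ Nat.card (M.cl sl5C4_g) := le_trans (by (try dsimp only [M]); decide +kernel) (LvD.lower (D := sl5C4) gsl5C4 sl5C4_ok csl5C5 lsl5C4 ksl5C4 sl5C4_fx sl5C4_k)
  have csl5C3 : 128 ≤ Nat.card (M.cl sl5C3_g) := le_trans (by (try dsimp only [M]); decide +kernel) (LvD.lower (D := sl5C3) gsl5C3 sl5C3_ok csl5C4 lsl5C3 ksl5C3 sl5C3_fx sl5C3_k)
  have csl5C2 : 1536 ≤ Nat.card (M.cl sl5C2_g) := le_trans (by (try dsimp only [M]); decide +kernel) (LvD.lower (D := sl5C2) gsl5C2 sl5C2_ok csl5C3 lsl5C2 ksl5C2 sl5C2_fx sl5C2_k)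
  have csl5C1 : 21504 ≤ Nat.card (M.cl sl5C1_g) := le_trans (by (try dsimp only [M]); decide +kernel) (LvD.lower (D := sl5C1) gsl5C1 sl5C1_ok csl5C2 lsl5C1 ksl5C1 sl5C1_fx sl5C1_k)
  exact ⟨gsl5C1, cent_eq_cl hz (by (try dsimp only [M]); decide +kernel) (sol_le_of_class hu (D := sl5K) vv sl5K_ok hz sl5K_k (Subgroup.card_top.trans hN).le) csl5C1⟩

noncomputable def sl5M : Model (Matrix.SpecialLinearGroup (Fin 5) (ZMod 2)) := a2_5.model _ slM_inj

theorem sl5_s {s : Matrix.SpecialLinearGroup (Fin 5) (ZMod 2)}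
    (hs : (s : Matrix (Fin 5) (Fin 5) (ZMod 2)) = Matrix.transvection 0 1 1) :
    (∀ c ∈ sl5C1_g, sl5M.In ⊤ c) ∧ sl5M.cl sl5C1_g = Subgroup.centralizer {s} ∧
      Nat.card (Subgroup.centralizer {s}) = 21504 := by
  have hv : ∀ (i j : Fin 5) (h : i ≠ j) (c : ℕ), arrOK 5 1 c (ent (Matrix.transvection i j (1 : ZMod 2))) = true →
      sl5M.In ⊤ c := fun i j h c e => ⟨⟨_, Matrix.det_transvection_of_ne i j h 1⟩, trivial, code_eq_chk _ one_pos e⟩
  have hN : Nat.card (Matrix.SpecialLinearGroup (Fin 5) (ZMod 2)) = 9999360 := by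
    have h := H22.card_SL (F := ZMod 2) 5 (by norm_num)
    rw [ZMod.card] at h
    exact (one_mul _).symm.trans (h.trans (by decide +kernel))
  obtain ⟨St, k⟩ := a2_5.keyP' _ (slM_inj (ι := Fin 5) (F := ZMod 2)) 1 32 (by decide +kernel)
  refine sl5_cent sl5M rfl rfl rfl ?_ k hN (fun _ _ _ a b => a.trans b.symm)
    ((code_eq_chk _ one_pos (by decide +kernel)).trans (congrArg (code 1) hs.symm))
  exact List.forall_mem_cons.2 ⟨hv 0 1 (by decide) _ (by decide +kernel),
    List.forall_mem_cons.2 ⟨hv 1 2 (by decide) _ (by decide +kernel),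
    List.forall_mem_cons.2 ⟨hv 2 3 (by decide) _ (by decide +kernel),
    List.forall_mem_cons.2 ⟨hv 3 4 (by decide) _ (by decide +kernel),
    List.forall_mem_cons.2 ⟨hv 4 0 (by decide) _ (by decide +kernel),
    List.forall_mem_nil _⟩⟩⟩⟩⟩

end H29
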