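import Cfsg.Agent.H29.LM
import Cfsg.Agent.H29.A2x8
import Cfsg.Agent.S0245

set_option autoImplicit false
set_option maxRecDepth 100000
set_option linter.style.haveILetI false
set_option linter.unusedVariables false
set_option linter.style.longLine false
set_option linter.unusedTactic false
set_option linter.unreachableTactic false

namespace H29

noncomputable def sp44_g : List ℕ := [nat_lit 0x79e7874e56fd5cf8, nat_lit 0x844c201008040201, nat_lit 0xe0969d741c30201, nat_lit 0x5bf64dcb65dfb46c, nat_lit 0x2e1979e751f35bf6]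
noncomputable def sp44_z : ℕ := (nat_lit 0x8040201008040201)
noncomputable def sp44_zs : List ℕ := [nat_lit 0x8040201008040201]
noncomputable def sp441_key : ℕ → ℕ := keyP a2_8.mul (nat_lit 0x1) (nat_lit 256)
noncomputable def sp441_fix : ℕ → Bool := fixP a2_8.mul (nat_lit 0x1)
theorem sp44_key {Q : Type*} [Group Q] (q : QM Q a2_8 sp44_g sp44_z sp44_zs) : ∃ St, Key q.M St sp441_key sp441_fix :=
  q.keyP _ _ (by decide +kernel)
noncomputable def sp44v1_key : ℕ → ℕ := keyP a2_8.mul (nat_lit 0x1) (nat_lit 256)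
noncomputable def sp44v1_fix : ℕ → Bool := fixP a2_8.mul (nat_lit 0x1)
noncomputable def sp44vT1_g : List ℕ := [nat_lit 0x79e7874e56fd5cf8, nat_lit 0x844c201008040201, nat_lit 0xe0969d741c30201, nat_lit 0x5bf64dcb65dfb46c, nat_lit 0x2e1979e751f35bf6]
noncomputable def sp44vT1_key : ℕ → ℕ := keyT a2_8.mul sp44v1_key (nat_lit 0x8040201008040201) (nat_lit 0)
noncomputable def sp44vT1_kt : ℕ → ℕ := pget (nat_lit 0xfffefdfcfbfaf9f8f7f6f5f4f3f2f1f0efeeedecebeae9e8e7e6e5e4e3e2e1e0dfdedddcdbdad9d8d7d6d5d4d3d2d1d0cfcecdcccbcac9c8c7c6c5c4c3c2c1c0bfbebdbcbbbab9b8b7b6b5b4b3b2b1b0afaeadacabaaa9a8a7a6a5a4a3a2a1a09f9e9d9c9b9a999897969594939291908f8e8d8c8b8a898887868584838281807f7e7d7c7b7a797877767574737271706f6e6d6c6b6a696867666564636261605f5e5d5c5b5a595857565554535251504f4e4d4c4b4a494847464544434241403f3e3d3c3b3a393837363534333231302f2e2d2c2b2a292827262524232221201f1e1d1c1b1a191817161514131211100f0e0d0c0b0a090807060504030200) (nat_lit 8) (nat_lit 0xff)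
noncomputable def sp44vT1_bt : ℕ → ℕ := pget (nat_lit 0xfbf7f3efebe7e3dfdbd7d3cfcbc7c3bfbbb7b3afaba7a39f9b97938f8b87837f7b77736f6b67635f5b57534f4b47433f3b37332f2b27231f1b17130f0b070300) (nat_lit 8) (nat_lit 0xff)
noncomputable def sp44vT1 : LvD where
  n := nat_lit 255
  g := sp44vT1_g
  T := [nat_lit 0x79e7874e56fd5cf8, nat_lit 0x844c201008040201, nat_lit 0xe0969d741c30201, nat_lit 0x5bf64dcb65dfb46c, nat_lit 0x2e1979e751f35bf6, nat_lit 0x844c874e56fd5cf8, nat_lit 0x75ef83425af550f0, nat_lit 0xcd8bce891f3a5cf8, nat_lit 0xffaac68d1f3a50f0, nat_lit 0x79e75cf856fd874e, nat_lit 0x5bf6b46c65df4dcb, nat_lit 0x9b763f2a0804271e, nat_lit 0x3824c68d56fddeb9, nat_lit 0x79e7a25173e25cf8, nat_lit 0x9c788a45a25173e2, nat_lit 0xe09b2619a75b46c, nat_lit 0x6bd6241c0c082a15, nat_lit 0xe9972c18040c2a15, nat_lit 0xf0a01f3ace89b060, nat_lit 0xc3828342ec983d2b, nat_lit 0x78e43b260c081030, nat_lit 0xca850302040c1f3a]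
  ab := nat_lit 0xb01101000b00600300300500400f00e00400200300300200600b00b005007007003000000003002006005002000001001000000000000000000000000000000000
  ia := nat_lit 0x1401201000800e00c00b009007006005004003002001000
  ib := nat_lit 0x1501301100700f00d00b00a008005006004003002001000
  ent := pget (nat_lit 0xf6042e238242343552c342283c724300001d920300101653c3423c3e22424e1c27334300181743c3593c340183443c44a003e20425b0c3830c3b11436538310103403c34a183002c1b71424e102b51834a3834e302872c379343e02836c3c2473c37214478103870031e202793c34c343133828618326104a10c4302c2830831e382c20436c0024a1c313282e4384cd043720c41e0c26c1026c1829e003301823008260382c13c31e18245183f8382452c300281a5383e23c28e1c4fb3c4a7243e2342c93c37228407003740c3cb343a704340303fe2c3cb3c3f0102e1343f634230202fd3c3d63c4a5043f6142c71c330102f20c3b7282a51c3c1103c3003b7242f63c2d93c3c22c3c2143fe3c3d9083e03037f383f23c3c934365203c23c3f83c28e044401c3e01c3f82c2300c2e13c359383f0342c1343d62c4c1383f03c27f2c3a73c383003572c38b103b738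2f60822918340243cb383f6282f0382873439c34383183be3c3971038c2c4000c1b71c2bf183fe303bd343aa344c7143f61c2a5283b03c4973c3cb103003815524387383aa3c4a71834e242a5143f0182f22c3b73c2a72c3f8142e20c257043870c3b02c4fe1034e28200201a0343f6382b53c3b7342130027f3c36c2824a04313182873c36c2424e042a03c3f60c2a7383651032c3c4073c3a7203f02022424430342fe0834a2037f0c36b103833031e34255283003c1b91c3b11c3832c3d9103c928387143f00c235244440c4103c3a70834028330382d9003d41032c3443734400241a70c310343e22c2c21c3321c307203c20c3fe203b7102b10030034132343b72c26c202a50c347383831c374383323c34d1c4b93034f103f62c2113c357003e2282c208359103a014300000) (nat_lit 20) (nat_lit 0xfffff)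
  key := sp44vT1_key
  ks := sp44vT1_kt
  loc := locB sp44vT1_key sp44vT1_kt sp44vT1_bt (nat_lit 2)

noncomputable def sp44vT1_fix : ℕ → Bool := fixT a2_8.mul sp44v1_fix (nat_lit 0x8040201008040201) (nat_lit 0x8040201008040201)

noncomputable def sp44vT2_g : List ℕ := [nat_lit 0xb06e79e874e0201, nat_lit 0x50fa854c68d0201]
noncomputable def sp44vT2_key : ℕ → ℕ := keyT a2_8.mul sp44v1_key (nat_lit 0xfea9d5bf1834c987) (nat_lit 134)
noncomputable def sp44vT2_kt : ℕ → ℕ := pget (nat_lit 0xcfcecdcccbcac9c8c7c6c5c4c3c2c1c08f8e8d8c8b8a8988838281804f4e4d4c4b4a494847464544434241400f0e0d0c0b0a09080706050403020100) (nat_lit 8) (nat_lit 0xff)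
noncomputable def sp44vT2_bt : ℕ → ℕ := pget (nat_lit 0xd2cb2cb2cb2c920820820820610410410410200) (nat_lit 6) (nat_lit 0x3f)
noncomputable def sp44vT2 : LvD where
  n := nat_lit 60
  g := sp44vT2_g
  T := [nat_lit 0xb06e79e874e0201, nat_lit 0x50fa854c68d0201, nat_lit 0x844ca75e46cd0201, nat_lit 0x49c7ed9b83420201, nat_lit 0x45cfa3524ac50201, nat_lit 0x49c7ef9a83420201, nat_lit 0x8c486bd6854f0201, nat_lit 0x46cda55fc2810201, nat_lit 0x4ec963d289470201, nat_lit 0x46cda45cc2810201, nat_lit 0xc58f2c188b460201, nat_lit 0x874ee49c8c480201, nat_lit 0xc183ad5bc48c0201, nat_lit 0x43c2251fce890201, nat_lit 0xb06e59f874e0201]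
  ab := nat_lit 0x4004001005000009009005000001008001007007006006001001004000003003002002000000000000000000
  ia := nat_lit 0x300c00200a009001005000
  ib := nat_lit 0x500500500500500500500500500500500500500500500500500500500500500500500500500500500500500500500500500500500500500500500500500500500500500500500500500500500500500500500500e00d00400b001009000005
  ent := pget (nat_lit 0x5440c70420050561038400cc102006070143d440910039830d30028440f91820000621030010581844c30870024c40ad1827010d5003d410931423060911439800cc0425450ed1024c10b50024c609c08330208c142ac308e144003047102ac20a8183a040dc0039850c0081d4309c1435c10cc00200406904308412d1421c509c1834820c0000) (nat_lit 18) (nat_lit 0x3ffff)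
  key := sp44vT2_key
  ks := sp44vT2_kt
  loc := locB sp44vT2_key sp44vT2_kt sp44vT2_bt (nat_lit 3)

noncomputable def sp44vT2_fix : ℕ → Bool := fixT a2_8.mul sp44v1_fix (nat_lit 0xfea9d5bf1834c987) (nat_lit 0xad5b19373f2a4dcb)

noncomputable def sp44vT3_g : List ℕ := [nat_lit 0x83426ed909070201, nat_lit 0x50fa45cc2810201, nat_lit 0x8040221108040201, nat_lit 0x40c2113c0800201, nat_lit 0x8040211308040201, nat_lit 0x48c4211344cc0201]
noncomputable def sp44vT3_key : ℕ → ℕ := keyT a2_8.mul sp44v1_key (nat_lit 0x163d3927ae59f2a1) (nat_lit 160)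
noncomputable def sp44vT3_kt : ℕ → ℕ := pget (nat_lit 0xcbcac9c8878685844f4e4d4c03020100) (nat_lit 8) (nat_lit 0xff)
noncomputable def sp44vT3_bt : ℕ → ℕ := pget (nat_lit 0xcc88440) (nat_lit 4) (nat_lit 0xf)
noncomputable def sp44vT3 : LvD where
  n := nat_lit 16
  g := sp44vT3_g
  T := [nat_lit 0x83426ed909070201, nat_lit 0x50fa45cc2810201, nat_lit 0x8040221108040201, nat_lit 0x40c2113c0800201, nat_lit 0x8040211308040201, nat_lit 0x48c4211344cc0201, nat_lit 0x8143a55f0a050201, nat_lit 0x83426fda09070201]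
  ab := nat_lit 0x4001003000000000000000000000000000000000000
  ia := nat_lit 0x7006005004003002001000
  ib := nat_lit 0x7006005004003002001000
  ent := pget (nat_lit 0x4285c30c0a0d0c2418486080608181a104870800081c1210402040208000) (nat_lit 15) (nat_lit 0x7fff)
  key := sp44vT3_key
  ks := sp44vT3_kt
  loc := locB sp44vT3_key sp44vT3_kt sp44vT3_bt (nat_lit 5)

noncomputable def sp44vT3_fix : ℕ → Bool := fixT a2_8.mul sp44v1_fix (nat_lit 0x163d3927ae59f2a1) (nat_lit 0xc68da957b060b76e)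

noncomputable def sp44vT4_g : List ℕ := [nat_lit 0xcf8a6fda8d4b0201, nat_lit 0x50fa55fc2810201]
noncomputable def sp44vT4_key : ℕ → ℕ := keyT a2_8.mul sp44v1_key (nat_lit 0xcc88322140c03322) (nat_lit 35)
noncomputable def sp44vT4_kt : ℕ → ℕ := pget (nat_lit 0xca854f00) (nat_lit 8) (nat_lit 0xff)
noncomputable def sp44vT4_bt : ℕ → ℕ := pget (nat_lit 0x8) (nat_lit 2) (nat_lit 0x3)
noncomputable def sp44vT4 : LvD where
  n := nat_lit 4
  g := sp44vT4_g
  T := [nat_lit 0xcf8a6fda8d4b0201, nat_lit 0x50fa55fc2810201, nat_lit 0x8040201008040201, nat_lit 0x4ac5ea9547ce0201]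
  ab := nat_lit 0x1000000000000000000
  ia := nat_lit 0x3001000
  ib := nat_lit 0x3001000
  ent := pget (nat_lit 0x81410100) (nat_lit 8) (nat_lit 0xff)
  key := sp44vT4_key
  ks := sp44vT4_kt
  loc := locB sp44vT4_key sp44vT4_kt sp44vT4_bt (nat_lit 7)

noncomputable def sp44vT4_fix : ℕ → Bool := fixT a2_8.mul sp44v1_fix (nat_lit 0xcc88322140c03322) (nat_lit 0xc0832214cc83322)

noncomputable def sp44vT5_g : List ℕ := []
noncomputable def sp44vT5_ls : List Lv := []
noncomputable def sp44vT4_ls : List Lv := sp44vT4.lv a2_8.mul a2_8.one :: sp44vT5_ls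
noncomputable def sp44vT3_ls : List Lv := sp44vT3.lv a2_8.mul a2_8.one :: sp44vT4_ls
noncomputable def sp44vT2_ls : List Lv := sp44vT2.lv a2_8.mul a2_8.one :: sp44vT3_ls
noncomputable def sp44vT1_ls : List Lv := sp44vT1.lv a2_8.mul a2_8.one :: sp44vT2_ls
noncomputable def sp44v_aux : List ℕ := [nat_lit 0x79e7874e56fd5cf8, nat_lit 0x844c201008040201, nat_lit 0xe0969d741c30201, nat_lit 0x5bf64dcb65dfb46c, nat_lit 0x2e1979e751f35bf6, nat_lit 0x8040201008040201, nat_lit 0xfea9d5bf1834c987, nat_lit 0xad5b19373f2a4dcb, nat_lit 0x163d3927ae59f2a1, nat_lit 0xc68da957b060b76e, nat_lit 0xcc88322140c03322, nat_lit 0xc0832214cc83322]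
theorem sp44vT1_ok : sp44vT1.ok a2_8.mul Nat.beq a2_8.one = true := by decide +kernel
theorem sp44vT1_next : sp44vT1.nextOK a2_8.mul a2_8.one sp44vT2_g (nat_lit 0x800000200003f0000bc000002000032) = true := by decide +kernel
theorem sp44vT1_fx : allL sp44vT1_fix sp44vT2_g = true := by decide +kernel
theorem sp44vT1_k_0 : allR (kchk sp44vT1_key (sp44vT1.lv a2_8.mul a2_8.one).U sp44vT1_kt (nat_lit 255)) (nat_lit 0) (nat_lit 255) = true := by decide +kernel
theorem sp44vT1_k : ∀ j < nat_lit 255, (kchk sp44vT1_key (sp44vT1.lv a2_8.mul a2_8.one).U sp44vT1_kt (nat_lit 255)) j = true :=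
  (allR_step (c := nat_lit 255) (fun _ h => absurd h (Nat.not_lt_zero _)) sp44vT1_k_0 (by decide))

theorem sp44vT2_ok : sp44vT2.ok a2_8.mul Nat.beq a2_8.one = true := by decide +kernel
theorem sp44vT2_next : sp44vT2.nextOK a2_8.mul a2_8.one sp44vT3_g (nat_lit 0x3100000000002300000f00000500001d00001e00000300002700001600000300000800001800000300003700002500000100003a) = true := by decide +kernel
theorem sp44vT2_fx : allL sp44vT2_fix sp44vT3_g = true := by decide +kernel
theorem sp44vT2_k_0 : allR (kchk sp44vT2_key (sp44vT2.lv a2_8.mul a2_8.one).U sp44vT2_kt (nat_lit 60)) (nat_lit 0) (nat_lit 60) = true := by decide +kernel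
theorem sp44vT2_k : ∀ j < nat_lit 60, (kchk sp44vT2_key (sp44vT2.lv a2_8.mul a2_8.one).U sp44vT2_kt (nat_lit 60)) j = true :=
  (allR_step (c := nat_lit 60) (fun _ h => absurd h (Nat.not_lt_zero _)) sp44vT2_k_0 (by decide))

theorem sp44vT3_ok : sp44vT3.ok a2_8.mul Nat.beq a2_8.one = true := by decide +kernel
theorem sp44vT3_next : sp44vT3.nextOK a2_8.mul a2_8.one sp44vT4_g (nat_lit 0xe00000600000600000b000005000006) = true := by decide +kernel
theorem sp44vT3_fx : allL sp44vT3_fix sp44vT4_g = true := by decide +kernel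
theorem sp44vT3_k_0 : allR (kchk sp44vT3_key (sp44vT3.lv a2_8.mul a2_8.one).U sp44vT3_kt (nat_lit 16)) (nat_lit 0) (nat_lit 16) = true := by decide +kernel
theorem sp44vT3_k : ∀ j < nat_lit 16, (kchk sp44vT3_key (sp44vT3.lv a2_8.mul a2_8.one).U sp44vT3_kt (nat_lit 16)) j = true :=
  (allR_step (c := nat_lit 16) (fun _ h => absurd h (Nat.not_lt_zero _)) sp44vT3_k_0 (by decide))

theorem sp44vT4_ok : sp44vT4.ok a2_8.mul Nat.beq a2_8.one = true := by decide +kernel
theorem sp44vT4_next : sp44vT4.nextOK a2_8.mul a2_8.one sp44vT5_g (nat_lit 0x0) = true := by decide +kernel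
theorem sp44vT4_fx : allL sp44vT4_fix sp44vT5_g = true := by decide +kernel
theorem sp44vT4_k_0 : allR (kchk sp44vT4_key (sp44vT4.lv a2_8.mul a2_8.one).U sp44vT4_kt (nat_lit 4)) (nat_lit 0) (nat_lit 4) = true := by decide +kernel
theorem sp44vT4_k : ∀ j < nat_lit 4, (kchk sp44vT4_key (sp44vT4.lv a2_8.mul a2_8.one).U sp44vT4_kt (nat_lit 4)) j = true :=
  (allR_step (c := nat_lit 4) (fun _ h => absurd h (Nat.not_lt_zero _)) sp44vT4_k_0 (by decide))

theorem sp44v_auxok : slpR a2_8.mul a2_8.one (wdsOK a2_8.mul a2_8.one sp44v_aux [nat_lit 0x1050, nat_lit 0x100601d02302c02f032, nat_lit 0x100701d000033028, nat_lit 0x1053, nat_lit 0x1054, nat_lit 0x1, nat_lit 0x101001d01702300002b01c01c053045050, nat_lit 0x101001700003d02c02b053050, nat_lit 0x100701d02300002c02805303a047, nat_lit 0x102302b02c054053045, nat_lit 0x101001700002b01c03304804b, nat_lit 0x100700003204804b]) (nat_lit 80) (nat_lit 0x2a00001a00003000002400003800002602400000901500001a00000100001801201f00002600001a00001a00001a01b00600000000502a00000800000700001d00000b01b02500000300002300000700001700f01601501f00001300001200001c00001100001a00e01900000e00000200001600000400100600200000200000100301100000600000000400400000000000000b00b00000a01f00000500000f00001a00000300001600000101600c00a00001701300f01200001400000500000500000500000900000c00000a00e00c00100900a00b000000007000001000009005006001000006000003002001000)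 sp44_g = true := by decide +kernel
theorem sp44v_low {G : Type*} [Group G] (M : Model G) (h1 : M.mul = a2_8.mul) (h2 : M.eqb = Nat.beq)
    (h3 : M.one = a2_8.one) (vv : ∀ c ∈ sp44_g, M.In ⊤ c) {St : Subgroup G} (k1 : Key M St sp44v1_key sp44v1_fix) [Finite G] :
    979200 ≤ Nat.card (M.cl sp44_g) := by
  obtain ⟨R, one, mul, eqb, a1, a2, a3⟩ := M
  dsimp only at h1 h2 h3
  subst h1 h2 h3
  set M : Model G := ⟨R, a2_8.one, a2_8.mul, Nat.beq, a1, a2, a3⟩ with hM
  have va := in_of_slpW (M := M) _ vv sp44v_auxok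
  obtain ⟨tsp44vT1, hTsp44vT1⟩ := exists_R va (c := (nat_lit 0x8040201008040201)) (by (try dsimp only [M]); decide +kernel)
  have ksp44vT1 : Key M (cjS St tsp44vT1) sp44vT1_key sp44vT1_fix := k1.keyT hTsp44vT1 (R_inv_of hTsp44vT1 (exists_R va (c := (nat_lit 0x8040201008040201)) (by (try dsimp only [M]); decide +kernel)) (by (try dsimp only [M]); decide +kernel)) _
  obtain ⟨tsp44vT2, hTsp44vT2⟩ := exists_R va (c := (nat_lit 0xfea9d5bf1834c987)) (by (try dsimp only [M]); decide +kernel)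
  have ksp44vT2 : Key M (cjS St tsp44vT2) sp44vT2_key sp44vT2_fix := k1.keyT hTsp44vT2 (R_inv_of hTsp44vT2 (exists_R va (c := (nat_lit 0xad5b19373f2a4dcb)) (by (try dsimp only [M]); decide +kernel)) (by (try dsimp only [M]); decide +kernel)) _
  obtain ⟨tsp44vT3, hTsp44vT3⟩ := exists_R va (c := (nat_lit 0x163d3927ae59f2a1)) (by (try dsimp only [M]); decide +kernel)
  have ksp44vT3 : Key M (cjS St tsp44vT3) sp44vT3_key sp44vT3_fix := k1.keyT hTsp44vT3 (R_inv_of hTsp44vT3 (exists_R va (c := (nat_lit 0xc68da957b060b76e)) (by (try dsimp only [M]); decide +kernel)) (by (try dsimp only [M]); decide +kernel)) _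
  obtain ⟨tsp44vT4, hTsp44vT4⟩ := exists_R va (c := (nat_lit 0xcc88322140c03322)) (by (try dsimp only [M]); decide +kernel)
  have ksp44vT4 : Key M (cjS St tsp44vT4) sp44vT4_key sp44vT4_fix := k1.keyT hTsp44vT4 (R_inv_of hTsp44vT4 (exists_R va (c := (nat_lit 0xc0832214cc83322)) (by (try dsimp only [M]); decide +kernel)) (by (try dsimp only [M]); decide +kernel)) _
  have gsp44vT1 : ∀ c ∈ sp44vT1_g, M.In ⊤ c := valid_sub va (by (try dsimp only [M]); decide +kernel)
  have gsp44vT2 := LvD.valid_next (D := sp44vT1) gsp44vT1 sp44vT1_ok sp44vT1_next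
  have lsp44vT1 := LvD.le_next (D := sp44vT1) gsp44vT1 sp44vT1_ok sp44vT1_next
  have gsp44vT3 := LvD.valid_next (D := sp44vT2) gsp44vT2 sp44vT2_ok sp44vT2_next
  have lsp44vT2 := LvD.le_next (D := sp44vT2) gsp44vT2 sp44vT2_ok sp44vT2_next
  have gsp44vT4 := LvD.valid_next (D := sp44vT3) gsp44vT3 sp44vT3_ok sp44vT3_next
  have lsp44vT3 := LvD.le_next (D := sp44vT3) gsp44vT3 sp44vT3_ok sp44vT3_next
  have gsp44vT5 := LvD.valid_next (D := sp44vT4) gsp44vT4 sp44vT4_ok sp44vT4_next
  have lsp44vT4 := LvD.le_next (D := sp44vT4) gsp44vT4 sp44vT4_ok sp44vT4_next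
  have csp44vT5 : 1 ≤ Nat.card (M.cl sp44vT5_g) := Nat.card_pos
  have csp44vT4 : 4 ≤ Nat.card (M.cl sp44vT4_g) := le_trans (by (try dsimp only [M]); decide +kernel) (LvD.lower (D := sp44vT4) gsp44vT4 sp44vT4_ok csp44vT5 lsp44vT4 ksp44vT4 sp44vT4_fx sp44vT4_k)
  have csp44vT3 : 64 ≤ Nat.card (M.cl sp44vT3_g) := le_trans (by (try dsimp only [M]); decide +kernel) (LvD.lower (D := sp44vT3) gsp44vT3 sp44vT3_ok csp44vT4 lsp44vT3 ksp44vT3 sp44vT3_fx sp44vT3_k)
  have csp44vT2 : 3840 ≤ Nat.card (M.cl sp44vT2_g) := le_trans (by (try dsimp only [M]); decide +kernel) (LvD.lower (D := sp44vT2) gsp44vT2 sp44vT2_ok csp44vT3 lsp44vT2 ksp44vT2 sp44vT2_fx sp44vT2_k)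
  have csp44vT1 : 979200 ≤ Nat.card (M.cl sp44vT1_g) := le_trans (by (try dsimp only [M]); decide +kernel) (LvD.lower (D := sp44vT1) gsp44vT1 sp44vT1_ok csp44vT2 lsp44vT1 ksp44vT1 sp44vT1_fx sp44vT1_k)
  exact csp44vT1

theorem sp44v_top {G : Type*} [Group G] [Finite G] {ρ : G →* Matrix (Fin 8) (Fin 8) (ZMod 2)} {hρ : Function.Injective ρ}
    (hv : ∀ c ∈ sp44_g, (a2_8.model ρ hρ).In ⊤ c) (hN : Nat.card G = 979200) : (a2_8.model ρ hρ).cl sp44_g = ⊤ :=
  let ⟨_, k⟩ := a2_8.keyP' ρ hρ _ _ (by decide +kernel)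
  Subgroup.eq_top_of_le_card _ (hN.le.trans (sp44v_low _ rfl rfl rfl hv k))

set_option synthInstance.maxSize 4096 in
theorem sp44_ex {F : Type*} [Field F] [Fintype F] (hF : Fintype.card F = 4) :
    Nonempty (QM (Matrix.symplecticGroup (Fin 2) F) a2_8 sp44_g sp44_z sp44_zs) := by
  obtain ⟨fm⟩ := exists_fm4 hF
  have hv := FM.in_Sp (fm := fm) (a := a2_8) (n := 4) (L := sp44_g) (e := (finSumFinEquiv (m := 2) (n := 2)).symm)
    (cJ := fun x y => if x = y + 2 ∨ y = x + 2 then 1 else 0) (by decide +kernel) (by decide +kernel)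
  have hN := (Cfsg.Agent.S0245.result hF 2).trans (show _ = 979200 by decide +kernel)
  haveI := Nat.finite_of_card_ne_zero (hN.trans_ne (by norm_num))
  exact ⟨(QM.ofId _ _ hv (sp44v_top hv hN) (by decide +kernel)).choose⟩

end H29
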