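import Cfsg.Agent.H29.LM
import Cfsg.Agent.H29.A2x6
import Cfsg.Agent.S0245
import Cfsg.Agent.S0246

set_option autoImplicit false
set_option maxRecDepth 100000
set_option linter.style.haveILetI false
set_option linter.unusedVariables false
set_option linter.style.longLine false
set_option linter.unusedTactic false
set_option linter.unreachableTactic false

namespace H29

noncomputable def sp62_g : List ℕ := [nat_lit 0xd86204501, nat_lit 0x802204401, nat_lit 0x7efdfbf7e, nat_lit 0x810e75cc1, nat_lit 0x950344081, nat_lit 0xb1020408d, nat_lit 0xdc77c4541]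
noncomputable def sp62_z : ℕ := (nat_lit 0x810204081)
noncomputable def sp62_zs : List ℕ := [nat_lit 0x810204081]
noncomputable def sp621_key : ℕ → ℕ := keyP a2_6.mul (nat_lit 0x1) (nat_lit 64)
noncomputable def sp621_fix : ℕ → Bool := fixP a2_6.mul (nat_lit 0x1)
theorem sp62_key {Q : Type*} [Group Q] (q : QM Q a2_6 sp62_g sp62_z sp62_zs) : ∃ St, Key q.M St sp621_key sp621_fix :=
  q.keyP _ _ (by decide +kernel)
noncomputable def sp62v1_key : ℕ → ℕ := keyP a2_6.mul (nat_lit 0x1) (nat_lit 64)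
noncomputable def sp62v1_fix : ℕ → Bool := fixP a2_6.mul (nat_lit 0x1)
noncomputable def sp62vT1_g : List ℕ := [nat_lit 0xd86204501, nat_lit 0x802204401, nat_lit 0x7efdfbf7e, nat_lit 0x810e75cc1, nat_lit 0x950344081, nat_lit 0xb1020408d, nat_lit 0xdc77c4541]
noncomputable def sp62vT1_key : ℕ → ℕ := keyT a2_6.mul sp62v1_key (nat_lit 0x810204081) (nat_lit 0)
noncomputable def sp62vT1_kt : ℕ → ℕ := pget (nat_lit 0x3ffbdf3beb9e37db5d33cb1c2fbadb2baa9a279a59238a181f79d71b69961759551349140f38d30b289207185103080) (nat_lit 6) (nat_lit 0x3f)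
noncomputable def sp62vT1_bt : ℕ → ℕ := pget (nat_lit 0xef7cefae78df6d74cf2c70c0) (nat_lit 6) (nat_lit 0x3f)
noncomputable def sp62vT1 : LvD where
  n := nat_lit 63
  g := sp62vT1_g
  T := [nat_lit 0xd86204501, nat_lit 0x802204401, nat_lit 0x7efdfbf7e, nat_lit 0x810e75cc1, nat_lit 0x950344081, nat_lit 0xb1020408d, nat_lit 0xdc77c4541, nat_lit 0x95004408d, nat_lit 0xb10344088, nat_lit 0x802ae7cc1, nat_lit 0x833e75401, nat_lit 0xe8620450d, nat_lit 0x810204081, nat_lit 0xe917c40da, nat_lit 0x85d4c43cd, nat_lit 0xd94204181, nat_lit 0xd86e75941, nat_lit 0xdd57c41c1, nat_lit 0x23883babe, nat_lit 0x37897babe]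
  ab := nat_lit 0x401200600200600100900f00100000600b00b006004004005000001003003001005004004005000000000000000000000000000000000000000000
  ia := nat_lit 0x1301201101000f00d00b009007006005004003002001000
  ib := nat_lit 0x1301201101000f00e00b00a008006005004003002001000
  ent := pget (nat_lit 0x8160c11d2034ce1311c31021850842030e43c368f089084c0413e142f8a09120324f11d0c314e1231c3e401d30842080fe00260311708388413e2422ce0910c35cf0cb3c29040ed0c5684097103f880802811cf19b103f8c0a70857871b13033490e10c468709b283c880c9104f8308710600504d103a080cb102e031632036c90f30c5d0314d2833450c0000) (nat_lit 18) (nat_lit 0x3ffff)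
  key := sp62vT1_key
  ks := sp62vT1_kt
  loc := locB sp62vT1_key sp62vT1_kt sp62vT1_bt (nat_lit 2)

noncomputable def sp62vT1_fix : ℕ → Bool := fixT a2_6.mul sp62v1_fix (nat_lit 0x810204081) (nat_lit 0x810204081)

noncomputable def sp62vT2_g : List ℕ := [nat_lit 0xdc77c4541, nat_lit 0x9d73c4081, nat_lit 0xc87684541, nat_lit 0xd94204181, nat_lit 0xdc7bb58c1]
noncomputable def sp62vT2_key : ℕ → ℕ := keyT a2_6.mul sp62v1_key (nat_lit 0x80b6b5a22) (nat_lit 35)
noncomputable def sp62vT2_kt : ℕ → ℕ := pget (nat_lit 0xdf6d74cf2c709e69648605d65544d24501c61440c2040) (nat_lit 6) (nat_lit 0x3f)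
noncomputable def sp62vT2_bt : ℕ → ℕ := pget (nat_lit 0x356b5a508418842080) (nat_lit 5) (nat_lit 0x1f)
noncomputable def sp62vT2 : LvD where
  n := nat_lit 30
  g := sp62vT2_g
  T := [nat_lit 0xdc77c4541, nat_lit 0x9d73c4081, nat_lit 0xc87684541, nat_lit 0xd94204181, nat_lit 0xdc7bb58c1, nat_lit 0x9d73c4541, nat_lit 0xdc77c4481, nat_lit 0x9d7fb5901, nat_lit 0x810e758c1, nat_lit 0x843f27c41, nat_lit 0x862fb5441]
  ab := nat_lit 0x3007004003007001006004005005004004000000000000000000000000000000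
  ia := nat_lit 0x9008007004003002001000
  ib := nat_lit 0xa008004007003002001000
  ent := pget (nat_lit 0x122860101c02148413a18801c138a12440dc208f10338e11870c0282610328613070ce10451c2704200304e18470020020f07080102c103686194108c0860000) (nat_lit 17) (nat_lit 0x1ffff)
  key := sp62vT2_key
  ks := sp62vT2_kt
  loc := locB sp62vT2_key sp62vT2_kt sp62vT2_bt (nat_lit 2)

noncomputable def sp62vT2_fix : ℕ → Bool := fixT a2_6.mul sp62v1_fix (nat_lit 0x80b6b5a22) (nat_lit 0x80b8bc853)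

noncomputable def sp62vT3_g : List ℕ := [nat_lit 0xdc77c4541, nat_lit 0x8132c4081, nat_lit 0x833ae7081, nat_lit 0x5f0fd1d41]
noncomputable def sp62vT3_key : ℕ → ℕ := keyT a2_6.mul sp62v1_key (nat_lit 0x4efcbbf77) (nat_lit 54)
noncomputable def sp62vT3_kt : ℕ → ℕ := pget (nat_lit 0xd748e28605d60c2040) (nat_lit 6) (nat_lit 0x3f)
noncomputable def sp62vT3_bt : ℕ → ℕ := pget (nat_lit 0xa640) (nat_lit 4) (nat_lit 0xf)
noncomputable def sp62vT3 : LvD where
  n := nat_lit 12
  g := sp62vT3_g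
  T := [nat_lit 0xdc77c4541, nat_lit 0x8132c4081, nat_lit 0x833ae7081, nat_lit 0x5f0fd1d41, nat_lit 0x567f71dc1, nat_lit 0x5d2ff3d41, nat_lit 0x545f53dc1, nat_lit 0xa5a91801, nat_lit 0x85a93801, nat_lit 0xa5a52801, nat_lit 0xa42d3801]
  ab := nat_lit 0x1008007001006000000003005003004004003003000000000000000000000000
  ia := nat_lit 0x9008007006003002001000
  ib := nat_lit 0xa007008003006002001000
  ent := pget (nat_lit 0xc1310201c1510261c20141000190c20041010130c20000) (nat_lit 16) (nat_lit 0xffff)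
  key := sp62vT3_key
  ks := sp62vT3_kt
  loc := locB sp62vT3_key sp62vT3_kt sp62vT3_bt (nat_lit 4)

noncomputable def sp62vT3_fix : ℕ → Bool := fixT a2_6.mul sp62v1_fix (nat_lit 0x4efcbbf77) (nat_lit 0x6affbbf72)

noncomputable def sp62vT4_g : List ℕ := [nat_lit 0xd51fc55c1, nat_lit 0xa7ab3801, nat_lit 0x5c5fd1d41, nat_lit 0x832226081, nat_lit 0x833ae7081, nat_lit 0x5a7ab3d01]
noncomputable def sp62vT4_key : ℕ → ℕ := keyT a2_6.mul sp62v1_key (nat_lit 0xc09dad1ef) (nat_lit 46)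
noncomputable def sp62vT4_kt : ℕ → ℕ := pget (nat_lit 0xdf68e2554040) (nat_lit 6) (nat_lit 0x3f)
noncomputable def sp62vT4_bt : ℕ → ℕ := pget (nat_lit 0xd10) (nat_lit 3) (nat_lit 0x7)
noncomputable def sp62vT4 : LvD where
  n := nat_lit 8
  g := sp62vT4_g
  T := [nat_lit 0xd51fc55c1, nat_lit 0xa7ab3801, nat_lit 0x5c5fd1d41, nat_lit 0x832226081, nat_lit 0x833ae7081, nat_lit 0x5a7ab3d01, nat_lit 0x5e6732d41, nat_lit 0x84210801, nat_lit 0xd33aa7581, nat_lit 0x833aa7081, nat_lit 0x8727660c1, nat_lit 0xd10204581]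
  ab := nat_lit 0x1005002005001007005007000002002004000000000000000000000000000000000000
  ia := nat_lit 0xb00a009008007006005004003002001000
  ib := nat_lit 0xb00a009008007006005004003002001000
  ent := pget (nat_lit 0x50200070210081008207041008000) (nat_lit 15) (nat_lit 0x7fff)
  key := sp62vT4_key
  ks := sp62vT4_kt
  loc := locB sp62vT4_key sp62vT4_kt sp62vT4_bt (nat_lit 4)

noncomputable def sp62vT4_fix : ℕ → Bool := fixT a2_6.mul sp62v1_fix (nat_lit 0xc09dad1ef) (nat_lit 0xe59ead16a)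

noncomputable def sp62vT5_g : List ℕ := [nat_lit 0xd10204581, nat_lit 0x5e7ff3d41, nat_lit 0x833ae7081]
noncomputable def sp62vT5_key : ℕ → ℕ := keyT a2_6.mul sp62v1_key (nat_lit 0xb9bcbbf4a) (nat_lit 11)
noncomputable def sp62vT5_kt : ℕ → ℕ := pget (nat_lit 0xde3500) (nat_lit 6) (nat_lit 0x3f)
noncomputable def sp62vT5_bt : ℕ → ℕ := pget (nat_lit 0x8) (nat_lit 2) (nat_lit 0x3)
noncomputable def sp62vT5 : LvD where
  n := nat_lit 4
  g := sp62vT5_g
  T := [nat_lit 0xd10204581, nat_lit 0x5e7ff3d41, nat_lit 0x833ae7081, nat_lit 0xd33ae7581, nat_lit 0x810204081, nat_lit 0xc4710841, nat_lit 0xe7ff3841]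
  ab := nat_lit 0x1000003001000000002000000000000000000000
  ia := nat_lit 0x6005003002001000
  ib := nat_lit 0x6005003002001000
  ent := pget (nat_lit 0xc1810100) (nat_lit 8) (nat_lit 0xff)
  key := sp62vT5_key
  ks := sp62vT5_kt
  loc := locB sp62vT5_key sp62vT5_kt sp62vT5_bt (nat_lit 5)

noncomputable def sp62vT5_fix : ℕ → Bool := fixT a2_6.mul sp62v1_fix (nat_lit 0xb9bcbbf4a) (nat_lit 0x52fcb5cfe)

noncomputable def sp62vT6_g : List ℕ := [nat_lit 0x5e7ff3d41]
noncomputable def sp62vT6_key : ℕ → ℕ := keyT a2_6.mul sp62v1_key (nat_lit 0xc1edfbbd1) (nat_lit 16)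
noncomputable def sp62vT6_kt : ℕ → ℕ := pget (nat_lit 0xdc0) (nat_lit 6) (nat_lit 0x3f)
noncomputable def sp62vT6_bt : ℕ → ℕ := pget (nat_lit 0x0) (nat_lit 1) (nat_lit 0x1)
noncomputable def sp62vT6 : LvD where
  n := nat_lit 2
  g := sp62vT6_g
  T := [nat_lit 0x5e7ff3d41, nat_lit 0x810204081]
  ab := nat_lit 0x0
  ia := nat_lit 0x0
  ib := nat_lit 0x0
  ent := pget (nat_lit 0x2) (nat_lit 1) (nat_lit 0x1)
  key := sp62vT6_key
  ks := sp62vT6_kt
  loc := locB sp62vT6_key sp62vT6_kt sp62vT6_bt (nat_lit 6)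

noncomputable def sp62vT6_fix : ℕ → Bool := fixT a2_6.mul sp62v1_fix (nat_lit 0xc1edfbbd1) (nat_lit 0x4f3e75bf2)

noncomputable def sp62vT7_g : List ℕ := []
noncomputable def sp62vT7_ls : List Lv := []
noncomputable def sp62vT6_ls : List Lv := sp62vT6.lv a2_6.mul a2_6.one :: sp62vT7_ls
noncomputable def sp62vT5_ls : List Lv := sp62vT5.lv a2_6.mul a2_6.one :: sp62vT6_ls
noncomputable def sp62vT4_ls : List Lv := sp62vT4.lv a2_6.mul a2_6.one :: sp62vT5_ls
noncomputable def sp62vT3_ls : List Lv := sp62vT3.lv a2_6.mul a2_6.one :: sp62vT4_ls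
noncomputable def sp62vT2_ls : List Lv := sp62vT2.lv a2_6.mul a2_6.one :: sp62vT3_ls
noncomputable def sp62vT1_ls : List Lv := sp62vT1.lv a2_6.mul a2_6.one :: sp62vT2_ls
noncomputable def sp62v_aux : List ℕ := [nat_lit 0xd86204501, nat_lit 0x802204401, nat_lit 0x7efdfbf7e, nat_lit 0x810e75cc1, nat_lit 0x950344081, nat_lit 0xb1020408d, nat_lit 0xdc77c4541, nat_lit 0x810204081, nat_lit 0x80b6b5a22, nat_lit 0x80b8bc853, nat_lit 0x4efcbbf77, nat_lit 0x6affbbf72, nat_lit 0xc09dad1ef, nat_lit 0xe59ead16a, nat_lit 0xb9bcbbf4a, nat_lit 0x52fcb5cfe, nat_lit 0xc1edfbbd1, nat_lit 0x4f3e75bf2]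
theorem sp62vT1_ok : sp62vT1.ok a2_6.mul Nat.beq a2_6.one = true := by decide +kernel
theorem sp62vT1_next : sp62vT1.nextOK a2_6.mul a2_6.one sp62vT2_g (nat_lit 0x1200000d00001200000800001100001d00000400001100000400001300000700001700002f000011000021) = true := by decide +kernel
theorem sp62vT1_fx : allL sp62vT1_fix sp62vT2_g = true := by decide +kernel
theorem sp62vT1_k_0 : allR (kchk sp62vT1_key (sp62vT1.lv a2_6.mul a2_6.one).U sp62vT1_kt (nat_lit 63)) (nat_lit 0) (nat_lit 63) = true := by decide +kernel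
theorem sp62vT1_k : ∀ j < nat_lit 63, (kchk sp62vT1_key (sp62vT1.lv a2_6.mul a2_6.one).U sp62vT1_kt (nat_lit 63)) j = true :=
  (allR_step (c := nat_lit 63) (fun _ h => absurd h (Nat.not_lt_zero _)) sp62vT1_k_0 (by decide))

theorem sp62vT2_ok : sp62vT2.ok a2_6.mul Nat.beq a2_6.one = true := by decide +kernel
theorem sp62vT2_next : sp62vT2.nextOK a2_6.mul a2_6.one sp62vT3_g (nat_lit 0xb00000400000b00001200000800001a00000100000700001000000d000000000002) = true := by decide +kernel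
theorem sp62vT2_fx : allL sp62vT2_fix sp62vT3_g = true := by decide +kernel
theorem sp62vT2_k_0 : allR (kchk sp62vT2_key (sp62vT2.lv a2_6.mul a2_6.one).U sp62vT2_kt (nat_lit 30)) (nat_lit 0) (nat_lit 30) = true := by decide +kernel
theorem sp62vT2_k : ∀ j < nat_lit 30, (kchk sp62vT2_key (sp62vT2.lv a2_6.mul a2_6.one).U sp62vT2_kt (nat_lit 30)) j = true :=
  (allR_step (c := nat_lit 30) (fun _ h => absurd h (Nat.not_lt_zero _)) sp62vT2_k_0 (by decide))

theorem sp62vT3_ok : sp62vT3.ok a2_6.mul Nat.beq a2_6.one = true := by decide +kernel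
theorem sp62vT3_next : sp62vT3.nextOK a2_6.mul a2_6.one sp62vT4_g (nat_lit 0x700000300000900000200000200000200000800000600000600000700000100000800000800000000000b000003000009000002) = true := by decide +kernel
theorem sp62vT3_fx : allL sp62vT3_fix sp62vT4_g = true := by decide +kernel
theorem sp62vT3_k_0 : allR (kchk sp62vT3_key (sp62vT3.lv a2_6.mul a2_6.one).U sp62vT3_kt (nat_lit 12)) (nat_lit 0) (nat_lit 12) = true := by decide +kernel
theorem sp62vT3_k : ∀ j < nat_lit 12, (kchk sp62vT3_key (sp62vT3.lv a2_6.mul a2_6.one).U sp62vT3_kt (nat_lit 12)) j = true :=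
  (allR_step (c := nat_lit 12) (fun _ h => absurd h (Nat.not_lt_zero _)) sp62vT3_k_0 (by decide))

theorem sp62vT4_ok : sp62vT4.ok a2_6.mul Nat.beq a2_6.one = true := by decide +kernel
theorem sp62vT4_next : sp62vT4.nextOK a2_6.mul a2_6.one sp62vT5_g (nat_lit 0x500000400000500000000000300000400000400000b000004) = true := by decide +kernel
theorem sp62vT4_fx : allL sp62vT4_fix sp62vT5_g = true := by decide +kernel
theorem sp62vT4_k_0 : allR (kchk sp62vT4_key (sp62vT4.lv a2_6.mul a2_6.one).U sp62vT4_kt (nat_lit 8)) (nat_lit 0) (nat_lit 8) = true := by decide +kernel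
theorem sp62vT4_k : ∀ j < nat_lit 8, (kchk sp62vT4_key (sp62vT4.lv a2_6.mul a2_6.one).U sp62vT4_kt (nat_lit 8)) j = true :=
  (allR_step (c := nat_lit 8) (fun _ h => absurd h (Nat.not_lt_zero _)) sp62vT4_k_0 (by decide))

theorem sp62vT5_ok : sp62vT5.ok a2_6.mul Nat.beq a2_6.one = true := by decide +kernel
theorem sp62vT5_next : sp62vT5.nextOK a2_6.mul a2_6.one sp62vT6_g (nat_lit 0x2000006000003) = true := by decide +kernel
theorem sp62vT5_fx : allL sp62vT5_fix sp62vT6_g = true := by decide +kernel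
theorem sp62vT5_k_0 : allR (kchk sp62vT5_key (sp62vT5.lv a2_6.mul a2_6.one).U sp62vT5_kt (nat_lit 4)) (nat_lit 0) (nat_lit 4) = true := by decide +kernel
theorem sp62vT5_k : ∀ j < nat_lit 4, (kchk sp62vT5_key (sp62vT5.lv a2_6.mul a2_6.one).U sp62vT5_kt (nat_lit 4)) j = true :=
  (allR_step (c := nat_lit 4) (fun _ h => absurd h (Nat.not_lt_zero _)) sp62vT5_k_0 (by decide))

theorem sp62vT6_ok : sp62vT6.ok a2_6.mul Nat.beq a2_6.one = true := by decide +kernel
theorem sp62vT6_next : sp62vT6.nextOK a2_6.mul a2_6.one sp62vT7_g (nat_lit 0x0) = true := by decide +kernel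
theorem sp62vT6_fx : allL sp62vT6_fix sp62vT7_g = true := by decide +kernel
theorem sp62vT6_k_0 : allR (kchk sp62vT6_key (sp62vT6.lv a2_6.mul a2_6.one).U sp62vT6_kt (nat_lit 2)) (nat_lit 0) (nat_lit 2) = true := by decide +kernel
theorem sp62vT6_k : ∀ j < nat_lit 2, (kchk sp62vT6_key (sp62vT6.lv a2_6.mul a2_6.one).U sp62vT6_kt (nat_lit 2)) j = true :=
  (allR_step (c := nat_lit 2) (fun _ h => absurd h (Nat.not_lt_zero _)) sp62vT6_k_0 (by decide))

theorem sp62v_auxok : slpR a2_6.mul a2_6.one (wdsOK a2_6.mul a2_6.one sp62v_aux [nat_lit 0x100200702a034, nat_lit 0x1055, nat_lit 0x106a, nat_lit 0x104e05e04e, nat_lit 0x105e, nat_lit 0x106d, nat_lit 0x100200300c027, nat_lit 0x1, nat_lit 0x100200702a03406d06e05d06d, nat_lit 0x100200702a03404e05e04e06d04606d, nat_lit 0x106d065, nat_lit 0x1052, nat_lit 0x105e06a05d000001, nat_lit 0x100200300c02705406a05d000, nat_lit 0x104e05e04e06a064, nat_lit 0x100200700a03405e06a, nat_lit 0x105e05206b069, nat_lit 0x1003054052])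 (nat_lit 104) (nat_lit 0x6b05106c06700000200600001200500b00001600500200000300001300502900001e00f01d00001900001b03800000c00000601800001400000001600000c04800004703301200001c00000d00000c00000a00e00000202900000202801500000000503c00002b00003100001b00002801600000e00001f00000001d01d03300002200002800001200001a00001e00002400000d00000d00002a01a00001202800001700001d00000700000f00002300000300000300001700000f01f00e00a01100000400002a00002100002800000000d02002700c00000000b00000401f00001c00002100001a01c00300001b00001400001900101201a01901100000901400001400001100000400001200000b00000d00000e00d00900d00b00000800000300000a000007000002006006000004006004000000004) sp62_g = true := by decide +kernel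
theorem sp62v_low {G : Type*} [Group G] (M : Model G) (h1 : M.mul = a2_6.mul) (h2 : M.eqb = Nat.beq)
    (h3 : M.one = a2_6.one) (vv : ∀ c ∈ sp62_g, M.In ⊤ c) {St : Subgroup G} (k1 : Key M St sp62v1_key sp62v1_fix) [Finite G] :
    1451520 ≤ Nat.card (M.cl sp62_g) := by
  obtain ⟨R, one, mul, eqb, a1, a2, a3⟩ := M
  dsimp only at h1 h2 h3
  subst h1 h2 h3
  set M : Model G := ⟨R, a2_6.one, a2_6.mul, Nat.beq, a1, a2, a3⟩ with hM
  have va := in_of_slpW (M := M) _ vv sp62v_auxok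
  obtain ⟨tsp62vT1, hTsp62vT1⟩ := exists_R va (c := (nat_lit 0x810204081)) (by (try dsimp only [M]); decide +kernel)
  have ksp62vT1 : Key M (cjS St tsp62vT1) sp62vT1_key sp62vT1_fix := k1.keyT hTsp62vT1 (R_inv_of hTsp62vT1 (exists_R va (c := (nat_lit 0x810204081)) (by (try dsimp only [M]); decide +kernel)) (by (try dsimp only [M]); decide +kernel)) _
  obtain ⟨tsp62vT2, hTsp62vT2⟩ := exists_R va (c := (nat_lit 0x80b6b5a22)) (by (try dsimp only [M]); decide +kernel)
  have ksp62vT2 : Key M (cjS St tsp62vT2) sp62vT2_key sp62vT2_fix := k1.keyT hTsp62vT2 (R_inv_of hTsp62vT2 (exists_R va (c := (nat_lit 0x80b8bc853)) (by (try dsimp only [M]); decide +kernel)) (by (try dsimp only [M]); decide +kernel)) _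
  obtain ⟨tsp62vT3, hTsp62vT3⟩ := exists_R va (c := (nat_lit 0x4efcbbf77)) (by (try dsimp only [M]); decide +kernel)
  have ksp62vT3 : Key M (cjS St tsp62vT3) sp62vT3_key sp62vT3_fix := k1.keyT hTsp62vT3 (R_inv_of hTsp62vT3 (exists_R va (c := (nat_lit 0x6affbbf72)) (by (try dsimp only [M]); decide +kernel)) (by (try dsimp only [M]); decide +kernel)) _
  obtain ⟨tsp62vT4, hTsp62vT4⟩ := exists_R va (c := (nat_lit 0xc09dad1ef)) (by (try dsimp only [M]); decide +kernel)
  have ksp62vT4 : Key M (cjS St tsp62vT4) sp62vT4_key sp62vT4_fix := k1.keyT hTsp62vT4 (R_inv_of hTsp62vT4 (exists_R va (c := (nat_lit 0xe59ead16a)) (by (try dsimp only [M]); decide +kernel)) (by (try dsimp only [M]); decide +kernel)) _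
  obtain ⟨tsp62vT5, hTsp62vT5⟩ := exists_R va (c := (nat_lit 0xb9bcbbf4a)) (by (try dsimp only [M]); decide +kernel)
  have ksp62vT5 : Key M (cjS St tsp62vT5) sp62vT5_key sp62vT5_fix := k1.keyT hTsp62vT5 (R_inv_of hTsp62vT5 (exists_R va (c := (nat_lit 0x52fcb5cfe)) (by (try dsimp only [M]); decide +kernel)) (by (try dsimp only [M]); decide +kernel)) _
  obtain ⟨tsp62vT6, hTsp62vT6⟩ := exists_R va (c := (nat_lit 0xc1edfbbd1)) (by (try dsimp only [M]); decide +kernel)
  have ksp62vT6 : Key M (cjS St tsp62vT6) sp62vT6_key sp62vT6_fix := k1.keyT hTsp62vT6 (R_inv_of hTsp62vT6 (exists_R va (c := (nat_lit 0x4f3e75bf2)) (by (try dsimp only [M]); decide +kernel)) (by (try dsimp only [M]); decide +kernel)) _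
  have gsp62vT1 : ∀ c ∈ sp62vT1_g, M.In ⊤ c := valid_sub va (by (try dsimp only [M]); decide +kernel)
  have gsp62vT2 := LvD.valid_next (D := sp62vT1) gsp62vT1 sp62vT1_ok sp62vT1_next
  have lsp62vT1 := LvD.le_next (D := sp62vT1) gsp62vT1 sp62vT1_ok sp62vT1_next
  have gsp62vT3 := LvD.valid_next (D := sp62vT2) gsp62vT2 sp62vT2_ok sp62vT2_next
  have lsp62vT2 := LvD.le_next (D := sp62vT2) gsp62vT2 sp62vT2_ok sp62vT2_next
  have gsp62vT4 := LvD.valid_next (D := sp62vT3) gsp62vT3 sp62vT3_ok sp62vT3_next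
  have lsp62vT3 := LvD.le_next (D := sp62vT3) gsp62vT3 sp62vT3_ok sp62vT3_next
  have gsp62vT5 := LvD.valid_next (D := sp62vT4) gsp62vT4 sp62vT4_ok sp62vT4_next
  have lsp62vT4 := LvD.le_next (D := sp62vT4) gsp62vT4 sp62vT4_ok sp62vT4_next
  have gsp62vT6 := LvD.valid_next (D := sp62vT5) gsp62vT5 sp62vT5_ok sp62vT5_next
  have lsp62vT5 := LvD.le_next (D := sp62vT5) gsp62vT5 sp62vT5_ok sp62vT5_next
  have gsp62vT7 := LvD.valid_next (D := sp62vT6) gsp62vT6 sp62vT6_ok sp62vT6_next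
  have lsp62vT6 := LvD.le_next (D := sp62vT6) gsp62vT6 sp62vT6_ok sp62vT6_next
  have csp62vT7 : 1 ≤ Nat.card (M.cl sp62vT7_g) := Nat.card_pos
  have csp62vT6 : 2 ≤ Nat.card (M.cl sp62vT6_g) := le_trans (by (try dsimp only [M]); decide +kernel) (LvD.lower (D := sp62vT6) gsp62vT6 sp62vT6_ok csp62vT7 lsp62vT6 ksp62vT6 sp62vT6_fx sp62vT6_k)
  have csp62vT5 : 8 ≤ Nat.card (M.cl sp62vT5_g) := le_trans (by (try dsimp only [M]); decide +kernel) (LvD.lower (D := sp62vT5) gsp62vT5 sp62vT5_ok csp62vT6 lsp62vT5 ksp62vT5 sp62vT5_fx sp62vT5_k)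
  have csp62vT4 : 64 ≤ Nat.card (M.cl sp62vT4_g) := le_trans (by (try dsimp only [M]); decide +kernel) (LvD.lower (D := sp62vT4) gsp62vT4 sp62vT4_ok csp62vT5 lsp62vT4 ksp62vT4 sp62vT4_fx sp62vT4_k)
  have csp62vT3 : 768 ≤ Nat.card (M.cl sp62vT3_g) := le_trans (by (try dsimp only [M]); decide +kernel) (LvD.lower (D := sp62vT3) gsp62vT3 sp62vT3_ok csp62vT4 lsp62vT3 ksp62vT3 sp62vT3_fx sp62vT3_k)
  have csp62vT2 : 23040 ≤ Nat.card (M.cl sp62vT2_g) := le_trans (by (try dsimp only [M]); decide +kernel) (LvD.lower (D := sp62vT2) gsp62vT2 sp62vT2_ok csp62vT3 lsp62vT2 ksp62vT2 sp62vT2_fx sp62vT2_k)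
  have csp62vT1 : 1451520 ≤ Nat.card (M.cl sp62vT1_g) := le_trans (by (try dsimp only [M]); decide +kernel) (LvD.lower (D := sp62vT1) gsp62vT1 sp62vT1_ok csp62vT2 lsp62vT1 ksp62vT1 sp62vT1_fx sp62vT1_k)
  exact csp62vT1

theorem sp62v_top {G : Type*} [Group G] [Finite G] {ρ : G →* Matrix (Fin 6) (Fin 6) (ZMod 2)} {hρ : Function.Injective ρ}
    (hv : ∀ c ∈ sp62_g, (a2_6.model ρ hρ).In ⊤ c) (hN : Nat.card G = 1451520) : (a2_6.model ρ hρ).cl sp62_g = ⊤ :=
  let ⟨_, k⟩ := a2_6.keyP' ρ hρ _ _ (by decide +kernel)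
  Subgroup.eq_top_of_le_card _ (hN.le.trans (sp62v_low _ rfl rfl rfl hv k))

theorem sp62_ex {F : Type*} [Field F] [Fintype F] (hF : Fintype.card F = 2) :
    Nonempty (QM (Cfsg.PSp 3 F) a2_6 sp62_g sp62_z sp62_zs) := by
  obtain ⟨fm⟩ := exists_fm1 hF
  have hv := FM.in_Sp (fm := fm) (a := a2_6) (n := 6) (L := sp62_g) (e := (finSumFinEquiv (m := 3) (n := 3)).symm)
    (cJ := fun x y => if x = y + 3 ∨ y = x + 3 then 1 else 0) (by decide +kernel) (by decide +kernel)
  have hN := (Cfsg.Agent.S0245.result hF 3).trans (show _ = 1451520 by decide +kernel)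
  haveI := Nat.finite_of_card_ne_zero (hN.trans_ne (by norm_num))
  exact ⟨(QM.ofCen _ _ hv (sp62v_top hv hN) (m := 1) (Cfsg.Agent.S0246.result hF 3 (by norm_num))
    (show slpR a2_6.mul a2_6.one (subL [sp62_z]) (nat_lit 1) (nat_lit 0x0) sp62_g = true by decide +kernel)
    (ps := []) (by decide +kernel) (by norm_num) (by decide +kernel)).choose⟩

end H29
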