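import Cfsg.Agent.H29.Sp62M

set_option autoImplicit false
set_option maxRecDepth 100000
set_option linter.style.haveILetI false
set_option linter.unusedVariables false
set_option linter.style.longLine false
set_option linter.unusedTactic false
set_option linter.unreachableTactic false

namespace H29

noncomputable def sp62s2_gl : List ℕ := [nat_lit 0xeab8188d4, nat_lit 0x9accfee08, nat_lit 0x982bcc588, nat_lit 0xbdf1c408e, nat_lit 0x83821eab3, nat_lit 0x3b86cd11d, nat_lit 0x49feb9ff3, nat_lit 0x4be22a7b3, nat_lit 0x4ade8b373]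
noncomputable def sp62s2_fg : List ℕ := [nat_lit 0x6f64be7ce, nat_lit 0xee599fb34, nat_lit 0x418e33d4c]
noncomputable def sp62s2_J : List Job := [.as (nat_lit 0x20) (nat_lit 0x20) (nat_lit 0x20) (nat_lit 0x4000000000000000000),
  .as (nat_lit 0x4) (nat_lit 0x4) (nat_lit 0x4) (nat_lit 0x150100010010010000000),
  .as (nat_lit 0x2) (nat_lit 0x2) (nat_lit 0x2) (nat_lit 0x150000004004000040000),
  .as (nat_lit 0x1) (nat_lit 0x1) (nat_lit 0x1) (nat_lit 0x10000000000000000),
  .as (nat_lit 0x100) (nat_lit 0x4) (nat_lit 0x4) (nat_lit 0xfc200000000000000000),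
  .as (nat_lit 0x100) (nat_lit 0x100) (nat_lit 0x2) (nat_lit 0x80000000000000000),
  .as (nat_lit 0x100) (nat_lit 0x2) (nat_lit 0x2) (nat_lit 0xf3080000000000000000),
  .as (nat_lit 0x80) (nat_lit 0x20) (nat_lit 0x20) (nat_lit 0x40000800000000000000),
  .as (nat_lit 0x80) (nat_lit 0x80) (nat_lit 0x4) (nat_lit 0x3c0000020000000000000),
  .as (nat_lit 0x80) (nat_lit 0x4) (nat_lit 0x4) (nat_lit 0x140103c20000000000000),
  .as (nat_lit 0x80) (nat_lit 0x2) (nat_lit 0x2) (nat_lit 0x100043308000000000000),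
  .as (nat_lit 0x40) (nat_lit 0x4) (nat_lit 0x4) (nat_lit 0x10001000c20000000000),
  .as (nat_lit 0x40) (nat_lit 0x2) (nat_lit 0x2) (nat_lit 0x1000308000000000),
  .as (nat_lit 0x20) (nat_lit 0x20) (nat_lit 0x8) (nat_lit 0x400000000080000000),
  .as (nat_lit 0x20) (nat_lit 0x20) (nat_lit 0x4) (nat_lit 0x30c100000000020000000),
  .as (nat_lit 0x20) (nat_lit 0x20) (nat_lit 0x2) (nat_lit 0x8004cc00000008000000),
  .as (nat_lit 0x20) (nat_lit 0x2) (nat_lit 0x2) (nat_lit 0xf0004404400308000000),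
  .as (nat_lit 0x10) (nat_lit 0x4) (nat_lit 0x4) (nat_lit 0x151004110100100000002),
  .as (nat_lit 0x8) (nat_lit 0x8) (nat_lit 0x4) (nat_lit 0x30c0000002000),
  .as (nat_lit 0x8) (nat_lit 0x4) (nat_lit 0x4) (nat_lit 0x20402041050040002000),
  .as (nat_lit 0x8) (nat_lit 0x2) (nat_lit 0x2) (nat_lit 0x2041044000100002),
  .as (nat_lit 0x4) (nat_lit 0x4) (nat_lit 0x2) (nat_lit 0x2ee341304a04f34c00083),
  .as (nat_lit 0x4) (nat_lit 0x4) (nat_lit 0x1) (nat_lit 0x8010800801c31000003),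
  .as (nat_lit 0x4) (nat_lit 0x1) (nat_lit 0x1) (nat_lit 0x108100000000401000002),
  .as (nat_lit 0x2) (nat_lit 0x2) (nat_lit 0x1) (nat_lit 0x3000200201000cd0003),
  .as (nat_lit 0x2) (nat_lit 0x1) (nat_lit 0x1) (nat_lit 0x2040000000000410002),
  .as (nat_lit 0x80) (nat_lit 0x8) (nat_lit 0x4) (nat_lit 0x30c03000000000000000),
  .as (nat_lit 0x10) (nat_lit 0x8) (nat_lit 0x4) (nat_lit 0x30c0100000000000),
  .as (nat_lit 0x20) (nat_lit 0x2) (nat_lit 0x1) (nat_lit 0x30c0300000300000001),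
  .fu (nat_lit 0) [nat_lit 0, nat_lit 0] [] (nat_lit 0xb03005001000000c00000),
  .fu (nat_lit 0) [nat_lit 1, nat_lit 1] [nat_lit 2] (nat_lit 0x625e00ff03f03f03c30003),
  .fu (nat_lit 0) [nat_lit 3, nat_lit 3] [nat_lit 2] (nat_lit 0x240228000033c3400f3cc0c),
  .fu (nat_lit 0) [nat_lit 4, nat_lit 1] [nat_lit 1, nat_lit 4] (nat_lit 0x1040f43040100000),
  .fu (nat_lit 0) [nat_lit 3, nat_lit 4] [nat_lit 4, nat_lit 3] (nat_lit 0x101040300400),
  .fu (nat_lit 1) [nat_lit 5, nat_lit 5] [] (nat_lit 0x200047d4911281461084c152),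
  .fu (nat_lit 1) [nat_lit 6, nat_lit 6] [] (nat_lit 0x80029d0c722f920e308c43f2),
  .fu (nat_lit 1) [nat_lit 7, nat_lit 7] [] (nat_lit 0x200011d8bfcc2f8ffcfd3cc3e),
  .fu (nat_lit 1) [nat_lit 5, nat_lit 8] [nat_lit 8, nat_lit 5] (nat_lit 0x3037d1b4c30d0400100c2),
  .fu (nat_lit 1) [nat_lit 7, nat_lit 6] [nat_lit 6, nat_lit 7] (nat_lit 0x1b0015513a0c4304d3040),
  .fu (nat_lit 2) [nat_lit 9, nat_lit 9] [] (nat_lit 0x200003e090e3bf67008030f003),
  .fu (nat_lit 2) [nat_lit 10, nat_lit 10] [] (nat_lit 0x80000330000003000000004000)]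
noncomputable def sp62s2_l1 : List ℕ := [nat_lit 0x0, nat_lit 0x1000000000000000000000, nat_lit 0x1154140144501500440010, nat_lit 0x1141554104405155500404, nat_lit 0x1014500555115045550001, nat_lit 0x1150055541041440100455, nat_lit 0x501400100040011010405, nat_lit 0x1550115441045445150455, nat_lit 0x1150114451045505054451, nat_lit 0x1440114055540000401, nat_lit 0x1150155000454504050145, nat_lit 0x1401055400044410154, nat_lit 0x1400114141411045104514, nat_lit 0x550000154154510150005, nat_lit 0x1150155515010041440404, nat_lit 0x1150155015005151500415, nat_lit 0x440000010444001, nat_lit 0x1400114140411005104510, nat_lit 0x1150155514410001440501, nat_lit 0x1150155100410500050145, nat_lit 0x1150155115011145500415, nat_lit 0x1150115441041445110051, nat_lit 0x40000014010404, nat_lit 0x40000011000000, nat_lit 0x1150115441045445110051, nat_lit 0x1151515014445040000100, nat_lit 0x400001144140401, nat_lit 0x100000004000000, nat_lit 0x1151515454445551004101,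 nat_lit 0x40000050100400, nat_lit 0x40000010010404, nat_lit 0x1151515454445411544105, nat_lit 0x100, nat_lit 0x1151515414445541444505, nat_lit 0x40050004, nat_lit 0x10000000, nat_lit 0x4404, nat_lit 0x4, nat_lit 0x10404, nat_lit 0x10000, nat_lit 0x50000]
noncomputable def sp62s2 : SchD where
  P := ⟨nat_lit 2, nat_lit 1, nat_lit 9, nat_lit 12, nat_lit 6, nat_lit 63, (pget (nat_lit 0x28804f009a012c0248047008a010c0200000007d00f201d4038806f00d6019c00000000000018202e405880a901420264048000000000010046408080f901ca036406000000000000000000b0814900220484080000000000000000000001c9031200040a000000000000000000000078049a06240000000000000000000000000000d0082400000000000000000000000000000004001) (nat_lit 15) (nat_lit 0x7fff))⟩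
  m1 := nat_lit 41
  nf := nat_lit 11
  rv := (pget (nat_lit 0x509f3a6cc972a4c88d16243850603c76e9cb86ed993160bd72d509d2a43c74d942628000) (nat_lit 7) (nat_lit 0x7f))
  dk := (pget (nat_lit 0x3f4c70909a3468d1) (nat_lit 7) (nat_lit 0x7f))
  gl := sp62s2_gl
  fg := sp62s2_fg
  fa := (pget (nat_lit 0x295400) (nat_lit 2) (nat_lit 0x3))
  fr := (pget (nat_lit 0x22adc508022ac081040002c0) (nat_lit 9) (nat_lit 0x1ff))
  fs := (pget (nat_lit 0x503bda0bde5a10482cc01e310) (nat_lit 9) (nat_lit 0x1ff))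
  a := nat_lit 1
  es := [nat_lit 1]
  F := nat_lit 158
  c := nat_lit 2
  J := sp62s2_J
  l1 := lget sp62s2_l1
  l2 := fun e => Bool.rec (motive := fun _ => ℕ) ((fun _ => nat_lit 0) e) (nat_lit 0x2a2a2a82888aa82889a0a) (Nat.beq e (nat_lit 1))

noncomputable def sp62s2L1_g : List ℕ := [nat_lit 0xeab8188d4, nat_lit 0x9accfee08, nat_lit 0x982bcc588, nat_lit 0xbdf1c408e]
noncomputable def sp62s2L1_key : ℕ → ℕ := keyT a2_6.mul sp621_key (nat_lit 0x256e533fd) (nat_lit 60)
noncomputable def sp62s2L1_kt : ℕ → ℕ := pget (nat_lit 0xc80) (nat_lit 6) (nat_lit 0x3f)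
noncomputable def sp62s2L1_bt : ℕ → ℕ := pget (nat_lit 0x0) (nat_lit 1) (nat_lit 0x1)
noncomputable def sp62s2L1 : LvD where
  n := nat_lit 2
  g := sp62s2L1_g
  T := [nat_lit 0xeab8188d4, nat_lit 0x9accfee08, nat_lit 0x982bcc588, nat_lit 0xbdf1c408e, nat_lit 0x4ade8b373, nat_lit 0x216497b26, nat_lit 0x82bebfe73, nat_lit 0x9a5077c7a, nat_lit 0xf166e362f, nat_lit 0x3aba6c5dd, nat_lit 0xd57045429, nat_lit 0x421ebc60, nat_lit 0x63d78420]
  ab := nat_lit 0x200000500a009002004008002002006001001001004000000000000000000000000000000000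
  ia := nat_lit 0xb00300a002007001005000
  ib := nat_lit 0x500500500500500500500500500500500500500500500500500500500500500500500500500500500500500500500500500500500500500500500500500500500500500500500500500500500500500500500500c00300200a001007000005
  ent := pget (nat_lit 0x8100) (nat_lit 8) (nat_lit 0xff)
  key := sp62s2L1_key
  ks := sp62s2L1_kt
  loc := locB sp62s2L1_key sp62s2L1_kt sp62s2L1_bt (nat_lit 6)

noncomputable def sp62s2L1_fix : ℕ → Bool := fixT a2_6.mul sp621_fix (nat_lit 0x256e533fd) (nat_lit 0x6b2f49add)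

noncomputable def sp62s2L2_g : List ℕ := [nat_lit 0xeab8188d4, nat_lit 0xbdf1c408e, nat_lit 0xeb1830e66, nat_lit 0x6ed49e107, nat_lit 0x399e8d95d]
noncomputable def sp62s2L2_key : ℕ → ℕ := keyT a2_6.mul sp621_key (nat_lit 0xe85e5372e) (nat_lit 47)
noncomputable def sp62s2L2_kt : ℕ → ℕ := pget (nat_lit 0xf723c0) (nat_lit 6) (nat_lit 0x3f)
noncomputable def sp62s2L2_bt : ℕ → ℕ := pget (nat_lit 0x8) (nat_lit 2) (nat_lit 0x3)
noncomputable def sp62s2L2 : LvD where
  n := nat_lit 4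
  g := sp62s2L2_g
  T := [nat_lit 0xeab8188d4, nat_lit 0xbdf1c408e, nat_lit 0xeb1830e66, nat_lit 0x6ed49e107, nat_lit 0x399e8d95d, nat_lit 0x4ade8b373, nat_lit 0x216497b26, nat_lit 0x20c4bfd94, nat_lit 0xf10a6579d, nat_lit 0xead382966, nat_lit 0x4be22a7b3, nat_lit 0xf05e912ef]
  ab := nat_lit 0xa004004004008003003003005002005000000000000000000000000000000000000000
  ia := nat_lit 0x800b004009003007002001006000
  ib := nat_lit 0x600600600600600600600600600600600600600600600600600600600600600600600600600600600600600600600600600600600600600600600600600600600600600600600600600600600600600600800400b003009002007001000006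
  ent := pget (nat_lit 0x60f040200) (nat_lit 9) (nat_lit 0x1ff)
  key := sp62s2L2_key
  ks := sp62s2L2_kt
  loc := locB sp62s2L2_key sp62s2L2_kt sp62s2L2_bt (nat_lit 5)

noncomputable def sp62s2L2_fix : ℕ → Bool := fixT a2_6.mul sp621_fix (nat_lit 0xe85e5372e) (nat_lit 0x6ac8cdd5d)

noncomputable def sp62s2L3_g : List ℕ := [nat_lit 0xf10a6579d, nat_lit 0x4ade8b373, nat_lit 0xf03ea535d, nat_lit 0x8316f68c1, nat_lit 0x48c218b33, nat_lit 0xbdf1c408e]
noncomputable def sp62s2L3_key : ℕ → ℕ := keyT a2_6.mul sp621_key (nat_lit 0x1055683c2) (nat_lit 3)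
noncomputable def sp62s2L3_kt : ℕ → ℕ := pget (nat_lit 0xf72ba17133c0) (nat_lit 6) (nat_lit 0x3f)
noncomputable def sp62s2L3_bt : ℕ → ℕ := pget (nat_lit 0xd10) (nat_lit 3) (nat_lit 0x7)
noncomputable def sp62s2L3 : LvD where
  n := nat_lit 8
  g := sp62s2L3_g
  T := [nat_lit 0xf10a6579d, nat_lit 0x4ade8b373, nat_lit 0xf03ea535d, nat_lit 0x8316f68c1, nat_lit 0x48c218b33, nat_lit 0xbdf1c408e, nat_lit 0x810204081, nat_lit 0x4ad6ea373, nat_lit 0x3ad6ea46f, nat_lit 0x4bea4b7b3, nat_lit 0x803ea5441, nat_lit 0x3be22a0af, nat_lit 0x831e978c1]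
  ab := nat_lit 0x4001002001009007008002001000003004005005000000000000000000000000000000000000
  ia := nat_lit 0xc00b00a009008007005004003002001000
  ib := nat_lit 0xc00b00a009008007005004003002001000
  ent := pget (nat_lit 0xc30b10204040c100041c10104000) (nat_lit 14) (nat_lit 0x3fff)
  key := sp62s2L3_key
  ks := sp62s2L3_kt
  loc := locB sp62s2L3_key sp62s2L3_kt sp62s2L3_bt (nat_lit 4)

noncomputable def sp62s2L3_fix : ℕ → Bool := fixT a2_6.mul sp621_fix (nat_lit 0x1055683c2) (nat_lit 0x5d84e0070)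

noncomputable def sp62s2L4_g : List ℕ := [nat_lit 0x3be22a0af, nat_lit 0x810a65081, nat_lit 0xbdf1c408e]
noncomputable def sp62s2L4_key : ℕ → ℕ := keyT a2_6.mul sp621_key (nat_lit 0x5923689da) (nat_lit 27)
noncomputable def sp62s2L4_kt : ℕ → ℕ := pget (nat_lit 0xba13c0) (nat_lit 6) (nat_lit 0x3f)
noncomputable def sp62s2L4_bt : ℕ → ℕ := pget (nat_lit 0x8) (nat_lit 2) (nat_lit 0x3)
noncomputable def sp62s2L4 : LvD where
  n := nat_lit 4
  g := sp62s2L4_g
  T := [nat_lit 0x3be22a0af, nat_lit 0x810a65081, nat_lit 0xbdf1c408e, nat_lit 0x711ea0a0, nat_lit 0x810204081, nat_lit 0x3bea4b0af, nat_lit 0xbdf9a508e]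
  ab := nat_lit 0x3005000001002002000002000000000000000000
  ia := nat_lit 0x6005003002001000
  ib := nat_lit 0x6005003002001000
  ent := pget (nat_lit 0x9060200) (nat_lit 9) (nat_lit 0x1ff)
  key := sp62s2L4_key
  ks := sp62s2L4_kt
  loc := locB sp62s2L4_key sp62s2L4_kt sp62s2L4_bt (nat_lit 5)

noncomputable def sp62s2L4_fix : ℕ → Bool := fixT a2_6.mul sp621_fix (nat_lit 0x5923689da) (nat_lit 0x55e4703a9)

noncomputable def sp62s2L5_g : List ℕ := [nat_lit 0xbdf1c408e]
noncomputable def sp62s2L5_key : ℕ → ℕ := keyT a2_6.mul sp621_key (nat_lit 0xa12813637) (nat_lit 54)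
noncomputable def sp62s2L5_kt : ℕ → ℕ := pget (nat_lit 0xf0) (nat_lit 4) (nat_lit 0xf)
noncomputable def sp62s2L5_bt : ℕ → ℕ := pget (nat_lit 0x0) (nat_lit 1) (nat_lit 0x1)
noncomputable def sp62s2L5 : LvD where
  n := nat_lit 2
  g := sp62s2L5_g
  T := [nat_lit 0xbdf1c408e, nat_lit 0x810204081]
  ab := nat_lit 0x0
  ia := nat_lit 0x0
  ib := nat_lit 0x0
  ent := pget (nat_lit 0x2) (nat_lit 1) (nat_lit 0x1)
  key := sp62s2L5_key
  ks := sp62s2L5_kt
  loc := locB sp62s2L5_key sp62s2L5_kt sp62s2L5_bt (nat_lit 4)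

noncomputable def sp62s2L5_fix : ℕ → Bool := fixT a2_6.mul sp621_fix (nat_lit 0xa12813637) (nat_lit 0x22aa0de94)

noncomputable def sp62s2L6_g : List ℕ := []
noncomputable def sp62s2L6_ls : List Lv := []
noncomputable def sp62s2L5_ls : List Lv := sp62s2L5.lv a2_6.mul a2_6.one :: sp62s2L6_ls
noncomputable def sp62s2L4_ls : List Lv := sp62s2L4.lv a2_6.mul a2_6.one :: sp62s2L5_ls
noncomputable def sp62s2L3_ls : List Lv := sp62s2L3.lv a2_6.mul a2_6.one :: sp62s2L4_ls
noncomputable def sp62s2L2_ls : List Lv := sp62s2L2.lv a2_6.mul a2_6.one :: sp62s2L3_ls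
noncomputable def sp62s2L1_ls : List Lv := sp62s2L1.lv a2_6.mul a2_6.one :: sp62s2L2_ls
noncomputable def sp62s2_aux : List ℕ := [nat_lit 0xeab8188d4, nat_lit 0x9accfee08, nat_lit 0x982bcc588, nat_lit 0xbdf1c408e, nat_lit 0x83821eab3, nat_lit 0x3b86cd11d, nat_lit 0x49feb9ff3, nat_lit 0x4be22a7b3, nat_lit 0x4ade8b373, nat_lit 0x6f64be7ce, nat_lit 0xee599fb34, nat_lit 0x418e33d4c, nat_lit 0x256e533fd, nat_lit 0x6b2f49add, nat_lit 0xe85e5372e, nat_lit 0x6ac8cdd5d, nat_lit 0x1055683c2, nat_lit 0x5d84e0070, nat_lit 0x5923689da, nat_lit 0x55e4703a9, nat_lit 0xa12813637, nat_lit 0x22aa0de94]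
theorem sp62s2_sh : sp62s2.shapeOK = true := by decide +kernel
theorem sp62s2_fin : sp62s2.finOK = true := by decide +kernel
theorem sp62s2_rel_0 : allR (sp62s2.relOK a2_6.mul (eqbQ a2_6.mul Nat.beq a2_6.one sp62_zs) a2_6.one) (nat_lit 0) (nat_lit 9) = true := by decide +kernel
theorem sp62s2_rel : ∀ j < nat_lit 9, (sp62s2.relOK a2_6.mul (eqbQ a2_6.mul Nat.beq a2_6.one sp62_zs) a2_6.one) j = true :=
  (allR_step (c := nat_lit 9) (fun _ h => absurd h (Nat.not_lt_zero _)) sp62s2_rel_0 (by decide))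

theorem sp62s2_fus_0 : allR (sp62s2.fusOK a2_6.mul (eqbQ a2_6.mul Nat.beq a2_6.one sp62_zs) a2_6.one) (nat_lit 0) (nat_lit 11) = true := by decide +kernel
theorem sp62s2_fus : ∀ j < nat_lit 11, (sp62s2.fusOK a2_6.mul (eqbQ a2_6.mul Nat.beq a2_6.one sp62_zs) a2_6.one) j = true :=
  (allR_step (c := nat_lit 11) (fun _ h => absurd h (Nat.not_lt_zero _)) sp62s2_fus_0 (by decide))

theorem sp62s2_job_0 : allR sp62s2.jobOK (nat_lit 0) (nat_lit 41) = true := by decide +kernel
theorem sp62s2_job : ∀ j < nat_lit 41, sp62s2.jobOK j = true :=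
  (allR_step (c := nat_lit 41) (fun _ h => absurd h (Nat.not_lt_zero _)) sp62s2_job_0 (by decide))

theorem sp62s2L1_ok : sp62s2L1.ok a2_6.mul (eqbQ a2_6.mul Nat.beq a2_6.one sp62_zs) a2_6.one = true := by decide +kernel
theorem sp62s2L1_next : sp62s2L1.nextOK a2_6.mul a2_6.one sp62s2L2_g (nat_lit 0xa00000100000100000b000000000001000000000001000000000003000000000000000000000000) = true := by decide +kernel
theorem sp62s2L1_fx : allL sp62s2L1_fix sp62s2L2_g = true := by decide +kernel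
theorem sp62s2L1_k_0 : allR (kchk sp62s2L1_key (sp62s2L1.lv a2_6.mul a2_6.one).U sp62s2L1_kt (nat_lit 2)) (nat_lit 0) (nat_lit 2) = true := by decide +kernel
theorem sp62s2L1_k : ∀ j < nat_lit 2, (kchk sp62s2L1_key (sp62s2L1.lv a2_6.mul a2_6.one).U sp62s2L1_kt (nat_lit 2)) j = true :=
  (allR_step (c := nat_lit 2) (fun _ h => absurd h (Nat.not_lt_zero _)) sp62s2L1_k_0 (by decide))

theorem sp62s2L2_ok : sp62s2L2.ok a2_6.mul (eqbQ a2_6.mul Nat.beq a2_6.one sp62_zs) a2_6.one = true := by decide +kernel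
theorem sp62s2L2_next : sp62s2L2.nextOK a2_6.mul a2_6.one sp62s2L3_g (nat_lit 0x3000001000003000002000003000001000000000009000003000003000006000002000000000007000003000000000008000000) = true := by decide +kernel
theorem sp62s2L2_fx : allL sp62s2L2_fix sp62s2L3_g = true := by decide +kernel
theorem sp62s2L2_k_0 : allR (kchk sp62s2L2_key (sp62s2L2.lv a2_6.mul a2_6.one).U sp62s2L2_kt (nat_lit 4)) (nat_lit 0) (nat_lit 4) = true := by decide +kernel
theorem sp62s2L2_k : ∀ j < nat_lit 4, (kchk sp62s2L2_key (sp62s2L2.lv a2_6.mul a2_6.one).U sp62s2L2_kt (nat_lit 4)) j = true :=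
  (allR_step (c := nat_lit 4) (fun _ h => absurd h (Nat.not_lt_zero _)) sp62s2L2_k_0 (by decide))

theorem sp62s2L3_ok : sp62s2L3.ok a2_6.mul (eqbQ a2_6.mul Nat.beq a2_6.one sp62_zs) a2_6.one = true := by decide +kernel
theorem sp62s2L3_next : sp62s2L3.nextOK a2_6.mul a2_6.one sp62s2L4_g (nat_lit 0x1000005000001000001000003000005000001000009000002) = true := by decide +kernel
theorem sp62s2L3_fx : allL sp62s2L3_fix sp62s2L4_g = true := by decide +kernel
theorem sp62s2L3_k_0 : allR (kchk sp62s2L3_key (sp62s2L3.lv a2_6.mul a2_6.one).U sp62s2L3_kt (nat_lit 8)) (nat_lit 0) (nat_lit 8) = true := by decide +kernel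
theorem sp62s2L3_k : ∀ j < nat_lit 8, (kchk sp62s2L3_key (sp62s2L3.lv a2_6.mul a2_6.one).U sp62s2L3_kt (nat_lit 8)) j = true :=
  (allR_step (c := nat_lit 8) (fun _ h => absurd h (Nat.not_lt_zero _)) sp62s2L3_k_0 (by decide))

theorem sp62s2L4_ok : sp62s2L4.ok a2_6.mul (eqbQ a2_6.mul Nat.beq a2_6.one sp62_zs) a2_6.one = true := by decide +kernel
theorem sp62s2L4_next : sp62s2L4.nextOK a2_6.mul a2_6.one sp62s2L5_g (nat_lit 0x3000003) = true := by decide +kernel
theorem sp62s2L4_fx : allL sp62s2L4_fix sp62s2L5_g = true := by decide +kernel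
theorem sp62s2L4_k_0 : allR (kchk sp62s2L4_key (sp62s2L4.lv a2_6.mul a2_6.one).U sp62s2L4_kt (nat_lit 4)) (nat_lit 0) (nat_lit 4) = true := by decide +kernel
theorem sp62s2L4_k : ∀ j < nat_lit 4, (kchk sp62s2L4_key (sp62s2L4.lv a2_6.mul a2_6.one).U sp62s2L4_kt (nat_lit 4)) j = true :=
  (allR_step (c := nat_lit 4) (fun _ h => absurd h (Nat.not_lt_zero _)) sp62s2L4_k_0 (by decide))

theorem sp62s2L5_ok : sp62s2L5.ok a2_6.mul (eqbQ a2_6.mul Nat.beq a2_6.one sp62_zs) a2_6.one = true := by decide +kernel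
theorem sp62s2L5_next : sp62s2L5.nextOK a2_6.mul a2_6.one sp62s2L6_g (nat_lit 0x0) = true := by decide +kernel
theorem sp62s2L5_fx : allL sp62s2L5_fix sp62s2L6_g = true := by decide +kernel
theorem sp62s2L5_k_0 : allR (kchk sp62s2L5_key (sp62s2L5.lv a2_6.mul a2_6.one).U sp62s2L5_kt (nat_lit 2)) (nat_lit 0) (nat_lit 2) = true := by decide +kernel
theorem sp62s2L5_k : ∀ j < nat_lit 2, (kchk sp62s2L5_key (sp62s2L5.lv a2_6.mul a2_6.one).U sp62s2L5_kt (nat_lit 2)) j = true :=
  (allR_step (c := nat_lit 2) (fun _ h => absurd h (Nat.not_lt_zero _)) sp62s2L5_k_0 (by decide))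

theorem sp62s2_auxok : slpR a2_6.mul a2_6.one (wdsOK a2_6.mul a2_6.one sp62s2_aux [nat_lit 0x102704004805c05f059, nat_lit 0x100e01e02304305f05e, nat_lit 0x100e02d03205f05e, nat_lit 0x101802004805c05505b, nat_lit 0x100300e02705f00c, nat_lit 0x100300900204305c05d05b, nat_lit 0x100301802004003104305f00c, nat_lit 0x100502702004004d03d05f00c, nat_lit 0x100e00902d04003d05f00c, nat_lit 0x101301601d04c05c05505b, nat_lit 0x100301804003d00d03c05b, nat_lit 0x100300904000204305f00d03c05b001, nat_lit 0x100501801e04000203205f00c03c, nat_lit 0x100300701d04d03205c05d05b, nat_lit 0x100300501604004305f05e059, nat_lit 0x100301e04303105c05d05b, nat_lit 0x100301802d04804305c05f055, nat_lit 0x101804002004d04c05f05e05905b05f, nat_lit 0x100300e00704804804305f060, nat_lit 0x100301302704002004d04304305c05d00005d, nat_lit 0x100301301602004803503d05c05f05e, nat_lit 0x100e01e02d03d03d05c05f059]) (nat_lit 90) (nat_lit 0x5d05a05b05402a02000000a00000e021000000011000010000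01502300003500001100f05300004e04c00000400000e01c00002e00000901600200001200000800201600001500802700001300000100000702400300000200f00400002000000000200000000000002400001e00002200001600e01800000100001600000000200000000000001500000200001300000200c01600001900200001900001402600002600002700000e00001c00002400001f00002001f00000500000000300300200000600000000501b00001000001600000000c01201300000400000200000000000000000001100000600000c00000e00000300000c00000300000900a003000007003000008001003006003) sp62_g = true := by decide +kernel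
theorem sp62s2_sbd {G : Type*} [Group G] (M : Model G) (h1 : M.mul = a2_6.mul) (h2 : M.eqb = (eqbQ a2_6.mul Nat.beq a2_6.one sp62_zs))
    (h3 : M.one = a2_6.one) (vv : ∀ c ∈ sp62_g, M.In ⊤ c) {St : Subgroup G} (k1 : Key M St sp621_key sp621_fix) [Finite G]
    (hN : Nat.card G = 1451520) : SBd 2 1 G := by
  obtain ⟨R, one, mul, eqb, a1, a2, a3⟩ := M
  dsimp only at h1 h2 h3
  subst h1 h2 h3
  set M : Model G := ⟨R, a2_6.one, a2_6.mul, (eqbQ a2_6.mul Nat.beq a2_6.one sp62_zs), a1, a2, a3⟩ with hM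
  have va := in_of_slpW (M := M) _ vv sp62s2_auxok
  obtain ⟨tsp62s2L1, hTsp62s2L1⟩ := exists_R va (c := (nat_lit 0x256e533fd)) (by (try dsimp only [M]); decide +kernel)
  have ksp62s2L1 : Key M (cjS St tsp62s2L1) sp62s2L1_key sp62s2L1_fix := k1.keyT hTsp62s2L1 (R_inv_of hTsp62s2L1 (exists_R va (c := (nat_lit 0x6b2f49add)) (by (try dsimp only [M]); decide +kernel)) (by (try dsimp only [M]); decide +kernel)) _
  obtain ⟨tsp62s2L2, hTsp62s2L2⟩ := exists_R va (c := (nat_lit 0xe85e5372e)) (by (try dsimp only [M]); decide +kernel)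
  have ksp62s2L2 : Key M (cjS St tsp62s2L2) sp62s2L2_key sp62s2L2_fix := k1.keyT hTsp62s2L2 (R_inv_of hTsp62s2L2 (exists_R va (c := (nat_lit 0x6ac8cdd5d)) (by (try dsimp only [M]); decide +kernel)) (by (try dsimp only [M]); decide +kernel)) _
  obtain ⟨tsp62s2L3, hTsp62s2L3⟩ := exists_R va (c := (nat_lit 0x1055683c2)) (by (try dsimp only [M]); decide +kernel)
  have ksp62s2L3 : Key M (cjS St tsp62s2L3) sp62s2L3_key sp62s2L3_fix := k1.keyT hTsp62s2L3 (R_inv_of hTsp62s2L3 (exists_R va (c := (nat_lit 0x5d84e0070)) (by (try dsimp only [M]); decide +kernel)) (by (try dsimp only [M]); decide +kernel)) _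
  obtain ⟨tsp62s2L4, hTsp62s2L4⟩ := exists_R va (c := (nat_lit 0x5923689da)) (by (try dsimp only [M]); decide +kernel)
  have ksp62s2L4 : Key M (cjS St tsp62s2L4) sp62s2L4_key sp62s2L4_fix := k1.keyT hTsp62s2L4 (R_inv_of hTsp62s2L4 (exists_R va (c := (nat_lit 0x55e4703a9)) (by (try dsimp only [M]); decide +kernel)) (by (try dsimp only [M]); decide +kernel)) _
  obtain ⟨tsp62s2L5, hTsp62s2L5⟩ := exists_R va (c := (nat_lit 0xa12813637)) (by (try dsimp only [M]); decide +kernel)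
  have ksp62s2L5 : Key M (cjS St tsp62s2L5) sp62s2L5_key sp62s2L5_fix := k1.keyT hTsp62s2L5 (R_inv_of hTsp62s2L5 (exists_R va (c := (nat_lit 0x22aa0de94)) (by (try dsimp only [M]); decide +kernel)) (by (try dsimp only [M]); decide +kernel)) _
  have gsp62s2L1 : ∀ c ∈ sp62s2L1_g, M.In ⊤ c := valid_sub va (by (try dsimp only [M]); decide +kernel)
  have gsp62s2L2 := LvD.valid_next (D := sp62s2L1) gsp62s2L1 sp62s2L1_ok sp62s2L1_next
  have lsp62s2L1 := LvD.le_next (D := sp62s2L1) gsp62s2L1 sp62s2L1_ok sp62s2L1_next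
  have gsp62s2L3 := LvD.valid_next (D := sp62s2L2) gsp62s2L2 sp62s2L2_ok sp62s2L2_next
  have lsp62s2L2 := LvD.le_next (D := sp62s2L2) gsp62s2L2 sp62s2L2_ok sp62s2L2_next
  have gsp62s2L4 := LvD.valid_next (D := sp62s2L3) gsp62s2L3 sp62s2L3_ok sp62s2L3_next
  have lsp62s2L3 := LvD.le_next (D := sp62s2L3) gsp62s2L3 sp62s2L3_ok sp62s2L3_next
  have gsp62s2L5 := LvD.valid_next (D := sp62s2L4) gsp62s2L4 sp62s2L4_ok sp62s2L4_next
  have lsp62s2L4 := LvD.le_next (D := sp62s2L4) gsp62s2L4 sp62s2L4_ok sp62s2L4_next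
  have gsp62s2L6 := LvD.valid_next (D := sp62s2L5) gsp62s2L5 sp62s2L5_ok sp62s2L5_next
  have lsp62s2L5 := LvD.le_next (D := sp62s2L5) gsp62s2L5 sp62s2L5_ok sp62s2L5_next
  have csp62s2L6 : 1 ≤ Nat.card (M.cl sp62s2L6_g) := Nat.card_pos
  have csp62s2L5 : 2 ≤ Nat.card (M.cl sp62s2L5_g) := le_trans (by (try dsimp only [M]); decide +kernel) (LvD.lower (D := sp62s2L5) gsp62s2L5 sp62s2L5_ok csp62s2L6 lsp62s2L5 ksp62s2L5 sp62s2L5_fx sp62s2L5_k)
  have csp62s2L4 : 8 ≤ Nat.card (M.cl sp62s2L4_g) := le_trans (by (try dsimp only [M]); decide +kernel) (LvD.lower (D := sp62s2L4) gsp62s2L4 sp62s2L4_ok csp62s2L5 lsp62s2L4 ksp62s2L4 sp62s2L4_fx sp62s2L4_k)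
  have csp62s2L3 : 64 ≤ Nat.card (M.cl sp62s2L3_g) := le_trans (by (try dsimp only [M]); decide +kernel) (LvD.lower (D := sp62s2L3) gsp62s2L3 sp62s2L3_ok csp62s2L4 lsp62s2L3 ksp62s2L3 sp62s2L3_fx sp62s2L3_k)
  have csp62s2L2 : 256 ≤ Nat.card (M.cl sp62s2L2_g) := le_trans (by (try dsimp only [M]); decide +kernel) (LvD.lower (D := sp62s2L2) gsp62s2L2 sp62s2L2_ok csp62s2L3 lsp62s2L2 ksp62s2L2 sp62s2L2_fx sp62s2L2_k)
  have csp62s2L1 : 512 ≤ Nat.card (M.cl sp62s2L1_g) := le_trans (by (try dsimp only [M]); decide +kernel) (LvD.lower (D := sp62s2L1) gsp62s2L1 sp62s2L1_ok csp62s2L2 lsp62s2L1 ksp62s2L1 sp62s2L1_fx sp62s2L1_k)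
  exact SchD.sbd M sp62s2 (n := 9) (by norm_num) hN (valid_sub va (by (try dsimp only [M]); decide +kernel)) (valid_sub va (by (try dsimp only [M]); decide +kernel))
    (le_trans (by norm_num) (csp62s2L1.trans (Subgroup.card_le_of_le (Model.cl_mono (subL_spec (by (try dsimp only [M]); decide +kernel))))))
    (by decide +kernel) sp62s2_sh sp62s2_rel sp62s2_fus sp62s2_job sp62s2_fin

end H29
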