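import Cfsg.Agent.H29.Sp62M

set_option autoImplicit false
set_option maxRecDepth 100000
set_option linter.style.haveILetI false
set_option linter.unusedVariables false
set_option linter.style.longLine false
set_option linter.unusedTactic false
set_option linter.unreachableTactic false

namespace H29

noncomputable def sp62s3_gl : List ℕ := [nat_lit 0xd33acb26d, nat_lit 0x2e4d411b7, nat_lit 0xa1882b0a7, nat_lit 0x7399fc21]
noncomputable def sp62s3_fg : List ℕ := [nat_lit 0x822a35c81, nat_lit 0x6dcb6139f]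
noncomputable def sp62s3_J : List Job := [.as (nat_lit 0x4) (nat_lit 0x8) (nat_lit 0x4) (nat_lit 0x1000),
  .as (nat_lit 0x20) (nat_lit 0x10) (nat_lit 0x4) (nat_lit 0x10000),
  .as (nat_lit 0x10) (nat_lit 0x4) (nat_lit 0x8) (nat_lit 0x24000),
  .as (nat_lit 0x8) (nat_lit 0x4) (nat_lit 0x1) (nat_lit 0x19600),
  .as (nat_lit 0x4) (nat_lit 0x1) (nat_lit 0x2) (nat_lit 0x14500),
  .fu (nat_lit 0) [nat_lit 0, nat_lit 0, nat_lit 0] [] (nat_lit 0x18a08),
  .fu (nat_lit 0) [nat_lit 1, nat_lit 1, nat_lit 1] [nat_lit 2] (nat_lit 0x40a586),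
  .fu (nat_lit 0) [nat_lit 3, nat_lit 0] [nat_lit 0, nat_lit 3, nat_lit 2] (nat_lit 0x420400),
  .fu (nat_lit 1) [nat_lit 4, nat_lit 4, nat_lit 4] [nat_lit 5] (nat_lit 0x10010020),
  .fu (nat_lit 1) [nat_lit 6, nat_lit 7] [nat_lit 7, nat_lit 6, nat_lit 5] (nat_lit 0x10004402)]
noncomputable def sp62s3_l1 : List ℕ := [nat_lit 0x0, nat_lit 0x2820, nat_lit 0x180599, nat_lit 0x1a556, nat_lit 0x9a8, nat_lit 0xa24, nat_lit 0x4, nat_lit 0x50, nat_lit 0x10]
noncomputable def sp62s3 : SchD where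
  P := ⟨nat_lit 3, nat_lit 2, nat_lit 4, nat_lit 11, nat_lit 4, nat_lit 15, (pget (nat_lit 0x8407406405000004903500000000402140000000000001) (nat_lit 12) (nat_lit 0xfff))⟩
  m1 := nat_lit 9
  nf := nat_lit 8
  rv := (pget (nat_lit 0xfedca9500) (nat_lit 4) (nat_lit 0xf))
  dk := (pget (nat_lit 0x41210) (nat_lit 5) (nat_lit 0x1f))
  gl := sp62s3_gl
  fg := sp62s3_fg
  fa := (pget (nat_lit 0xf0) (nat_lit 1) (nat_lit 0x1))
  fr := (pget (nat_lit 0x2420042100201) (nat_lit 7) (nat_lit 0x7f))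
  fs := (pget (nat_lit 0x9290808820408612) (nat_lit 8) (nat_lit 0xff))
  a := nat_lit 0
  es := []
  F := nat_lit 134
  c := nat_lit 2
  J := sp62s3_J
  l1 := lget sp62s3_l1
  l2 := fun _ => nat_lit 0

noncomputable def sp62s3L1_g : List ℕ := [nat_lit 0xd33acb26d, nat_lit 0x2e4d411b7]
noncomputable def sp62s3L1_key : ℕ → ℕ := keyT a2_6.mul sp621_key (nat_lit 0x23abbfc06) (nat_lit 7)
noncomputable def sp62s3L1_kt : ℕ → ℕ := pget (nat_lit 0x36d2fa4f204040) (nat_lit 6) (nat_lit 0x3f)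
noncomputable def sp62s3L1_bt : ℕ → ℕ := pget (nat_lit 0xf68) (nat_lit 3) (nat_lit 0x7)
noncomputable def sp62s3L1 : LvD where
  n := nat_lit 9
  g := sp62s3L1_g
  T := [nat_lit 0xd33acb26d, nat_lit 0x2e4d411b7, nat_lit 0x323ecf1b9, nat_lit 0x10a6771df, nat_lit 0xdde321bfc, nat_lit 0x6dcb4b244, nat_lit 0x10367925f, nat_lit 0x30aee0a79, nat_lit 0x810204081, nat_lit 0xf3ae60a4b, nat_lit 0x3fd85fc28, nat_lit 0x9a49dbcae, nat_lit 0x2cdd6ea77, nat_lit 0xaec7f9276]
  ab := nat_lit 0x1007006005000009003002005005002000000005001002004004003003001001000000000000000000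
  ia := nat_lit 0xc00a003006005001002000
  ib := nat_lit 0x200200200200200200200200200200200200200200200200200200200200200200200200200200200200200200200200200200200200200200200200200200200200200200200200200200200200200200200200d00b009007001005000002
  ent := pget (nat_lit 0x101818221c2018100418142000100810000) (nat_lit 16) (nat_lit 0xffff)
  key := sp62s3L1_key
  ks := sp62s3L1_kt
  loc := locB sp62s3L1_key sp62s3L1_kt sp62s3L1_bt (nat_lit 4)

noncomputable def sp62s3L1_fix : ℕ → Bool := fixT a2_6.mul sp621_fix (nat_lit 0x23abbfc06) (nat_lit 0xa6b833ca7)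

noncomputable def sp62s3L2_g : List ℕ := [nat_lit 0x9d5076c0f, nat_lit 0x822234c81]
noncomputable def sp62s3L2_key : ℕ → ℕ := keyT a2_6.mul sp621_key (nat_lit 0x7db3a9ac7) (nat_lit 6)
noncomputable def sp62s3L2_kt : ℕ → ℕ := pget (nat_lit 0xe90) (nat_lit 4) (nat_lit 0xf)
noncomputable def sp62s3L2_bt : ℕ → ℕ := pget (nat_lit 0x0) (nat_lit 1) (nat_lit 0x1)
noncomputable def sp62s3L2 : LvD where
  n := nat_lit 3
  g := sp62s3L2_g
  T := [nat_lit 0x9d5076c0f, nat_lit 0x822234c81, nat_lit 0xbac3f4c88, nat_lit 0x812236c01]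
  ab := nat_lit 0x1001000000000000000000
  ia := nat_lit 0x3001002000
  ib := nat_lit 0x2002002002002002002002002002002002002002002002002002002002002002002002002002002002002002002002002002002002002002002002002002002002002002002002002002002002002002002002002002002002001003000002
  ent := pget (nat_lit 0x6080) (nat_lit 7) (nat_lit 0x7f)
  key := sp62s3L2_key
  ks := sp62s3L2_kt
  loc := locB sp62s3L2_key sp62s3L2_kt sp62s3L2_bt (nat_lit 4)

noncomputable def sp62s3L2_fix : ℕ → Bool := fixT a2_6.mul sp621_fix (nat_lit 0x7db3a9ac7) (nat_lit 0x35ffb01b7)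

noncomputable def sp62s3L3_g : List ℕ := [nat_lit 0x822234c81]
noncomputable def sp62s3L3_key : ℕ → ℕ := keyT a2_6.mul sp621_key (nat_lit 0x256e533fd) (nat_lit 60)
noncomputable def sp62s3L3_kt : ℕ → ℕ := pget (nat_lit 0x30080) (nat_lit 6) (nat_lit 0x3f)
noncomputable def sp62s3L3_bt : ℕ → ℕ := pget (nat_lit 0x0) (nat_lit 1) (nat_lit 0x1)
noncomputable def sp62s3L3 : LvD where
  n := nat_lit 3
  g := sp62s3L3_g
  T := [nat_lit 0x822234c81, nat_lit 0x812236c01]
  ab := nat_lit 0x0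
  ia := nat_lit 0x1000
  ib := nat_lit 0x1001001001001001001001001001001001001001001001001001001001001001001001001001001001001001001001001001001001001001001001001001001001001001001001001001001001001001001001001001001001001001000001
  ent := pget (nat_lit 0x104080) (nat_lit 7) (nat_lit 0x7f)
  key := sp62s3L3_key
  ks := sp62s3L3_kt
  loc := locB sp62s3L3_key sp62s3L3_kt sp62s3L3_bt (nat_lit 6)

noncomputable def sp62s3L3_fix : ℕ → Bool := fixT a2_6.mul sp621_fix (nat_lit 0x256e533fd) (nat_lit 0x6b2f49add)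

noncomputable def sp62s3L4_g : List ℕ := []
noncomputable def sp62s3L4_ls : List Lv := []
noncomputable def sp62s3L3_ls : List Lv := sp62s3L3.lv a2_6.mul a2_6.one :: sp62s3L4_ls
noncomputable def sp62s3L2_ls : List Lv := sp62s3L2.lv a2_6.mul a2_6.one :: sp62s3L3_ls
noncomputable def sp62s3L1_ls : List Lv := sp62s3L1.lv a2_6.mul a2_6.one :: sp62s3L2_ls
noncomputable def sp62s3_aux : List ℕ := [nat_lit 0xd33acb26d, nat_lit 0x2e4d411b7, nat_lit 0xa1882b0a7, nat_lit 0x7399fc21, nat_lit 0x822a35c81, nat_lit 0x6dcb6139f, nat_lit 0x23abbfc06, nat_lit 0xa6b833ca7, nat_lit 0x7db3a9ac7, nat_lit 0x35ffb01b7, nat_lit 0x256e533fd, nat_lit 0x6b2f49add]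
theorem sp62s3_sh : sp62s3.shapeOK = true := by decide +kernel
theorem sp62s3_fin : sp62s3.finOK = true := by decide +kernel
theorem sp62s3_rel_0 : allR (sp62s3.relOK a2_6.mul (eqbQ a2_6.mul Nat.beq a2_6.one sp62_zs) a2_6.one) (nat_lit 0) (nat_lit 4) = true := by decide +kernel
theorem sp62s3_rel : ∀ j < nat_lit 4, (sp62s3.relOK a2_6.mul (eqbQ a2_6.mul Nat.beq a2_6.one sp62_zs) a2_6.one) j = true :=
  (allR_step (c := nat_lit 4) (fun _ h => absurd h (Nat.not_lt_zero _)) sp62s3_rel_0 (by decide))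

theorem sp62s3_fus_0 : allR (sp62s3.fusOK a2_6.mul (eqbQ a2_6.mul Nat.beq a2_6.one sp62_zs) a2_6.one) (nat_lit 0) (nat_lit 8) = true := by decide +kernel
theorem sp62s3_fus : ∀ j < nat_lit 8, (sp62s3.fusOK a2_6.mul (eqbQ a2_6.mul Nat.beq a2_6.one sp62_zs) a2_6.one) j = true :=
  (allR_step (c := nat_lit 8) (fun _ h => absurd h (Nat.not_lt_zero _)) sp62s3_fus_0 (by decide))

theorem sp62s3_job_0 : allR sp62s3.jobOK (nat_lit 0) (nat_lit 10) = true := by decide +kernel
theorem sp62s3_job : ∀ j < nat_lit 10, sp62s3.jobOK j = true :=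
  (allR_step (c := nat_lit 10) (fun _ h => absurd h (Nat.not_lt_zero _)) sp62s3_job_0 (by decide))

theorem sp62s3L1_ok : sp62s3L1.ok a2_6.mul (eqbQ a2_6.mul Nat.beq a2_6.one sp62_zs) a2_6.one = true := by decide +kernel
theorem sp62s3L1_next : sp62s3L1.nextOK a2_6.mul a2_6.one sp62s3L2_g (nat_lit 0x800000200000500000300000c000007) = true := by decide +kernel
theorem sp62s3L1_fx : allL sp62s3L1_fix sp62s3L2_g = true := by decide +kernel
theorem sp62s3L1_k_0 : allR (kchk sp62s3L1_key (sp62s3L1.lv a2_6.mul a2_6.one).U sp62s3L1_kt (nat_lit 9)) (nat_lit 0) (nat_lit 9) = true := by decide +kernel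
theorem sp62s3L1_k : ∀ j < nat_lit 9, (kchk sp62s3L1_key (sp62s3L1.lv a2_6.mul a2_6.one).U sp62s3L1_kt (nat_lit 9)) j = true :=
  (allR_step (c := nat_lit 9) (fun _ h => absurd h (Nat.not_lt_zero _)) sp62s3L1_k_0 (by decide))

theorem sp62s3L2_ok : sp62s3L2.ok a2_6.mul (eqbQ a2_6.mul Nat.beq a2_6.one sp62_zs) a2_6.one = true := by decide +kernel
theorem sp62s3L2_next : sp62s3L2.nextOK a2_6.mul a2_6.one sp62s3L3_g (nat_lit 0x1000001000001) = true := by decide +kernel
theorem sp62s3L2_fx : allL sp62s3L2_fix sp62s3L3_g = true := by decide +kernel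
theorem sp62s3L2_k_0 : allR (kchk sp62s3L2_key (sp62s3L2.lv a2_6.mul a2_6.one).U sp62s3L2_kt (nat_lit 3)) (nat_lit 0) (nat_lit 3) = true := by decide +kernel
theorem sp62s3L2_k : ∀ j < nat_lit 3, (kchk sp62s3L2_key (sp62s3L2.lv a2_6.mul a2_6.one).U sp62s3L2_kt (nat_lit 3)) j = true :=
  (allR_step (c := nat_lit 3) (fun _ h => absurd h (Nat.not_lt_zero _)) sp62s3L2_k_0 (by decide))

theorem sp62s3L3_ok : sp62s3L3.ok a2_6.mul (eqbQ a2_6.mul Nat.beq a2_6.one sp62_zs) a2_6.one = true := by decide +kernel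
theorem sp62s3L3_next : sp62s3L3.nextOK a2_6.mul a2_6.one sp62s3L4_g (nat_lit 0x0) = true := by decide +kernel
theorem sp62s3L3_fx : allL sp62s3L3_fix sp62s3L4_g = true := by decide +kernel
theorem sp62s3L3_k_0 : allR (kchk sp62s3L3_key (sp62s3L3.lv a2_6.mul a2_6.one).U sp62s3L3_kt (nat_lit 3)) (nat_lit 0) (nat_lit 3) = true := by decide +kernel
theorem sp62s3L3_k : ∀ j < nat_lit 3, (kchk sp62s3L3_key (sp62s3L3.lv a2_6.mul a2_6.one).U sp62s3L3_kt (nat_lit 3)) j = true :=
  (allR_step (c := nat_lit 3) (fun _ h => absurd h (Nat.not_lt_zero _)) sp62s3L3_k_0 (by decide))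

theorem sp62s3_auxok : slpR a2_6.mul a2_6.one (wdsOK a2_6.mul a2_6.one sp62s3_aux [nat_lit 0x100200e02102a02d04304c05e05d05605e05705c058, nat_lit 0x100402a02d04005b05e05d, nat_lit 0x100200e01802d02a04c03205e04905e049, nat_lit 0x100902102604303105b05e055, nat_lit 0x100c026032032, nat_lit 0x100201b02303205e049, nat_lit 0x100902603105b05e05605a, nat_lit 0x100e00c02d02a03105e04905e049, nat_lit 0x102102303105b05c05e054, nat_lit 0x100401b02d02a04c03a05b05e05d, nat_lit 0x100e01b02102a00003305e001053, nat_lit 0x100201602003a03305b05c05a]) (nat_lit 89) (nat_lit 0x2c02505d05600000100a00500000400001b02600002200001600900200000500001500f02000001f01500100000600b01900000100001700000001900000001701700000400000901400001000000500300e00001000000100000700b00300000200c00400000700000000200000000000000b00001b00000900001602201800000600001600501500000200001300000300f00000100300700501800000501600000000200000000000000000002300000d00001e00002000000a00001e00700000200000000000001a00000400001500000d00000200001401500c00b00001400d00f00e00000e00000f00000400000400000c000007000008007004005007003008005005002002000)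 sp62_g = true := by decide +kernel
theorem sp62s3_sbd {G : Type*} [Group G] (M : Model G) (h1 : M.mul = a2_6.mul) (h2 : M.eqb = (eqbQ a2_6.mul Nat.beq a2_6.one sp62_zs))
    (h3 : M.one = a2_6.one) (vv : ∀ c ∈ sp62_g, M.In ⊤ c) {St : Subgroup G} (k1 : Key M St sp621_key sp621_fix) [Finite G]
    (hN : Nat.card G = 1451520) : SBd 3 0 G := by
  obtain ⟨R, one, mul, eqb, a1, a2, a3⟩ := M
  dsimp only at h1 h2 h3
  subst h1 h2 h3
  set M : Model G := ⟨R, a2_6.one, a2_6.mul, (eqbQ a2_6.mul Nat.beq a2_6.one sp62_zs), a1, a2, a3⟩ with hM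
  have va := in_of_slpW (M := M) _ vv sp62s3_auxok
  obtain ⟨tsp62s3L1, hTsp62s3L1⟩ := exists_R va (c := (nat_lit 0x23abbfc06)) (by (try dsimp only [M]); decide +kernel)
  have ksp62s3L1 : Key M (cjS St tsp62s3L1) sp62s3L1_key sp62s3L1_fix := k1.keyT hTsp62s3L1 (R_inv_of hTsp62s3L1 (exists_R va (c := (nat_lit 0xa6b833ca7)) (by (try dsimp only [M]); decide +kernel)) (by (try dsimp only [M]); decide +kernel)) _
  obtain ⟨tsp62s3L2, hTsp62s3L2⟩ := exists_R va (c := (nat_lit 0x7db3a9ac7)) (by (try dsimp only [M]); decide +kernel)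
  have ksp62s3L2 : Key M (cjS St tsp62s3L2) sp62s3L2_key sp62s3L2_fix := k1.keyT hTsp62s3L2 (R_inv_of hTsp62s3L2 (exists_R va (c := (nat_lit 0x35ffb01b7)) (by (try dsimp only [M]); decide +kernel)) (by (try dsimp only [M]); decide +kernel)) _
  obtain ⟨tsp62s3L3, hTsp62s3L3⟩ := exists_R va (c := (nat_lit 0x256e533fd)) (by (try dsimp only [M]); decide +kernel)
  have ksp62s3L3 : Key M (cjS St tsp62s3L3) sp62s3L3_key sp62s3L3_fix := k1.keyT hTsp62s3L3 (R_inv_of hTsp62s3L3 (exists_R va (c := (nat_lit 0x6b2f49add)) (by (try dsimp only [M]); decide +kernel)) (by (try dsimp only [M]); decide +kernel)) _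
  have gsp62s3L1 : ∀ c ∈ sp62s3L1_g, M.In ⊤ c := valid_sub va (by (try dsimp only [M]); decide +kernel)
  have gsp62s3L2 := LvD.valid_next (D := sp62s3L1) gsp62s3L1 sp62s3L1_ok sp62s3L1_next
  have lsp62s3L1 := LvD.le_next (D := sp62s3L1) gsp62s3L1 sp62s3L1_ok sp62s3L1_next
  have gsp62s3L3 := LvD.valid_next (D := sp62s3L2) gsp62s3L2 sp62s3L2_ok sp62s3L2_next
  have lsp62s3L2 := LvD.le_next (D := sp62s3L2) gsp62s3L2 sp62s3L2_ok sp62s3L2_next
  have gsp62s3L4 := LvD.valid_next (D := sp62s3L3) gsp62s3L3 sp62s3L3_ok sp62s3L3_next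
  have lsp62s3L3 := LvD.le_next (D := sp62s3L3) gsp62s3L3 sp62s3L3_ok sp62s3L3_next
  have csp62s3L4 : 1 ≤ Nat.card (M.cl sp62s3L4_g) := Nat.card_pos
  have csp62s3L3 : 3 ≤ Nat.card (M.cl sp62s3L3_g) := le_trans (by (try dsimp only [M]); decide +kernel) (LvD.lower (D := sp62s3L3) gsp62s3L3 sp62s3L3_ok csp62s3L4 lsp62s3L3 ksp62s3L3 sp62s3L3_fx sp62s3L3_k)
  have csp62s3L2 : 9 ≤ Nat.card (M.cl sp62s3L2_g) := le_trans (by (try dsimp only [M]); decide +kernel) (LvD.lower (D := sp62s3L2) gsp62s3L2 sp62s3L2_ok csp62s3L3 lsp62s3L2 ksp62s3L2 sp62s3L2_fx sp62s3L2_k)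
  have csp62s3L1 : 81 ≤ Nat.card (M.cl sp62s3L1_g) := le_trans (by (try dsimp only [M]); decide +kernel) (LvD.lower (D := sp62s3L1) gsp62s3L1 sp62s3L1_ok csp62s3L2 lsp62s3L1 ksp62s3L1 sp62s3L1_fx sp62s3L1_k)
  exact SchD.sbd M sp62s3 (n := 4) (by norm_num) hN (valid_sub va (by (try dsimp only [M]); decide +kernel)) (valid_sub va (by (try dsimp only [M]); decide +kernel))
    (le_trans (by norm_num) (csp62s3L1.trans (Subgroup.card_le_of_le (Model.cl_mono (subL_spec (by (try dsimp only [M]); decide +kernel))))))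
    (by decide +kernel) sp62s3_sh sp62s3_rel sp62s3_fus sp62s3_job sp62s3_fin

end H29
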