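import Cfsg.Agent.H29.Sz3D

set_option autoImplicit false
set_option maxRecDepth 100000
set_option linter.style.haveILetI false
set_option linter.unusedVariables false
set_option linter.style.longLine false
set_option linter.unusedTactic false
set_option linter.unreachableTactic false

namespace H29

theorem szJ1_ok : szJ1.ok a2_24.mul (eqbQ a2_24.mul Nat.beq a2_24.one suz_zs) a2_24.one = true := by decide +kernel
theorem szJ1_next : szJ1.nextOK a2_24.mul a2_24.one szJ2_g (nat_lit 0x18200000100004b000136000002000108) = true := by decide +kernel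
theorem szJ1_fx : allL szJ1_fix szJ2_g = true := by decide +kernel
theorem szJ1_s_0 : allR (schk a2_24.mul (eqbQ a2_24.mul Nat.beq a2_24.one suz_zs) a2_24.one szJ1_g (szJ1.lv a2_24.mul a2_24.one) szJ2_ls) (nat_lit 0) (nat_lit 150) = true := by decide +kernel
theorem szJ1_s_1 : allR (schk a2_24.mul (eqbQ a2_24.mul Nat.beq a2_24.one suz_zs) a2_24.one szJ1_g (szJ1.lv a2_24.mul a2_24.one) szJ2_ls) (nat_lit 150) (nat_lit 150) = true := by decide +kernel
theorem szJ1_s_2 : allR (schk a2_24.mul (eqbQ a2_24.mul Nat.beq a2_24.one suz_zs) a2_24.one szJ1_g (szJ1.lv a2_24.mul a2_24.one) szJ2_ls) (nat_lit 300) (nat_lit 150) = true := by decide +kernel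
theorem szJ1_s_3 : allR (schk a2_24.mul (eqbQ a2_24.mul Nat.beq a2_24.one suz_zs) a2_24.one szJ1_g (szJ1.lv a2_24.mul a2_24.one) szJ2_ls) (nat_lit 450) (nat_lit 75) = true := by decide +kernel
theorem szJ1_k_0 : allR (kchk szJ1_key (szJ1.lv a2_24.mul a2_24.one).U szJ1_kt (nat_lit 525)) (nat_lit 0) (nat_lit 525) = true := by decide +kernel
theorem szJ2_ok : szJ2.ok a2_24.mul (eqbQ a2_24.mul Nat.beq a2_24.one suz_zs) a2_24.one = true := by decide +kernel
theorem szJ2_next : szJ2.nextOK a2_24.mul a2_24.one szJ3_g (nat_lit 0xc00000000001300001d000000000012) = true := by decide +kernel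
theorem szJ2_fx : allL szJ2_fix szJ3_g = true := by decide +kernel
theorem szJ2_s_0 : allR (schk a2_24.mul (eqbQ a2_24.mul Nat.beq a2_24.one suz_zs) a2_24.one szJ2_g (szJ2.lv a2_24.mul a2_24.one) szJ3_ls) (nat_lit 0) (nat_lit 32) = true := by decide +kernel
theorem szJ2_k_0 : allR (kchk szJ2_key (szJ2.lv a2_24.mul a2_24.one).U szJ2_kt (nat_lit 32)) (nat_lit 0) (nat_lit 32) = true := by decide +kernel
theorem szJ3_ok : szJ3.ok a2_24.mul (eqbQ a2_24.mul Nat.beq a2_24.one suz_zs) a2_24.one = true := by decide +kernel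
theorem szJ3_next : szJ3.nextOK a2_24.mul a2_24.one szJ4_g (nat_lit 0x100000b000000) = true := by decide +kernel
theorem szJ3_fx : allL szJ3_fix szJ4_g = true := by decide +kernel
theorem szJ3_s_0 : allR (schk a2_24.mul (eqbQ a2_24.mul Nat.beq a2_24.one suz_zs) a2_24.one szJ3_g (szJ3.lv a2_24.mul a2_24.one) szJ4_ls) (nat_lit 0) (nat_lit 12) = true := by decide +kernel
theorem szJ3_k_0 : allR (kchk szJ3_key (szJ3.lv a2_24.mul a2_24.one).U szJ3_kt (nat_lit 12)) (nat_lit 0) (nat_lit 12) = true := by decide +kernel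
theorem szJ4_ok : szJ4.ok a2_24.mul (eqbQ a2_24.mul Nat.beq a2_24.one suz_zs) a2_24.one = true := by decide +kernel
theorem szJ4_next : szJ4.nextOK a2_24.mul a2_24.one szJ5_g (nat_lit 0x0) = true := by decide +kernel
theorem szJ4_fx : allL szJ4_fix szJ5_g = true := by decide +kernel
theorem szJ4_s_0 : allR (schk a2_24.mul (eqbQ a2_24.mul Nat.beq a2_24.one suz_zs) a2_24.one szJ4_g (szJ4.lv a2_24.mul a2_24.one) szJ5_ls) (nat_lit 0) (nat_lit 3) = true := by decide +kernel

end H29
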