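import Cfsg.Agent.H29.Sz3D

set_option autoImplicit false
set_option maxRecDepth 100000
set_option linter.style.haveILetI false
set_option linter.unusedVariables false
set_option linter.style.longLine false
set_option linter.unusedTactic false
set_option linter.unreachableTactic false

namespace H29

theorem szD5_dc_0 : allR (dcAt2 a2_24.mul (eqbQ a2_24.mul Nat.beq a2_24.one suz_zs) a2_24.one szK1_ls szQ1_ls szD5_x szX2 szD5_ms szD5_tb (nat_lit 1365)) (nat_lit 0) (nat_lit 150) = true := by decide +kernel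
theorem szD5_dc_1 : allR (dcAt2 a2_24.mul (eqbQ a2_24.mul Nat.beq a2_24.one suz_zs) a2_24.one szK1_ls szQ1_ls szD5_x szX2 szD5_ms szD5_tb (nat_lit 1365)) (nat_lit 150) (nat_lit 150) = true := by decide +kernel
theorem szD5_dc_2 : allR (dcAt2 a2_24.mul (eqbQ a2_24.mul Nat.beq a2_24.one suz_zs) a2_24.one szK1_ls szQ1_ls szD5_x szX2 szD5_ms szD5_tb (nat_lit 1365)) (nat_lit 300) (nat_lit 150) = true := by decide +kernel
theorem szD5_dc_3 : allR (dcAt2 a2_24.mul (eqbQ a2_24.mul Nat.beq a2_24.one suz_zs) a2_24.one szK1_ls szQ1_ls szD5_x szX2 szD5_ms szD5_tb (nat_lit 1365)) (nat_lit 450) (nat_lit 150) = true := by decide +kernel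
theorem szD5_dc_4 : allR (dcAt2 a2_24.mul (eqbQ a2_24.mul Nat.beq a2_24.one suz_zs) a2_24.one szK1_ls szQ1_ls szD5_x szX2 szD5_ms szD5_tb (nat_lit 1365)) (nat_lit 600) (nat_lit 150) = true := by decide +kernel
theorem szD5_dc_5 : allR (dcAt2 a2_24.mul (eqbQ a2_24.mul Nat.beq a2_24.one suz_zs) a2_24.one szK1_ls szQ1_ls szD5_x szX2 szD5_ms szD5_tb (nat_lit 1365)) (nat_lit 750) (nat_lit 150) = true := by decide +kernel
theorem szD5_dc_6 : allR (dcAt2 a2_24.mul (eqbQ a2_24.mul Nat.beq a2_24.one suz_zs) a2_24.one szK1_ls szQ1_ls szD5_x szX2 szD5_ms szD5_tb (nat_lit 1365)) (nat_lit 900) (nat_lit 150) = true := by decide +kernel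
theorem szD5_dc_7 : allR (dcAt2 a2_24.mul (eqbQ a2_24.mul Nat.beq a2_24.one suz_zs) a2_24.one szK1_ls szQ1_ls szD5_x szX2 szD5_ms szD5_tb (nat_lit 1365)) (nat_lit 1050) (nat_lit 150) = true := by decide +kernel
theorem szD5_dc_8 : allR (dcAt2 a2_24.mul (eqbQ a2_24.mul Nat.beq a2_24.one suz_zs) a2_24.one szK1_ls szQ1_ls szD5_x szX2 szD5_ms szD5_tb (nat_lit 1365)) (nat_lit 1200) (nat_lit 150) = true := by decide +kernel
theorem szD5_dc_9 : allR (dcAt2 a2_24.mul (eqbQ a2_24.mul Nat.beq a2_24.one suz_zs) a2_24.one szK1_ls szQ1_ls szD5_x szX2 szD5_ms szD5_tb (nat_lit 1365)) (nat_lit 1350) (nat_lit 15) = true := by decide +kernel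
theorem szD6_0 : (eqbQ a2_24.mul Nat.beq a2_24.one suz_zs) (dcU2 a2_24.mul a2_24.one szJ1_ls szD6_x szD6_ms 0) a2_24.one = true := by decide +kernel
theorem szD6_dc_0 : allR (dcAt2 a2_24.mul (eqbQ a2_24.mul Nat.beq a2_24.one suz_zs) a2_24.one szJ1_ls szQ1_ls szD6_x szX2 szD6_ms szD6_tb (nat_lit 1365)) (nat_lit 0) (nat_lit 150) = true := by decide +kernel
theorem szD6_dc_1 : allR (dcAt2 a2_24.mul (eqbQ a2_24.mul Nat.beq a2_24.one suz_zs) a2_24.one szJ1_ls szQ1_ls szD6_x szX2 szD6_ms szD6_tb (nat_lit 1365)) (nat_lit 150) (nat_lit 150) = true := by decide +kernel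
theorem szD6_dc_2 : allR (dcAt2 a2_24.mul (eqbQ a2_24.mul Nat.beq a2_24.one suz_zs) a2_24.one szJ1_ls szQ1_ls szD6_x szX2 szD6_ms szD6_tb (nat_lit 1365)) (nat_lit 300) (nat_lit 150) = true := by decide +kernel

end H29
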