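import Cfsg.Agent.H29.Sz3D

set_option autoImplicit false
set_option maxRecDepth 100000
set_option linter.style.haveILetI false
set_option linter.unusedVariables false
set_option linter.style.longLine false
set_option linter.unusedTactic false
set_option linter.unreachableTactic false

namespace H29

theorem szQ1_ok : szQ1.ok a2_24.mul (eqbQ a2_24.mul Nat.beq a2_24.one suz_zs) a2_24.one = true := by decide +kernel
theorem szQ1_next : szQ1.nextOK a2_24.mul a2_24.one szQ2_g (nat_lit 0xa000001000004000006000002) = true := by decide +kernel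
theorem szQ1_fx : allL szQ1_fix szQ2_g = true := by decide +kernel
theorem szQ1_s_0 : allR (schk a2_24.mul (eqbQ a2_24.mul Nat.beq a2_24.one suz_zs) a2_24.one szQ1_g (szQ1.lv a2_24.mul a2_24.one) szQ2_ls) (nat_lit 0) (nat_lit 5) = true := by decide +kernel
theorem szQ1_k_0 : allR (kchk szQ1_key (szQ1.lv a2_24.mul a2_24.one).U szQ1_kt (nat_lit 5)) (nat_lit 0) (nat_lit 5) = true := by decide +kernel
theorem szQ2_ok : szQ2.ok a2_24.mul (eqbQ a2_24.mul Nat.beq a2_24.one suz_zs) a2_24.one = true := by decide +kernel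
theorem szQ2_next : szQ2.nextOK a2_24.mul a2_24.one szQ3_g (nat_lit 0x1000000000003a00000c00000000003c000019000000000022) = true := by decide +kernel
theorem szQ2_fx : allL szQ2_fix szQ3_g = true := by decide +kernel
theorem szQ2_s_0 : allR (schk a2_24.mul (eqbQ a2_24.mul Nat.beq a2_24.one suz_zs) a2_24.one szQ2_g (szQ2.lv a2_24.mul a2_24.one) szQ3_ls) (nat_lit 0) (nat_lit 64) = true := by decide +kernel
theorem szQ2_k_0 : allR (kchk szQ2_key (szQ2.lv a2_24.mul a2_24.one).U szQ2_kt (nat_lit 64)) (nat_lit 0) (nat_lit 64) = true := by decide +kernel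
theorem szQ3_ok : szQ3.ok a2_24.mul (eqbQ a2_24.mul Nat.beq a2_24.one suz_zs) a2_24.one = true := by decide +kernel
theorem szQ3_next : szQ3.nextOK a2_24.mul a2_24.one szQ4_g (nat_lit 0x2100000a00001300002b000001000006) = true := by decide +kernel
theorem szQ3_fx : allL szQ3_fix szQ4_g = true := by decide +kernel
theorem szQ3_s_0 : allR (schk a2_24.mul (eqbQ a2_24.mul Nat.beq a2_24.one suz_zs) a2_24.one szQ3_g (szQ3.lv a2_24.mul a2_24.one) szQ4_ls) (nat_lit 0) (nat_lit 48) = true := by decide +kernel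
theorem szQ3_k_0 : allR (kchk szQ3_key (szQ3.lv a2_24.mul a2_24.one).U szQ3_kt (nat_lit 48)) (nat_lit 0) (nat_lit 48) = true := by decide +kernel
theorem szQ4_ok : szQ4.ok a2_24.mul (eqbQ a2_24.mul Nat.beq a2_24.one suz_zs) a2_24.one = true := by decide +kernel
theorem szQ4_next : szQ4.nextOK a2_24.mul a2_24.one szQ5_g (nat_lit 0x1000000000001000000000000000000) = true := by decide +kernel
theorem szQ4_fx : allL szQ4_fix szQ5_g = true := by decide +kernel
theorem szQ4_s_0 : allR (schk a2_24.mul (eqbQ a2_24.mul Nat.beq a2_24.one suz_zs) a2_24.one szQ4_g (szQ4.lv a2_24.mul a2_24.one) szQ5_ls) (nat_lit 0) (nat_lit 3) = true := by decide +kernel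
theorem szQ4_k_0 : allR (kchk szQ4_key (szQ4.lv a2_24.mul a2_24.one).U szQ4_kt (nat_lit 3)) (nat_lit 0) (nat_lit 3) = true := by decide +kernel
theorem szQ5_ok : szQ5.ok a2_24.mul (eqbQ a2_24.mul Nat.beq a2_24.one suz_zs) a2_24.one = true := by decide +kernel
theorem szQ5_next : szQ5.nextOK a2_24.mul a2_24.one szQ6_g (nat_lit 0x0) = true := by decide +kernel
theorem szQ5_fx : allL szQ5_fix szQ6_g = true := by decide +kernel
theorem szQ5_s_0 : allR (schk a2_24.mul (eqbQ a2_24.mul Nat.beq a2_24.one suz_zs) a2_24.one szQ5_g (szQ5.lv a2_24.mul a2_24.one) szQ6_ls) (nat_lit 0) (nat_lit 4) = true := by decide +kernel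

end H29
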