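import Cfsg.Agent.H29.Sz3D

set_option autoImplicit false
set_option maxRecDepth 100000
set_option linter.style.haveILetI false
set_option linter.unusedVariables false
set_option linter.style.longLine false
set_option linter.unusedTactic false
set_option linter.unreachableTactic false

namespace H29

theorem szQ5_k_0 : allR (kchk szQ5_key (szQ5.lv a2_24.mul a2_24.one).U szQ5_kt (nat_lit 4)) (nat_lit 0) (nat_lit 4) = true := by decide +kernel
theorem szX2_w : wdsOK a2_24.mul a2_24.one szX [nat_lit 0x1000001000001001001001001000001000001000001001001001001000001000001000000001, nat_lit 0x1000000000001001000001000001001001001000000001001000000000001000001001001000001000000, nat_lit 0x1000001001000000000000001000001001001001001001000001000001000001001000000001000000000000, nat_lit 0x1000001000000001000001001001001001001001000000000000000000000000001001001001000001000, nat_lit 0x1000000000001001000000001001001001001000001000000001000000000000000000000000000, nat_lit 0x1000000000000001001000000000001001001001000001001000000000000001000001000001000001000000]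 szX2 = true := by decide +kernel
theorem szD1_0 : (eqbQ a2_24.mul Nat.beq a2_24.one suz_zs) (dcU2 a2_24.mul a2_24.one szJ1_ls szD1_x szD1_ms 0) a2_24.one = true := by decide +kernel
theorem szD1_dc_0 : allR (dcAt2 a2_24.mul (eqbQ a2_24.mul Nat.beq a2_24.one suz_zs) a2_24.one szJ1_ls szJ1_ls szD1_x szX2 szD1_ms szD1_tb (nat_lit 416)) (nat_lit 0) (nat_lit 150) = true := by decide +kernel
theorem szD1_dc_1 : allR (dcAt2 a2_24.mul (eqbQ a2_24.mul Nat.beq a2_24.one suz_zs) a2_24.one szJ1_ls szJ1_ls szD1_x szX2 szD1_ms szD1_tb (nat_lit 416)) (nat_lit 150) (nat_lit 150) = true := by decide +kernel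
theorem szD1_dc_2 : allR (dcAt2 a2_24.mul (eqbQ a2_24.mul Nat.beq a2_24.one suz_zs) a2_24.one szJ1_ls szJ1_ls szD1_x szX2 szD1_ms szD1_tb (nat_lit 416)) (nat_lit 300) (nat_lit 116) = true := by decide +kernel
theorem szD2_0 : (eqbQ a2_24.mul Nat.beq a2_24.one suz_zs) (dcU2 a2_24.mul a2_24.one szN1_ls szD2_x szD2_ms 0) a2_24.one = true := by decide +kernel
theorem szD2_dc_0 : allR (dcAt2 a2_24.mul (eqbQ a2_24.mul Nat.beq a2_24.one suz_zs) a2_24.one szN1_ls szN1_ls szD2_x szJ1_g szD2_ms szD2_tb (nat_lit 2016)) (nat_lit 0) (nat_lit 150) = true := by decide +kernel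
theorem szD2_dc_1 : allR (dcAt2 a2_24.mul (eqbQ a2_24.mul Nat.beq a2_24.one suz_zs) a2_24.one szN1_ls szN1_ls szD2_x szJ1_g szD2_ms szD2_tb (nat_lit 2016)) (nat_lit 150) (nat_lit 150) = true := by decide +kernel
theorem szD2_dc_2 : allR (dcAt2 a2_24.mul (eqbQ a2_24.mul Nat.beq a2_24.one suz_zs) a2_24.one szN1_ls szN1_ls szD2_x szJ1_g szD2_ms szD2_tb (nat_lit 2016)) (nat_lit 300) (nat_lit 150) = true := by decide +kernel
theorem szD2_dc_3 : allR (dcAt2 a2_24.mul (eqbQ a2_24.mul Nat.beq a2_24.one suz_zs) a2_24.one szN1_ls szN1_ls szD2_x szJ1_g szD2_ms szD2_tb (nat_lit 2016)) (nat_lit 450) (nat_lit 150) = true := by decide +kernel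
theorem szD2_dc_4 : allR (dcAt2 a2_24.mul (eqbQ a2_24.mul Nat.beq a2_24.one suz_zs) a2_24.one szN1_ls szN1_ls szD2_x szJ1_g szD2_ms szD2_tb (nat_lit 2016)) (nat_lit 600) (nat_lit 150) = true := by decide +kernel
theorem szD2_dc_5 : allR (dcAt2 a2_24.mul (eqbQ a2_24.mul Nat.beq a2_24.one suz_zs) a2_24.one szN1_ls szN1_ls szD2_x szJ1_g szD2_ms szD2_tb (nat_lit 2016)) (nat_lit 750) (nat_lit 150) = true := by decide +kernel
theorem szD2_dc_6 : allR (dcAt2 a2_24.mul (eqbQ a2_24.mul Nat.beq a2_24.one suz_zs) a2_24.one szN1_ls szN1_ls szD2_x szJ1_g szD2_ms szD2_tb (nat_lit 2016)) (nat_lit 900) (nat_lit 150) = true := by decide +kernel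

end H29
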