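import Cfsg.Agent.H29.Sz4D

set_option autoImplicit false
set_option maxRecDepth 100000
set_option linter.style.haveILetI false
set_option linter.unusedVariables false
set_option linter.style.longLine false
set_option linter.unusedTactic false
set_option linter.unreachableTactic false

namespace H29

theorem sz_aC_3 : allR (fun j => force ((szC1.lv a2_24.mul a2_24.one).U j) (allC a2_24.mul (fun x => killed a2_24.mul (eqbQ a2_24.mul Nat.beq a2_24.one suz_zs) a2_24.one (let3 sz_ui sz_z x) sz_r2 || (eqbQ a2_24.mul Nat.beq a2_24.one suz_zs) x sz_aj) szC2_ls)) (nat_lit 30) (nat_lit 10) = true := by decide +kernel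
theorem sz_buxok : slpR a2_24.mul a2_24.one (wdsOK a2_24.mul a2_24.one sz_bux [nat_lit 0x101101901c01d06004705307e07d06f070, nat_lit 0x101102d02003904f07f07e07a00f, nat_lit 0x1, nat_lit 0x102002d04e04e07d06f06f07c, nat_lit 0x101101f00d06004d00e07d07e00f, nat_lit 0x101904304a03500b06f00c, nat_lit 0x100502001904a03607d06f07f, nat_lit 0x100501901c01d04c04708007507e06d, nat_lit 0x101102001905600308000406f, nat_lit 0x101102d01d003050073, nat_lit 0x101102d02d02d05103405407e07f, nat_lit 0x101102006003704a07706f07f06f, nat_lit 0x101101d06000105207f06f07e07b, nat_lit 0x100601f01c03303300406f000, nat_lit 0x101101901c01d05003805100007e, nat_lit 0x101102002d05005507307e07007e, nat_lit 0x101101f00d05004807906f07e, nat_lit 0x100502d02d03403607f07e00b, nat_lit 0x100501d01d06003407d06f06f00c, nat_lit 0x100502d02d02d03504b07d06f07e, nat_lit 0x100600d05605300006f070, nat_lit 0x100502d02000d05503b08206f07f06f06c, nat_lit 0x100601900d03604707f06f07f06f077, nat_lit 0x100601d01d05505004e00006f06c07e06b, nat_lit 0x100600d05403b07b06f06e06f, nat_lit 0x107e07f07e, nat_lit 0x100502d01d04300107e06a00c, nat_lit 0x100501901905704b07307e00c, nat_lit 0x101101d03b00e00b07e06c073])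 (nat_lit 125) (nat_lit 0x8006d00003905405303603706506e00b00001700001500001500002300001400c06d07106e06600b01103402605b00006f06200700000a00000c00000100000900300900000100000700000001300000001101100000200000f00e00000000003200002d00003d00000100002d03b00003a00000500000101702d00000101601802601701001503200000400000500000600001f00000901000001501301e00001401e00201a00000200001600001b00001201400000200000200001300000101600201500000000f00001c00000000000001901900000100700d00c00000000400000101300901200000600200200000f00000000500300300200000b00000000a00000001f00002500002000000400002400001500002000000901e01900b01800000d00000900000b00001c00000200000400001601400001500000d01500e00900000000500001401001100e00600000400000100800e00e00000b00a00000400000100a005000007007008005000006000002000) szX = true := by decide +kernel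

end H29
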