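import Cfsg.Agent.H29.Sz8M

set_option autoImplicit false
set_option maxRecDepth 100000
set_option linter.style.haveILetI false
set_option linter.unusedVariables false
set_option linter.style.longLine false
set_option linter.unusedTactic false
set_option linter.unreachableTactic false

namespace H29

noncomputable def sz8s2_gl : List ℕ := [nat_lit 0x6c39044821ff1b60db26cb7aff1ee1d1568f, nat_lit 0xe91c4d76fdeb7bc8f2ee3d1468a904482241, nat_lit 0x5e4392ac972089044805b1641d2bf5f9fce6, nat_lit 0x3c4b82ec1e20c106087878c65032f9b35e9f, nat_lit 0x69e8635541f319c0e257a3f1b9d883444342, nat_lit 0x22ba3ce32cdd7278965d83a0ad04b125db67]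
noncomputable def sz8s2_fg : List ℕ := [nat_lit 0x7419c5587adef23c9423ca32e19b5cfe2d91]
noncomputable def sz8s2_J : List Job := [.as (nat_lit 0x4) (nat_lit 0x4) (nat_lit 0x4) (nat_lit 0x1000),
  .as (nat_lit 0x2) (nat_lit 0x2) (nat_lit 0x2) (nat_lit 0x40400),
  .as (nat_lit 0x1) (nat_lit 0x1) (nat_lit 0x1) (nat_lit 0x4010100),
  .as (nat_lit 0x20) (nat_lit 0x20) (nat_lit 0x4) (nat_lit 0x80000000),
  .as (nat_lit 0x20) (nat_lit 0x4) (nat_lit 0x4) (nat_lit 0x380000000),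
  .as (nat_lit 0x20) (nat_lit 0x20) (nat_lit 0x2) (nat_lit 0x20000000),
  .as (nat_lit 0x20) (nat_lit 0x2) (nat_lit 0x2) (nat_lit 0xf20000000),
  .as (nat_lit 0x10) (nat_lit 0x4) (nat_lit 0x4) (nat_lit 0xe00000),
  .as (nat_lit 0x4) (nat_lit 0x4) (nat_lit 0x2) (nat_lit 0x30c0000402),
  .as (nat_lit 0x4) (nat_lit 0x2) (nat_lit 0x2) (nat_lit 0x1010101002),
  .as (nat_lit 0x4) (nat_lit 0x4) (nat_lit 0x1) (nat_lit 0x3300102),
  .as (nat_lit 0x4) (nat_lit 0x1) (nat_lit 0x1) (nat_lit 0x841111002),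
  .as (nat_lit 0x2) (nat_lit 0x2) (nat_lit 0x1) (nat_lit 0x81cd02),
  .as (nat_lit 0x2) (nat_lit 0x1) (nat_lit 0x1) (nat_lit 0x210844502),
  .as (nat_lit 0x4) (nat_lit 0x2) (nat_lit 0x1) (nat_lit 0xf04cc1000),
  .fu (nat_lit 0) [nat_lit 0, nat_lit 0] [nat_lit 1] (nat_lit 0x1be3e0f8b33),
  .fu (nat_lit 0) [nat_lit 2, nat_lit 2] [nat_lit 1, nat_lit 3] (nat_lit 0x193dc33c20c3),
  .fu (nat_lit 0) [nat_lit 4, nat_lit 4] [nat_lit 1, nat_lit 5] (nat_lit 0x1812f0ec3c34c),
  .fu (nat_lit 0) [nat_lit 4, nat_lit 2] [nat_lit 2, nat_lit 4, nat_lit 3] (nat_lit 0x1001f17d4c03),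
  .fu (nat_lit 0) [nat_lit 2, nat_lit 0] [nat_lit 0, nat_lit 2, nat_lit 1, nat_lit 5] (nat_lit 0x1013f53372002),
  .fu (nat_lit 0) [nat_lit 4, nat_lit 0] [nat_lit 0, nat_lit 4, nat_lit 5, nat_lit 3] (nat_lit 0x1103a11444402)]
noncomputable def sz8s2_l1 : List ℕ := [nat_lit 0x0, nat_lit 0x41400140045, nat_lit 0x54154514000, nat_lit 0x100000000000, nat_lit 0x400000000000, nat_lit 0x550450504051, nat_lit 0x4, nat_lit 0x44014054, nat_lit 0x150410510005, nat_lit 0x550450504041, nat_lit 0x400015540010, nat_lit 0x10000, nat_lit 0x15140010, nat_lit 0x550410510045, nat_lit 0x400054014044, nat_lit 0x550411110001, nat_lit 0x400, nat_lit 0x4400, nat_lit 0x41454050]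
noncomputable def sz8s2 : SchD where
  P := ⟨nat_lit 2, nat_lit 1, nat_lit 6, nat_lit 11, nat_lit 5, nat_lit 31, (pget (nat_lit 0x250460840f81d0340000c41682904a080000000390620a4100000000040e40280000000000006045000000000000000701) (nat_lit 11) (nat_lit 0x7ff))⟩
  m1 := nat_lit 19
  nf := nat_lit 6
  rv := (pget (nat_lit 0x238a181f79c6da6585544d2387000) (nat_lit 6) (nat_lit 0x3f))
  dk := (pget (nat_lit 0x34c1a4924) (nat_lit 6) (nat_lit 0x3f))
  gl := sz8s2_gl
  fg := sz8s2_fg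
  fa := (pget (nat_lit 0x0) (nat_lit 1) (nat_lit 0x1))
  fr := (pget (nat_lit 0xc04802e01) (nat_lit 6) (nat_lit 0x3f))
  fs := (pget (nat_lit 0x439616a3b) (nat_lit 6) (nat_lit 0x3f))
  a := nat_lit 1
  es := [nat_lit 3, nat_lit 4]
  F := nat_lit 62
  c := nat_lit 2
  J := sz8s2_J
  l1 := lget sz8s2_l1
  l2 := fun e => Bool.rec (motive := fun _ => ℕ) ((fun e => Bool.rec (motive := fun _ => ℕ) ((fun _ => nat_lit 0) e) (nat_lit 0xa088a20918a) (Nat.beq e (nat_lit 3))) e) (nat_lit 0xa8029088) (Nat.beq e (nat_lit 4))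

noncomputable def sz8s2L1_g : List ℕ := [nat_lit 0x6c39044821ff1b60db26cb7aff1ee1d1568f, nat_lit 0xe91c4d76fdeb7bc8f2ee3d1468a904482241, nat_lit 0x5e4392ac972089044805b1641d2bf5f9fce6]
noncomputable def sz8s2L1_key : ℕ → ℕ := keyT a2_12.mul sz81_key (nat_lit 0xaeaf39cb55b72deb2357a3f1b9d883444342) (nat_lit 835)
noncomputable def sz8s2L1_kt : ℕ → ℕ := pget (nat_lit 0xfa4f91f5bf57e9ee81e7ee47e23dfbddddb5d9fd08c70c6fc3ec0bbf1bd7b66b5fae1abca96a38a349d996494293590c85e8418368257d07cf78d7307236bb69167d6715f85cd5b658f57c5565145074803431a119412510309b08805d00c000) (nat_lit 12) (nat_lit 0xfff)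
noncomputable def sz8s2L1_bt : ℕ → ℕ := pget (nat_lit 0xfbceb7cf2caeb2a9e592081c6575533cb28a2892491c50c0) (nat_lit 6) (nat_lit 0x3f)
noncomputable def sz8s2L1 : LvD where
  n := nat_lit 64
  g := sz8s2L1_g
  T := [nat_lit 0x6c39044821ff1b60db26cb7aff1ee1d1568f, nat_lit 0xe91c4d76fdeb7bc8f2ee3d1468a904482241, nat_lit 0x5e4392ac972089044805b1641d2bf5f9fce6, nat_lit 0x7719dd5a730eaabe7c72589744eecbd2c6ba, nat_lit 0x33bab4e5a9785f039867b9745dae43d447c2, nat_lit 0xd5a7e1995ed3d0c6aa2ddb27e96a7ef73ddc, nat_lit 0x8d952529712a0b90758fa53129d9f759e2e3, nat_lit 0x3c4b82ec1e20c106087878c65032f9b35e9f, nat_lit 0xac4f02c81ce4712889e67d567cba1ae21c15, nat_lit 0x800400200100080040020010008004002001, nat_lit 0x2afa7ef7381f426213ef0d186a065f9665d3, nat_lit 0xe3fc3661b79d8e75162c2b01e857e19954cf, nat_lit 0x9c55872c6d497ed9bf5763dbba4a47f46dc3, nat_lit 0xf8dcef73e1880e813836fbfefb3ab4e5ad61, nat_lit 0x90f4ae27b82a4392355af2feb333e9bbdef7, nat_lit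 0x3d7b8eeebb69ffddb7f84cc27012a4a52f49, nat_lit 0x7ea9b94f585154d3ef93349c2622ccb2aeb9, nat_lit 0x8ca5292bd395acff2e70f8ae47b323a94e4a, nat_lit 0x9ad4ff336f7edf379c345bc7f8693149d267, nat_lit 0x375bdffa6c3d63781e96e5fb3b487c5723d9, nat_lit 0xb9aee1d15bf2f99ce5527296a4bc5e7639d4, nat_lit 0xdd27898ed73389c46233eab3e5ccad67f976, nat_lit 0xa86e43d447918cd52f8ab47c372feedbb6f4, nat_lit 0xcce72b8bcb50fc8da8eb2c59765f1dca7656, nat_lit 0xb5cfe2d91dde7a38d41581e01905292bda77, nat_lit 0x234a1ae21adbf24c9297d5f739e43521fa26]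
  ab := nat_lit 0x1300400001200301501400300800f00e00200101101000600800300300200800d00c002003001006003006004000001008002007002002002005001001001003000000000000000000000000000
  ia := nat_lit 0x1801600701401201000e00c00a003008002006001004000
  ib := nat_lit 0x400400400400400400400400400400400400400400400400400400400400400400400400400400400400400400400400400400400400400400400400400400400400400400400401901700701501301100f00d00b003002008001006000004
  ent := pget (nat_lit 0xb8c0ad1420070502c200d07d0023810ad30200c07d3c240208e3823c108c242b440ad2423870802c10000503c230808c1023c2080041b470a814200806d28200f06d2021c50c72034000bd0823c00903023c60ad3c2a020a834200a040181b4e0ad34240508c302407080081005040101a0b0800c1f820ee3c230e090342b4308c14200e0402414010a8242f45080000) (nat_lit 18) (nat_lit 0x3ffff)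
  key := sz8s2L1_key
  ks := sz8s2L1_kt
  loc := locB sz8s2L1_key sz8s2L1_kt sz8s2L1_bt (nat_lit 7)

noncomputable def sz8s2L1_fix : ℕ → Bool := fixT a2_12.mul sz81_fix (nat_lit 0xaeaf39cb55b72deb2357a3f1b9d883444342) (nat_lit 0x6ba87155d1f519f0e65733dcba289544f36e)

noncomputable def sz8s2L2_g : List ℕ := []
noncomputable def sz8s2L2_ls : List Lv := []
noncomputable def sz8s2L1_ls : List Lv := sz8s2L1.lv a2_12.mul a2_12.one :: sz8s2L2_ls
noncomputable def sz8s2_aux : List ℕ := [nat_lit 0x6c39044821ff1b60db26cb7aff1ee1d1568f, nat_lit 0xe91c4d76fdeb7bc8f2ee3d1468a904482241, nat_lit 0x5e4392ac972089044805b1641d2bf5f9fce6, nat_lit 0x3c4b82ec1e20c106087878c65032f9b35e9f, nat_lit 0x69e8635541f319c0e257a3f1b9d883444342, nat_lit 0x22ba3ce32cdd7278965d83a0ad04b125db67, nat_lit 0x7419c5587adef23c9423ca32e19b5cfe2d91, nat_lit 0xaeaf39cb55b72deb2357a3f1b9d883444342, nat_lit 0x6ba87155d1f519f0e65733dcba289544f36e]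
theorem sz8s2_sh : sz8s2.shapeOK = true := by decide +kernel
theorem sz8s2_fin : sz8s2.finOK = true := by decide +kernel
theorem sz8s2_rel_0 : allR (sz8s2.relOK a2_12.mul (eqbQ a2_12.mul Nat.beq a2_12.one sz8_zs) a2_12.one) (nat_lit 0) (nat_lit 6) = true := by decide +kernel
theorem sz8s2_rel : ∀ j < nat_lit 6, (sz8s2.relOK a2_12.mul (eqbQ a2_12.mul Nat.beq a2_12.one sz8_zs) a2_12.one) j = true :=
  (allR_step (c := nat_lit 6) (fun _ h => absurd h (Nat.not_lt_zero _)) sz8s2_rel_0 (by decide))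

theorem sz8s2_fus_0 : allR (sz8s2.fusOK a2_12.mul (eqbQ a2_12.mul Nat.beq a2_12.one sz8_zs) a2_12.one) (nat_lit 0) (nat_lit 6) = true := by decide +kernel
theorem sz8s2_fus : ∀ j < nat_lit 6, (sz8s2.fusOK a2_12.mul (eqbQ a2_12.mul Nat.beq a2_12.one sz8_zs) a2_12.one) j = true :=
  (allR_step (c := nat_lit 6) (fun _ h => absurd h (Nat.not_lt_zero _)) sz8s2_fus_0 (by decide))

theorem sz8s2_job_0 : allR sz8s2.jobOK (nat_lit 0) (nat_lit 21) = true := by decide +kernel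
theorem sz8s2_job : ∀ j < nat_lit 21, sz8s2.jobOK j = true :=
  (allR_step (c := nat_lit 21) (fun _ h => absurd h (Nat.not_lt_zero _)) sz8s2_job_0 (by decide))

theorem sz8s2L1_ok : sz8s2L1.ok a2_12.mul (eqbQ a2_12.mul Nat.beq a2_12.one sz8_zs) a2_12.one = true := by decide +kernel
theorem sz8s2L1_next : sz8s2L1.nextOK a2_12.mul a2_12.one sz8s2L2_g (nat_lit 0x0) = true := by decide +kernel
theorem sz8s2L1_fx : allL sz8s2L1_fix sz8s2L2_g = true := by decide +kernel
theorem sz8s2L1_k_0 : allR (kchk sz8s2L1_key (sz8s2L1.lv a2_12.mul a2_12.one).U sz8s2L1_kt (nat_lit 64)) (nat_lit 0) (nat_lit 64) = true := by decide +kernel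
theorem sz8s2L1_k : ∀ j < nat_lit 64, (kchk sz8s2L1_key (sz8s2L1.lv a2_12.mul a2_12.one).U sz8s2L1_kt (nat_lit 64)) j = true :=
  (allR_step (c := nat_lit 64) (fun _ h => absurd h (Nat.not_lt_zero _)) sz8s2L1_k_0 (by decide))

theorem sz8s2_auxok : slpR a2_12.mul a2_12.one (wdsOK a2_12.mul a2_12.one sz8s2_aux [nat_lit 0x101201002702f025027, nat_lit 0x1015012029, nat_lit 0x100800802702f026, nat_lit 0x100502602602502c, nat_lit 0x100801003002502900e, nat_lit 0x100100302901f00e02d, nat_lit 0x100002c02502600e, nat_lit 0x100101203002502900e, nat_lit 0x100801002203000e02e]) (nat_lit 46) (nat_lit 0xf00500000600500500000000300d00f00000000b00a00a02000000400000300002300001300000102101c01301b02000400000000301900000e00000a01b00000100000001700001000000500001400001300001000000200000200300601000f00000800000000100000000a00a008000008003000001005000000003000001001002003001000000) sz8_g = true := by decide +kernel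
theorem sz8s2_sbd {G : Type*} [Group G] (M : Model G) (h1 : M.mul = a2_12.mul) (h2 : M.eqb = (eqbQ a2_12.mul Nat.beq a2_12.one sz8_zs))
    (h3 : M.one = a2_12.one) (vv : ∀ c ∈ sz8_g, M.In ⊤ c) {St : Subgroup G} (k1 : Key M St sz81_key sz81_fix) [Finite G]
    (hN : Nat.card G = 29120) : SBd 2 2 G := by
  obtain ⟨R, one, mul, eqb, a1, a2, a3⟩ := M
  dsimp only at h1 h2 h3
  subst h1 h2 h3
  set M : Model G := ⟨R, a2_12.one, a2_12.mul, (eqbQ a2_12.mul Nat.beq a2_12.one sz8_zs), a1, a2, a3⟩ with hM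
  have va := in_of_slpW (M := M) _ vv sz8s2_auxok
  obtain ⟨tsz8s2L1, hTsz8s2L1⟩ := exists_R va (c := (nat_lit 0xaeaf39cb55b72deb2357a3f1b9d883444342)) (by (try dsimp only [M]); decide +kernel)
  have ksz8s2L1 : Key M (cjS St tsz8s2L1) sz8s2L1_key sz8s2L1_fix := k1.keyT hTsz8s2L1 (R_inv_of hTsz8s2L1 (exists_R va (c := (nat_lit 0x6ba87155d1f519f0e65733dcba289544f36e)) (by (try dsimp only [M]); decide +kernel)) (by (try dsimp only [M]); decide +kernel)) _
  have gsz8s2L1 : ∀ c ∈ sz8s2L1_g, M.In ⊤ c := valid_sub va (by (try dsimp only [M]); decide +kernel)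
  have gsz8s2L2 := LvD.valid_next (D := sz8s2L1) gsz8s2L1 sz8s2L1_ok sz8s2L1_next
  have lsz8s2L1 := LvD.le_next (D := sz8s2L1) gsz8s2L1 sz8s2L1_ok sz8s2L1_next
  have csz8s2L2 : 1 ≤ Nat.card (M.cl sz8s2L2_g) := Nat.card_pos
  have csz8s2L1 : 64 ≤ Nat.card (M.cl sz8s2L1_g) := le_trans (by (try dsimp only [M]); decide +kernel) (LvD.lower (D := sz8s2L1) gsz8s2L1 sz8s2L1_ok csz8s2L2 lsz8s2L1 ksz8s2L1 sz8s2L1_fx sz8s2L1_k)
  exact SchD.sbd M sz8s2 (n := 6) (by norm_num) hN (valid_sub va (by (try dsimp only [M]); decide +kernel)) (valid_sub va (by (try dsimp only [M]); decide +kernel))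
    (le_trans (by norm_num) (csz8s2L1.trans (Subgroup.card_le_of_le (Model.cl_mono (subL_spec (by (try dsimp only [M]); decide +kernel))))))
    (by decide +kernel) sz8s2_sh sz8s2_rel sz8s2_fus sz8s2_job sz8s2_fin

end H29
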