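import Cfsg.Agent.H29.U62M

set_option autoImplicit false
set_option maxRecDepth 100000
set_option linter.style.haveILetI false
set_option linter.unusedVariables false
set_option linter.style.longLine false
set_option linter.unusedTactic false
set_option linter.unreachableTactic false

namespace H29

noncomputable def u62s3_gl : List ℕ := [nat_lit 0x4e7c9e3a625df3aa25704e0c930720fb8a64, nat_lit 0x495c7f2d61bda3e529d0cb08d30b20f54afc, nat_lit 0xca0850b1a635b406c0e739e29e87942fa1a5, nat_lit 0xe8f94a838424b1663d3a725e720e106fcda8, nat_lit 0x10f30aa8e5499037020100303422c1dc6b8d, nat_lit 0x8ea49515d3fbe9c9786a2d517c6e8d615d3f]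
noncomputable def u62s3_fg : List ℕ := [nat_lit 0xc9787e671de3299177b9c6789307207c0e80, nat_lit 0x80040c1283101603d331223619d37b1f63a, nat_lit 0x490c7058af453702e00e3092a2f51a0740ec]
noncomputable def u62s3_J : List Job := [.as (nat_lit 0x10) (nat_lit 0x20) (nat_lit 0x10) (nat_lit 0x1000000000000000),
  .as (nat_lit 0x100) (nat_lit 0x10) (nat_lit 0x20) (nat_lit 0x100000030000000000),
  .as (nat_lit 0x200) (nat_lit 0x100) (nat_lit 0x4) (nat_lit 0x8600000006000000000),
  .as (nat_lit 0x80) (nat_lit 0x40) (nat_lit 0x10) (nat_lit 0x8060000000006000000),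
  .as (nat_lit 0x40) (nat_lit 0x10) (nat_lit 0x20) (nat_lit 0x1013000000003000000),
  .as (nat_lit 0x20) (nat_lit 0x10) (nat_lit 0x4) (nat_lit 0x600108060000000006),
  .as (nat_lit 0x10) (nat_lit 0x4) (nat_lit 0x8) (nat_lit 0x1100101003000000003),
  .as (nat_lit 0x20) (nat_lit 0x10) (nat_lit 0x1) (nat_lit 0x8048010000086000006),
  .as (nat_lit 0x10) (nat_lit 0x1) (nat_lit 0x2) (nat_lit 0x1010010000010000006),
  .as (nat_lit 0x40) (nat_lit 0x10) (nat_lit 0x4) (nat_lit 0x800100100000000000),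
  .as (nat_lit 0x10) (nat_lit 0x4) (nat_lit 0x1) (nat_lit 0x800100800000),
  .fu (nat_lit 0) [nat_lit 0, nat_lit 0, nat_lit 0] [] (nat_lit 0x60000000000000008000),
  .fu (nat_lit 0) [nat_lit 0, nat_lit 1] [nat_lit 1, nat_lit 0] (nat_lit 0x400000000000800),
  .fu (nat_lit 0) [nat_lit 2, nat_lit 1] [nat_lit 1, nat_lit 2] (nat_lit 0x400000000800000000),
  .fu (nat_lit 0) [nat_lit 2, nat_lit 3] [nat_lit 3, nat_lit 2] (nat_lit 0x400000780000000000),
  .fu (nat_lit 1) [nat_lit 4, nat_lit 4, nat_lit 4] [] (nat_lit 0x600006080070000070000083),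
  .fu (nat_lit 1) [nat_lit 5, nat_lit 5, nat_lit 5] [nat_lit 6] (nat_lit 0x16000007037007660674000085),
  .fu (nat_lit 1) [nat_lit 7, nat_lit 4] [nat_lit 4, nat_lit 7, nat_lit 6] (nat_lit 0x10000008000060000000000006),
  .fu (nat_lit 2) [nat_lit 8, nat_lit 8, nat_lit 8] [nat_lit 9] (nat_lit 0x16000000006133887547784788681),
  .fu (nat_lit 2) [nat_lit 10, nat_lit 11] [nat_lit 11, nat_lit 10, nat_lit 9] (nat_lit 0x10000000000800000007000000001)]
noncomputable def u62s3_l1 : List ℕ := [nat_lit 0x0, nat_lit 0x20000001000102000, nat_lit 0x20000022002100, nat_lit 0x2000000000000, nat_lit 0x122102101220200101111, nat_lit 0x200220022002100, nat_lit 0x2120000002212101211, nat_lit 0x2100001010, nat_lit 0x200000000000100, nat_lit 0x1000000000000000000000, nat_lit 0x2000010011001100, nat_lit 0x10011001000, nat_lit 0x21002100, nat_lit 0x2200202020, nat_lit 0x22002100, nat_lit 0x10, nat_lit 0x101000, nat_lit 0x100, nat_lit 0x2000]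
noncomputable def u62s3 : SchD where
  P := ⟨nat_lit 3, nat_lit 2, nat_lit 6, nat_lit 13, nat_lit 5, nat_lit 31, (pget (nat_lit 0x1280118010800f800e800d0000000c200b200aa0092008000000000007880608058800000000000000800422000a00000000000000000000030082000000000000000000000001) (nat_lit 16) (nat_lit 0xffff))⟩
  m1 := nat_lit 19
  nf := nat_lit 12
  rv := (pget (nat_lit 0x238a181f79c6da6585544ce1c6000) (nat_lit 6) (nat_lit 0x3f))
  dk := (pget (nat_lit 0x48d324924) (nat_lit 6) (nat_lit 0x3f))
  gl := u62s3_gl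
  fg := u62s3_fg
  fa := (pget (nat_lit 0xaa5500) (nat_lit 2) (nat_lit 0x3))
  fr := (pget (nat_lit 0x2102000100810000800102040000804) (nat_lit 11) (nat_lit 0x7ff))
  fs := (pget (nat_lit 0x504200800125880400251482950200801008) (nat_lit 12) (nat_lit 0xfff))
  a := nat_lit 1
  es := [nat_lit 9]
  F := nat_lit 207
  c := nat_lit 4
  J := u62s3_J
  l1 := lget u62s3_l1
  l2 := fun e => Bool.rec (motive := fun _ => ℕ) ((fun _ => nat_lit 0) e) (nat_lit 0x6360000006636615333) (Nat.beq e (nat_lit 9))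

noncomputable def u62s3L1_g : List ℕ := [nat_lit 0x4e7c9e3a625df3aa25704e0c930720fb8a64, nat_lit 0x495c7f2d61bda3e529d0cb08d30b20f54afc, nat_lit 0xca0850b1a635b406c0e739e29e87942fa1a5]
noncomputable def u62s3L1_key : ℕ → ℕ := keyT a2_12.mul u621_key (nat_lit 0x476ced63bd26e01903d62bd11133327fcea8) (nat_lit 179127)
noncomputable def u62s3L1_kt : ℕ → ℕ := pget (nat_lit 0x3fafcc4212f5d4b896ac88f8d24a1ade085740000) (nat_lit 18) (nat_lit 0x3ffff)
noncomputable def u62s3L1_bt : ℕ → ℕ := pget (nat_lit 0xe90) (nat_lit 3) (nat_lit 0x7)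
noncomputable def u62s3L1 : LvD where
  n := nat_lit 9
  g := u62s3L1_g
  T := [nat_lit 0x4e7c9e3a625df3aa25704e0c930720fb8a64, nat_lit 0x495c7f2d61bda3e529d0cb08d30b20f54afc, nat_lit 0xca0850b1a635b406c0e739e29e87942fa1a5, nat_lit 0xc798e715d3fb602d01a455cffb2a61680d40, nat_lit 0xc9587f2bd16b903702f47acef53af2e80940, nat_lit 0x1c338237f2ea74fecade4b9c08e049a19537, nat_lit 0x441cc36ced8933422c483c42d91b73c99877, nat_lit 0x698d7416e3d98f54afb1963720a105212131, nat_lit 0x800400200100080040020010008004002001, nat_lit 0xcc3882a1653dcad85bcb9867554ffc1693d7, nat_lit 0x65cdf820f10a4afc5a39e27936e2d96f3da2, nat_lit 0x8ba4651d53bf433c22d1fb3adcab85c28814, nat_lit 0x8d54bf33c22890470c772ee1b1a635b586f4]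
  ab := nat_lit 0x300a009000007004001002001004006006005005002002001001000000000000000000000000
  ia := nat_lit 0xb009007002004001003000
  ib := nat_lit 0x300300300300300300300300300300300300300300300300300300300300300300300300300300300300300300300300300300300300300300300300300300300300300300300300300300300300300300300300c00a002007001004000003
  ent := pget (nat_lit 0x70c20302c30e0a100c1228446080408000) (nat_lit 15) (nat_lit 0x7fff)
  key := u62s3L1_key
  ks := u62s3L1_kt
  loc := locB u62s3L1_key u62s3L1_kt u62s3L1_bt (nat_lit 16)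

noncomputable def u62s3L1_fix : ℕ → Bool := fixT a2_12.mul u621_fix (nat_lit 0x476ced63bd26e01903d62bd11133327fcea8) (nat_lit 0xaf25a116b3d6823412f1ba3690370279ce78)

noncomputable def u62s3L2_g : List ℕ := [nat_lit 0x689d474fdcab74eec92311237c6e8db546fc, nat_lit 0xcc3882d89b4722c118c428c1b736e28774ee]
noncomputable def u62s3L2_key : ℕ → ℕ := keyT a2_12.mul u621_key (nat_lit 0x780e44d9cb7470ce0fc5a8fd26b1d7d8eb4) (nat_lit 41321)
noncomputable def u62s3L2_kt : ℕ → ℕ := pget (nat_lit 0xf884d2510000) (nat_lit 16) (nat_lit 0xffff)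
noncomputable def u62s3L2_bt : ℕ → ℕ := pget (nat_lit 0x0) (nat_lit 1) (nat_lit 0x1)
noncomputable def u62s3L2 : LvD where
  n := nat_lit 3
  g := u62s3L2_g
  T := [nat_lit 0x689d474fdcab74eec92311237c6e8db546fc, nat_lit 0xcc3882d89b4722c118c428c1b736e28774ee, nat_lit 0xfcea898654df9c778e11333294f7cafb8a64, nat_lit 0xbec6982b716ec5a8f5d2eb1930f20a323212, nat_lit 0xb1063be1693eb496c3122313ed29bfc6a8d, nat_lit 0x51af3538424c63fd2a08504f2431c2725e1f]
  ab := nat_lit 0x4004003003001001000000000000000000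
  ia := nat_lit 0x5001002000
  ib := nat_lit 0x2002002002002002002002002002002002002002002002002002002002002002002002002002002002002002002002002002002002002002002002002002002002002002002002002002002002002002002002002002002002001005000002
  ent := pget (nat_lit 0x81c100) (nat_lit 8) (nat_lit 0xff)
  key := u62s3L2_key
  ks := u62s3L2_kt
  loc := locB u62s3L2_key u62s3L2_kt u62s3L2_bt (nat_lit 16)

noncomputable def u62s3L2_fix : ℕ → Bool := fixT a2_12.mul u621_fix (nat_lit 0x780e44d9cb7470ce0fc5a8fd26b1d7d8eb4) (nat_lit 0x1693d702601d662dd198d74bf17a3e11c338)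

noncomputable def u62s3L3_g : List ℕ := [nat_lit 0x4e7c9e3a625df3aa25704e0c930720fb8a64, nat_lit 0xfcea898654df9c778e11333294f7cafb8a64]
noncomputable def u62s3L3_key : ℕ → ℕ := keyT a2_12.mul u621_key (nat_lit 0xeca9853702e0b4b6c6eb496c409c07658df4) (nat_lit 78965)
noncomputable def u62s3L3_kt : ℕ → ℕ := pget (nat_lit 0x3fb7ae9b15d5834ec84a9f21845c20c501cdc0000) (nat_lit 18) (nat_lit 0x3ffff)
noncomputable def u62s3L3_bt : ℕ → ℕ := pget (nat_lit 0xfe8) (nat_lit 3) (nat_lit 0x7)
noncomputable def u62s3L3 : LvD where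
  n := nat_lit 9
  g := u62s3L3_g
  T := [nat_lit 0x4e7c9e3a625df3aa25704e0c930720fb8a64, nat_lit 0xfcea898654df9c778e11333294f7cafb8a64, nat_lit 0xc798e715d3fb602d01a455cffb2a61680d40, nat_lit 0x689d474fdcab74eec92311237c6e8db546fc, nat_lit 0x5d4fbc8f04a0c18834b9c678930720002001, nat_lit 0xe689d4c1c838520f10df4bacc90870002001, nat_lit 0xd35b2f482c411593f798d74b753ef2680d40, nat_lit 0x72fe1acf68ad2ee1994ccc88c90870ef49ac, nat_lit 0x3c3282482c41d54bfcd8bb46da3b52b2b616, nat_lit 0x3562fd4fdcab6e8d940ca0850e2091615d3f]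
  ab := nat_lit 0x3000002001002003001000001002000003001001000000000000000000
  ia := nat_lit 0x8007006004003001002000
  ib := nat_lit 0x2002002002002002002002002002002002002002002002002002002002002002002002002002002002002002002002002002002002002002002002002002002002002002002002002002002002002002002002009006007005001003000002
  ent := pget (nat_lit 0x141008341080408181000207078a10000) (nat_lit 15) (nat_lit 0x7fff)
  key := u62s3L3_key
  ks := u62s3L3_kt
  loc := locB u62s3L3_key u62s3L3_kt u62s3L3_bt (nat_lit 16)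

noncomputable def u62s3L3_fix : ℕ → Bool := fixT a2_12.mul u621_fix (nat_lit 0xeca9853702e0b4b6c6eb496c409c07658df4) (nat_lit 0xc7a8e57d1eb3e92971332221465cdf4c8c84)

noncomputable def u62s3L4_g : List ℕ := [nat_lit 0x7c5e8fc1c838d2bb161f93a7930720b546fc]
noncomputable def u62s3L4_key : ℕ → ℕ := keyT a2_12.mul u621_key (nat_lit 0x3662dd1eb3963f62adb0460c601d03c0b806) (nat_lit 183138)
noncomputable def u62s3L4_kt : ℕ → ℕ := pget (nat_lit 0x31eff844040000) (nat_lit 18) (nat_lit 0x3ffff)
noncomputable def u62s3L4_bt : ℕ → ℕ := pget (nat_lit 0x0) (nat_lit 1) (nat_lit 0x1)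
noncomputable def u62s3L4 : LvD where
  n := nat_lit 3
  g := u62s3L4_g
  T := [nat_lit 0x7c5e8fc1c838d2bb161f93a7930720b546fc, nat_lit 0xd4abc54fdcab413c3239727eda3b52c708e0]
  ab := nat_lit 0x0
  ia := nat_lit 0x1000
  ib := nat_lit 0x1001001001001001001001001001001001001001001001001001001001001001001001001001001001001001001001001001001001001001001001001001001001001001001001001001001001001001001001001001001001001001000001
  ent := pget (nat_lit 0x6080) (nat_lit 7) (nat_lit 0x7f)
  key := u62s3L4_key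
  ks := u62s3L4_kt
  loc := locB u62s3L4_key u62s3L4_kt u62s3L4_bt (nat_lit 18)

noncomputable def u62s3L4_fix : ℕ → Bool := fixT a2_12.mul u621_fix (nat_lit 0x3662dd1eb3963f62adb0460c601d03c0b806) (nat_lit 0x3602d9ac758680d40f80a40753ef2ec698d)

noncomputable def u62s3L5_g : List ℕ := []
noncomputable def u62s3L5_ls : List Lv := []
noncomputable def u62s3L4_ls : List Lv := u62s3L4.lv a2_12.mul a2_12.one :: u62s3L5_ls
noncomputable def u62s3L3_ls : List Lv := u62s3L3.lv a2_12.mul a2_12.one :: u62s3L4_ls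
noncomputable def u62s3L2_ls : List Lv := u62s3L2.lv a2_12.mul a2_12.one :: u62s3L3_ls
noncomputable def u62s3L1_ls : List Lv := u62s3L1.lv a2_12.mul a2_12.one :: u62s3L2_ls
noncomputable def u62s3_aux : List ℕ := [nat_lit 0x4e7c9e3a625df3aa25704e0c930720fb8a64, nat_lit 0x495c7f2d61bda3e529d0cb08d30b20f54afc, nat_lit 0xca0850b1a635b406c0e739e29e87942fa1a5, nat_lit 0xe8f94a838424b1663d3a725e720e106fcda8, nat_lit 0x10f30aa8e5499037020100303422c1dc6b8d, nat_lit 0x8ea49515d3fbe9c9786a2d517c6e8d615d3f, nat_lit 0xc9787e671de3299177b9c6789307207c0e80, nat_lit 0x80040c1283101603d331223619d37b1f63a, nat_lit 0x490c7058af453702e00e3092a2f51a0740ec, nat_lit 0x476ced63bd26e01903d62bd11133327fcea8, nat_lit 0xaf25a116b3d6823412f1ba3690370279ce78, nat_lit 0x780e44d9cb7470ce0fc5a8fd26b1d7d8eb4, nat_lit 0x1693d702601d662dd198d74bf17a3e11c338, nat_lit 0xeca9853702e0b4b6c6eb496c409c07658df4, nat_lit 0xc7a8e57d1eb3e92971332221465cdf4c8c84, nat_lit 0x3662dd1eb3963f62adb0460c601d03c0b806, nat_lit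 0x3602d9ac758680d40f80a40753ef2ec698d]
theorem u62s3_sh : u62s3.shapeOK = true := by decide +kernel
theorem u62s3_fin : u62s3.finOK = true := by decide +kernel
theorem u62s3_rel_0 : allR (u62s3.relOK a2_12.mul (eqbQ a2_12.mul Nat.beq a2_12.one u62_zs) a2_12.one) (nat_lit 0) (nat_lit 6) = true := by decide +kernel
theorem u62s3_rel : ∀ j < nat_lit 6, (u62s3.relOK a2_12.mul (eqbQ a2_12.mul Nat.beq a2_12.one u62_zs) a2_12.one) j = true :=
  (allR_step (c := nat_lit 6) (fun _ h => absurd h (Nat.not_lt_zero _)) u62s3_rel_0 (by decide))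

theorem u62s3_fus_0 : allR (u62s3.fusOK a2_12.mul (eqbQ a2_12.mul Nat.beq a2_12.one u62_zs) a2_12.one) (nat_lit 0) (nat_lit 12) = true := by decide +kernel
theorem u62s3_fus : ∀ j < nat_lit 12, (u62s3.fusOK a2_12.mul (eqbQ a2_12.mul Nat.beq a2_12.one u62_zs) a2_12.one) j = true :=
  (allR_step (c := nat_lit 12) (fun _ h => absurd h (Nat.not_lt_zero _)) u62s3_fus_0 (by decide))

theorem u62s3_job_0 : allR u62s3.jobOK (nat_lit 0) (nat_lit 20) = true := by decide +kernel
theorem u62s3_job : ∀ j < nat_lit 20, u62s3.jobOK j = true :=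
  (allR_step (c := nat_lit 20) (fun _ h => absurd h (Nat.not_lt_zero _)) u62s3_job_0 (by decide))

theorem u62s3L1_ok : u62s3L1.ok a2_12.mul (eqbQ a2_12.mul Nat.beq a2_12.one u62_zs) a2_12.one = true := by decide +kernel
theorem u62s3L1_next : u62s3L1.nextOK a2_12.mul a2_12.one u62s3L2_g (nat_lit 0x6000004000002000002000000000002) = true := by decide +kernel
theorem u62s3L1_fx : allL u62s3L1_fix u62s3L2_g = true := by decide +kernel
theorem u62s3L1_k_0 : allR (kchk u62s3L1_key (u62s3L1.lv a2_12.mul a2_12.one).U u62s3L1_kt (nat_lit 9)) (nat_lit 0) (nat_lit 9) = true := by decide +kernel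
theorem u62s3L1_k : ∀ j < nat_lit 9, (kchk u62s3L1_key (u62s3L1.lv a2_12.mul a2_12.one).U u62s3L1_kt (nat_lit 9)) j = true :=
  (allR_step (c := nat_lit 9) (fun _ h => absurd h (Nat.not_lt_zero _)) u62s3L1_k_0 (by decide))

theorem u62s3L2_ok : u62s3L2.ok a2_12.mul (eqbQ a2_12.mul Nat.beq a2_12.one u62_zs) a2_12.one = true := by decide +kernel
theorem u62s3L2_next : u62s3L2.nextOK a2_12.mul a2_12.one u62s3L3_g (nat_lit 0x2000000000001000000000001) = true := by decide +kernel
theorem u62s3L2_fx : allL u62s3L2_fix u62s3L3_g = true := by decide +kernel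
theorem u62s3L2_k_0 : allR (kchk u62s3L2_key (u62s3L2.lv a2_12.mul a2_12.one).U u62s3L2_kt (nat_lit 3)) (nat_lit 0) (nat_lit 3) = true := by decide +kernel
theorem u62s3L2_k : ∀ j < nat_lit 3, (kchk u62s3L2_key (u62s3L2.lv a2_12.mul a2_12.one).U u62s3L2_kt (nat_lit 3)) j = true :=
  (allR_step (c := nat_lit 3) (fun _ h => absurd h (Nat.not_lt_zero _)) u62s3L2_k_0 (by decide))

theorem u62s3L3_ok : u62s3L3.ok a2_12.mul (eqbQ a2_12.mul Nat.beq a2_12.one u62_zs) a2_12.one = true := by decide +kernel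
theorem u62s3L3_next : u62s3L3.nextOK a2_12.mul a2_12.one u62s3L4_g (nat_lit 0x2000006000002) = true := by decide +kernel
theorem u62s3L3_fx : allL u62s3L3_fix u62s3L4_g = true := by decide +kernel
theorem u62s3L3_k_0 : allR (kchk u62s3L3_key (u62s3L3.lv a2_12.mul a2_12.one).U u62s3L3_kt (nat_lit 9)) (nat_lit 0) (nat_lit 9) = true := by decide +kernel
theorem u62s3L3_k : ∀ j < nat_lit 9, (kchk u62s3L3_key (u62s3L3.lv a2_12.mul a2_12.one).U u62s3L3_kt (nat_lit 9)) j = true :=
  (allR_step (c := nat_lit 9) (fun _ h => absurd h (Nat.not_lt_zero _)) u62s3L3_k_0 (by decide))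

theorem u62s3L4_ok : u62s3L4.ok a2_12.mul (eqbQ a2_12.mul Nat.beq a2_12.one u62_zs) a2_12.one = true := by decide +kernel
theorem u62s3L4_next : u62s3L4.nextOK a2_12.mul a2_12.one u62s3L5_g (nat_lit 0x0) = true := by decide +kernel
theorem u62s3L4_fx : allL u62s3L4_fix u62s3L5_g = true := by decide +kernel
theorem u62s3L4_k_0 : allR (kchk u62s3L4_key (u62s3L4.lv a2_12.mul a2_12.one).U u62s3L4_kt (nat_lit 3)) (nat_lit 0) (nat_lit 3) = true := by decide +kernel
theorem u62s3L4_k : ∀ j < nat_lit 3, (kchk u62s3L4_key (u62s3L4.lv a2_12.mul a2_12.one).U u62s3L4_kt (nat_lit 3)) j = true :=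
  (allR_step (c := nat_lit 3) (fun _ h => absurd h (Nat.not_lt_zero _)) u62s3L4_k_0 (by decide))

theorem u62s3_auxok : slpR a2_12.mul a2_12.one (wdsOK a2_12.mul a2_12.one u62s3_aux [nat_lit 0x101703403f04605507506f09609e0a2, nat_lit 0x100a02203f04606507001307509901609e096, nat_lit 0x101702202904f04505807007400509e0a3006008, nat_lit 0x101702600b02904c05505105207d00309901609e096, nat_lit 0x100203f02e04f04507d01400509e09d09809e, nat_lit 0x100202203f05505106500400409e09d08f, nat_lit 0x101702602204605105105805206f07d09e0a0001008, nat_lit 0x102603f02904c05806500501409f09709e006, nat_lit 0x101700a02203904e04e07200309f00709e09a09e09b, nat_lit 0x101702600b01d04605506507d0730a1087, nat_lit 0x101701903f04605105207201500509f0970a1, nat_lit 0x101703401d02204604e04e00406f09f08909e08f, nat_lit 0x101700202205506507301409e087096, nat_lit 0x102204e055045000088087, nat_lit 0x101700a02203f02e04c05807006f0a3088, nat_lit 0x101700a02202905105504c05207007509f0a2, nat_lit 0x101903f04e05805106507d01307d09f097007])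 (nat_lit 157) (nat_lit 0x7c07308e08e00803100007107006b06906e00008008809200008e09709900e00001100001500000100003001303e00004700003f00004303705b00005c00005c05e08307800100001b00d00001a00200000600001900503000003200003500002e00002d00b03500002a00002a00000d02f00200001100000501601b00002a00002500000600002a01e01f00002100002400001a00002500001d01a00a00000000301500000d00001501801200001a00001500001b00001300001600f00e00001700000300000b00001100000a00700600900800000d00000500000700000100000c00300000100000000300b00000100000000800000001200000001001000000200000000000000c00000000b00000400000200000000000000000001d00001000001300000000d00800000b00b00c00000b00000d00001400001300000001200000900800000000000100600000200000000b00b00000000000900000002800002200001f00002500000200002900002502201002502000002200000600001d00001400000600001a00000500001800c00800000600001600800601700000400000200001201300b00a01400000801100000700f00000200000b00700d00200e00000300c000002000006002004000006000000006) u62_g = true := by decide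 +kernel
theorem u62s3_sbd {G : Type*} [Group G] (M : Model G) (h1 : M.mul = a2_12.mul) (h2 : M.eqb = (eqbQ a2_12.mul Nat.beq a2_12.one u62_zs))
    (h3 : M.one = a2_12.one) (vv : ∀ c ∈ u62_g, M.In ⊤ c) {St : Subgroup G} (k1 : Key M St u621_key u621_fix) [Finite G]
    (hN : Nat.card G = 9196830720) : SBd 3 1 G := by
  obtain ⟨R, one, mul, eqb, a1, a2, a3⟩ := M
  dsimp only at h1 h2 h3
  subst h1 h2 h3
  set M : Model G := ⟨R, a2_12.one, a2_12.mul, (eqbQ a2_12.mul Nat.beq a2_12.one u62_zs), a1, a2, a3⟩ with hM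
  have va := in_of_slpW (M := M) _ vv u62s3_auxok
  obtain ⟨tu62s3L1, hTu62s3L1⟩ := exists_R va (c := (nat_lit 0x476ced63bd26e01903d62bd11133327fcea8)) (by (try dsimp only [M]); decide +kernel)
  have ku62s3L1 : Key M (cjS St tu62s3L1) u62s3L1_key u62s3L1_fix := k1.keyT hTu62s3L1 (R_inv_of hTu62s3L1 (exists_R va (c := (nat_lit 0xaf25a116b3d6823412f1ba3690370279ce78)) (by (try dsimp only [M]); decide +kernel)) (by (try dsimp only [M]); decide +kernel)) _
  obtain ⟨tu62s3L2, hTu62s3L2⟩ := exists_R va (c := (nat_lit 0x780e44d9cb7470ce0fc5a8fd26b1d7d8eb4)) (by (try dsimp only [M]); decide +kernel)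
  have ku62s3L2 : Key M (cjS St tu62s3L2) u62s3L2_key u62s3L2_fix := k1.keyT hTu62s3L2 (R_inv_of hTu62s3L2 (exists_R va (c := (nat_lit 0x1693d702601d662dd198d74bf17a3e11c338)) (by (try dsimp only [M]); decide +kernel)) (by (try dsimp only [M]); decide +kernel)) _
  obtain ⟨tu62s3L3, hTu62s3L3⟩ := exists_R va (c := (nat_lit 0xeca9853702e0b4b6c6eb496c409c07658df4)) (by (try dsimp only [M]); decide +kernel)
  have ku62s3L3 : Key M (cjS St tu62s3L3) u62s3L3_key u62s3L3_fix := k1.keyT hTu62s3L3 (R_inv_of hTu62s3L3 (exists_R va (c := (nat_lit 0xc7a8e57d1eb3e92971332221465cdf4c8c84)) (by (try dsimp only [M]); decide +kernel)) (by (try dsimp only [M]); decide +kernel)) _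
  obtain ⟨tu62s3L4, hTu62s3L4⟩ := exists_R va (c := (nat_lit 0x3662dd1eb3963f62adb0460c601d03c0b806)) (by (try dsimp only [M]); decide +kernel)
  have ku62s3L4 : Key M (cjS St tu62s3L4) u62s3L4_key u62s3L4_fix := k1.keyT hTu62s3L4 (R_inv_of hTu62s3L4 (exists_R va (c := (nat_lit 0x3602d9ac758680d40f80a40753ef2ec698d)) (by (try dsimp only [M]); decide +kernel)) (by (try dsimp only [M]); decide +kernel)) _
  have gu62s3L1 : ∀ c ∈ u62s3L1_g, M.In ⊤ c := valid_sub va (by (try dsimp only [M]); decide +kernel)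
  have gu62s3L2 := LvD.valid_next (D := u62s3L1) gu62s3L1 u62s3L1_ok u62s3L1_next
  have lu62s3L1 := LvD.le_next (D := u62s3L1) gu62s3L1 u62s3L1_ok u62s3L1_next
  have gu62s3L3 := LvD.valid_next (D := u62s3L2) gu62s3L2 u62s3L2_ok u62s3L2_next
  have lu62s3L2 := LvD.le_next (D := u62s3L2) gu62s3L2 u62s3L2_ok u62s3L2_next
  have gu62s3L4 := LvD.valid_next (D := u62s3L3) gu62s3L3 u62s3L3_ok u62s3L3_next
  have lu62s3L3 := LvD.le_next (D := u62s3L3) gu62s3L3 u62s3L3_ok u62s3L3_next
  have gu62s3L5 := LvD.valid_next (D := u62s3L4) gu62s3L4 u62s3L4_ok u62s3L4_next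
  have lu62s3L4 := LvD.le_next (D := u62s3L4) gu62s3L4 u62s3L4_ok u62s3L4_next
  have cu62s3L5 : 1 ≤ Nat.card (M.cl u62s3L5_g) := Nat.card_pos
  have cu62s3L4 : 3 ≤ Nat.card (M.cl u62s3L4_g) := le_trans (by (try dsimp only [M]); decide +kernel) (LvD.lower (D := u62s3L4) gu62s3L4 u62s3L4_ok cu62s3L5 lu62s3L4 ku62s3L4 u62s3L4_fx u62s3L4_k)
  have cu62s3L3 : 27 ≤ Nat.card (M.cl u62s3L3_g) := le_trans (by (try dsimp only [M]); decide +kernel) (LvD.lower (D := u62s3L3) gu62s3L3 u62s3L3_ok cu62s3L4 lu62s3L3 ku62s3L3 u62s3L3_fx u62s3L3_k)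
  have cu62s3L2 : 81 ≤ Nat.card (M.cl u62s3L2_g) := le_trans (by (try dsimp only [M]); decide +kernel) (LvD.lower (D := u62s3L2) gu62s3L2 u62s3L2_ok cu62s3L3 lu62s3L2 ku62s3L2 u62s3L2_fx u62s3L2_k)
  have cu62s3L1 : 729 ≤ Nat.card (M.cl u62s3L1_g) := le_trans (by (try dsimp only [M]); decide +kernel) (LvD.lower (D := u62s3L1) gu62s3L1 u62s3L1_ok cu62s3L2 lu62s3L1 ku62s3L1 u62s3L1_fx u62s3L1_k)
  exact SchD.sbd M u62s3 (n := 6) (by norm_num) hN (valid_sub va (by (try dsimp only [M]); decide +kernel)) (valid_sub va (by (try dsimp only [M]); decide +kernel))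
    (le_trans (by norm_num) (cu62s3L1.trans (Subgroup.card_le_of_le (Model.cl_mono (subL_spec (by (try dsimp only [M]); decide +kernel))))))
    (by decide +kernel) u62s3_sh u62s3_rel u62s3_fus u62s3_job u62s3_fin

end H29
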